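import Groth.Agent.H11Ample.Ample
import Groth.Prelude.Def_Curv2

/-!
# Global generation of twists by powers of an ample module
-/

set_option autoImplicit false
set_option linter.style.haveILetI false

noncomputable section

universe u

open CategoryTheory CategoryTheory.Limits AlgebraicGeometry Opposite TopologicalSpace
open Groth.Agent.H11Tilde

namespace Groth.Agent.H11Ample

variable {X : Scheme.{u}} {L F : X.Modules}

/-- Global sections whose restrictions span all sections locally generate. -/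
theorem isGloballyGenerated_of_locally (F : X.Modules) {ι : Type u} (g : ι → Γ(F, ⊤))
    (h : ∀ (W : X.Opens) (t : Γ(F, W)), ∀ x ∈ W, ∃ (V : X.Opens) (hV : V ≤ W), x ∈ V ∧
      F.presheaf.map (homOfLE hV).op t ∈ Submodule.span Γ(X, V)
        (Set.range fun i => F.presheaf.map (homOfLE (le_top : V ≤ ⊤)).op (g i))) :
    Curv2.IsGloballyGenerated F := by
  obtain ⟨a, ha⟩ := H10Coh.exists_free_desc (X := X) (N := F) fun i => homOfGlobal F (g i)
  refine ⟨ι, a, ?_⟩
  refine epi_of_locally_surjective a fun W t x hx => ?_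
  obtain ⟨V, hV, hxV, ht⟩ := h W t x hx
  refine ⟨V, hV, hxV, ?_⟩
  generalize F.presheaf.map (homOfLE hV).op t = t' at ht ⊢
  induction ht using Submodule.span_induction with
  | mem y hy =>
    obtain ⟨i, rfl⟩ := hy
    refine ⟨(H10Coh.freeIncl ι i).app V (one V), ?_⟩
    refine (congr($(congrArg (fun k => Scheme.Modules.Hom.app k V) (ha i)) (one V))).trans ?_
    change (1 : Γ(X, V)) • F.presheaf.map (homOfLE (le_top : V ≤ ⊤)).op (g i) = _
    rw [one_smul]
  | zero => exact ⟨0, map_zero _⟩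
  | add y z _ _ hy hz =>
    obtain ⟨y', rfl⟩ := hy
    obtain ⟨z', rfl⟩ := hz
    exact ⟨y' + z', map_add _ _ _⟩
  | smul r y _ hy =>
    obtain ⟨y', rfl⟩ := hy
    exact ⟨r • y', Scheme.Modules.Hom.app_smul _ _ _⟩

theorem exists_extend_pow [CompactSpace X] [QuasiSeparatedSpace X] (hL : PicF.IsInvertible L) (hF : Coh.IsQCoh F)
    {k : ℕ} (hk : 0 < k) (s : Γ(CohB1.tensorPow L k, ⊤)) {e : Γ(L, gen (CohB1.tensorPow L k) s)} (he : IsGen L e)
    (m : Γ(F, gen (CohB1.tensorPow L k) s)) :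
    ∃ N, ∀ n, N ≤ n → ∃ (S : Γ(CohB1.tensorMod F (CohB1.tensorPow L n), ⊤))
      (c : Γ(X, gen (CohB1.tensorPow L k) s)), IsUnit c ∧
        (CohB1.tensorMod F (CohB1.tensorPow L n)).presheaf.map
          (homOfLE (le_top : gen (CohB1.tensorPow L k) s ≤ ⊤)).op S = tm (c • m) (spow e n) := by
  let G := gen (CohB1.tensorPow L k) s
  obtain ⟨c, hc⟩ := exists_coeff (isGen_spow he k) ((CohB1.tensorPow L k).presheaf.map (homOfLE (le_top : G ≤ ⊤)).op s)
  have hcu : IsUnit c := X.toRingedSpace.isUnit_of_isUnit_germ G c fun y hy =>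
    (X.mem_basicOpen c y hy).1 ((gen_inf_eq_basicOpen (isGen_spow he k) s c hc).le ⟨hy, hy⟩)
  choose N hN using fun r : Fin k => exists_extend hL hF k r.1 s (tm m (spow e r.1))
  refine ⟨k * (Finset.univ.sup N + 1), fun n hn => ?_⟩
  have key : ∀ (n r q : ℕ), n = r + q * k → r < k → Finset.univ.sup N ≤ q →
      ∃ S : Γ(CohB1.tensorMod F (CohB1.tensorPow L n), ⊤),
        (CohB1.tensorMod F (CohB1.tensorPow L n)).presheaf.map (homOfLE (le_top : G ≤ ⊤)).op S =
          tm (c ^ q • m) (spow e n) := by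
    rintro n r q rfl hr hq
    obtain ⟨S, hS⟩ := hN ⟨r, hr⟩ q ((Finset.le_sup (Finset.mem_univ _)).trans hq)
    exact ⟨S, hS G le_rfl e m c he (H10Coh.mres_self _ _ _) hc⟩
  obtain ⟨S, hS⟩ := key n (n % k) (n / k) (Nat.mod_add_div' n k).symm (Nat.mod_lt _ hk)
    ((Nat.le_div_iff_mul_le hk).2 (le_trans (by rw [mul_comm]; exact Nat.mul_le_mul_left k (Nat.le_succ _)) hn))
  exact ⟨S, c ^ (n / k), hcu.pow _, hS⟩

theorem eventually_spanning [CompactSpace X] [QuasiSeparatedSpace X] (hA : CohB1.IsAmple L)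
    (hF : Coh.IsCoh F) :
    ∃ n₀ : ℕ, ∀ n, n₀ ≤ n → ∃ (ι : Type u) (_ : Fintype ι)
      (g : ι → Γ(CohB1.tensorMod F (CohB1.tensorPow L n), ⊤)),
      ∀ (W : X.Opens) (t : Γ(CohB1.tensorMod F (CohB1.tensorPow L n), W)), ∀ x ∈ W, ∃ (V : X.Opens) (hV : V ≤ W),
        x ∈ V ∧ (CohB1.tensorMod F (CohB1.tensorPow L n)).presheaf.map (homOfLE hV).op t ∈ Submodule.span Γ(X, V)
          (Set.range fun i => (CohB1.tensorMod F (CohB1.tensorPow L n)).presheaf.map
            (homOfLE (le_top : V ≤ ⊤)).op (g i)) := by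
  classical
  obtain ⟨hL, -, -⟩ := isAmple_iff.1 hA
  haveI : F.IsQuasicoherent := hF.1
  have loc : ∀ x : X, ∃ (k : ℕ) (s : Γ(CohB1.tensorPow L k, ⊤)) (e : Γ(L, gen (CohB1.tensorPow L k) s)),
      0 < k ∧ x ∈ gen (CohB1.tensorPow L k) s ∧ IsAffineOpen (gen (CohB1.tensorPow L k) s) ∧ IsGen L e := fun x => by
    obtain ⟨V, e, hxV, he⟩ := exists_gen hL x
    obtain ⟨k, s, hk, hxs, hsV, hs⟩ := exists_affine_gen_le hA hxV
    exact ⟨k, s, _, hk, hxs, hs, he.res hsV⟩
  choose k s e hk hxs hs he using loc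
  obtain ⟨T, hT⟩ := CompactSpace.elim_nhds_subcover (fun x => (gen (CohB1.tensorPow L (k x)) (s x) : Set X))
    (fun x => (gen _ (s x)).isOpen.mem_nhds (hxs x))
  have hfg : ∀ x : X, (⊤ : Submodule Γ(X, gen (CohB1.tensorPow L (k x)) (s x)) Γ(F, gen _ (s x))).FG := fun x =>
    ((H10Coh.isCoh_iff_finite_sections F).1 hF).2 _ (hs x) |>.fg_top
  choose card m hm using fun x => Submodule.fg_iff_exists_fin_generating_family.1 (hfg x)
  let ι : Type u := Σ x : {x // x ∈ T}, ULift.{u} (Fin (card x.1))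
  haveI : Fintype ι := Fintype.ofFinite ι
  choose N hN using fun i : ι => exists_extend_pow hL hF.1 (hk i.1.1) (s i.1.1) (he i.1.1) (m i.1.1 i.2.down)
  refine ⟨Finset.univ.sup N, fun n hn => ?_⟩
  choose S c hc hS using fun i : ι => hN i n ((Finset.le_sup (Finset.mem_univ i)).trans hn)
  refine ⟨ι, inferInstance, S, fun W t x hx => ?_⟩
  obtain ⟨y, hy, hxy⟩ := Set.mem_iUnion₂.1 (hT.ge (Set.mem_univ x))
  let G := gen (CohB1.tensorPow L (k y)) (s y)
  obtain ⟨f, hfW, hxf⟩ := (hs y).exists_basicOpen_le (V := W) ⟨x, hx⟩ hxy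
  have hfG : X.basicOpen f ≤ G := X.basicOpen_le f
  let V := X.basicOpen f
  refine ⟨V, hfW, hxf, ?_⟩
  obtain ⟨a, ha⟩ := (bijective_tm (F := F) (isGen_spow (he y) n) hfG).2
    ((CohB1.tensorMod F (CohB1.tensorPow L n)).presheaf.map (homOfLE hfW).op t)
  beta_reduce at ha
  rw [← ha]
  obtain ⟨p, u, hu⟩ := H10Coh.exists_pow_smul_eq_res F (hs y) f a
  have hunit : IsUnit (X.presheaf.map (homOfLE hfG).op f) := X.toRingedSpace.isUnit_res_basicOpen f
  obtain ⟨d, hd⟩ := (hunit.pow p).exists_left_inv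
  have ha' : a = d • F.presheaf.map (homOfLE hfG).op u := by
    rw [hu, smul_smul, map_pow]
    exact (one_smul _ a).symm.trans (congrArg (fun z => z • a) hd.symm)
  rw [ha', tm_smul_left]
  refine Submodule.smul_mem _ _ ?_
  have hmem : u ∈ Submodule.span Γ(X, G) (Set.range (m y)) := (hm y).symm ▸ Submodule.mem_top
  clear hu ha' ha
  induction hmem using Submodule.span_induction with
  | mem w hw =>
    obtain ⟨j, rfl⟩ := hw
    let i : ι := ⟨⟨y, hy⟩, ⟨j⟩⟩
    have h1 := congrArg ((CohB1.tensorMod F (CohB1.tensorPow L n)).presheaf.map (homOfLE hfG).op) (hS i)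
    rw [H10Coh.mres_mres, tm_res] at h1
    obtain ⟨d', hd'⟩ := ((hc i).map (X.presheaf.map (homOfLE hfG).op).hom).exists_left_inv
    have h2 : tm (F.presheaf.map (homOfLE hfG).op (m y j)) ((CohB1.tensorPow L n).presheaf.map (homOfLE hfG).op (spow (e y) n)) =
        d' • (CohB1.tensorMod F (CohB1.tensorPow L n)).presheaf.map (homOfLE (le_top : V ≤ ⊤)).op (S i) := by
      rw [h1, Scheme.Modules.map_smul, tm_smul_left, smul_smul]
      exact (one_smul _ _).symm.trans (congrArg (fun z => z • _) hd'.symm)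
    rw [h2]
    exact Submodule.smul_mem _ _ (Submodule.subset_span ⟨i, rfl⟩)
  | zero =>
    rw [map_zero, ← zero_smul Γ(X, V) (0 : Γ(F, V)), tm_smul_left, zero_smul]
    exact Submodule.zero_mem _
  | add w w' _ _ hw hw' =>
    rw [map_add, tm_add_left]
    exact Submodule.add_mem _ hw hw'
  | smul r w _ hw =>
    rw [Scheme.Modules.map_smul, tm_smul_left]
    exact Submodule.smul_mem _ _ hw

theorem eventually_globallyGenerated [CompactSpace X] [QuasiSeparatedSpace X] (hA : CohB1.IsAmple L)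
    (hF : Coh.IsCoh F) :
    ∃ n₀ : ℕ, ∀ n, n₀ ≤ n → Curv2.IsGloballyGenerated (CohB1.tensorMod F (CohB1.tensorPow L n)) := by
  obtain ⟨n₀, h⟩ := eventually_spanning hA hF
  refine ⟨n₀, fun n hn => ?_⟩
  obtain ⟨ι, _, g, hg⟩ := h n hn
  exact isGloballyGenerated_of_locally _ g hg

end Groth.Agent.H11Ample
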