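import Groth.Agent.H11Ample.Extend
import Groth.Agent.H11Tilde.QCohCrit

/-!
# Twists of quasi-coherent and coherent modules by invertible modules
-/

set_option autoImplicit false
set_option linter.style.haveILetI false

noncomputable section

universe u

open CategoryTheory CategoryTheory.Limits AlgebraicGeometry Opposite TopologicalSpace
open Groth.Agent.H11Tilde

namespace Groth.Agent.H11Ample

variable {X : Scheme.{u}} {L F : X.Modules}

theorem exists_affine_gen_cover (hL : PicF.IsInvertible L) :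
    ∃ (U : X → X.Opens) (e : ∀ x, Γ(L, U x)), IsOpenCover U ∧ (∀ x, IsAffineOpen (U x)) ∧ ∀ x, IsGen L (e x) := by
  have h : ∀ x : X, ∃ (U : X.Opens) (e : Γ(L, U)), x ∈ U ∧ IsAffineOpen U ∧ IsGen L e := fun x => by
    obtain ⟨V, e, hx, he⟩ := exists_gen hL x
    obtain ⟨U, hU, hxU, hUV⟩ := exists_isAffineOpen_mem_and_subset (U := V) hx
    exact ⟨U, _, hxU, hU, he.res (show U ≤ V from hUV)⟩
  choose U e hx hU he using h
  exact ⟨U, e, IsOpenCover.mk (eq_top_iff.2 fun x _ => Opens.mem_iSup.2 ⟨x, hx x⟩), hU, he⟩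

theorem tm_zero_left {U : X.Opens} (e : Γ(L, U)) : tm (0 : Γ(F, U)) e = 0 := by
  rw [← zero_smul Γ(X, U) (0 : Γ(F, U)), tm_smul_left, zero_smul]

theorem isQCoh_tensor (hF : Coh.IsQCoh F) (hL : PicF.IsInvertible L) :
    Coh.IsQCoh (CohB1.tensorMod F L) := by
  haveI : F.IsQuasicoherent := hF
  obtain ⟨U, e, hcov, hU, he⟩ := exists_affine_gen_cover hL
  refine isQuasicoherent_of_basicOpen_localization _ U hcov hU (fun i r s hs => ?_) fun i r s' => ?_
  · obtain ⟨m, rfl⟩ := (bijective_tm (F := F) (he i) le_rfl).2 s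
    beta_reduce at hs ⊢
    rw [H10Coh.mres_self] at hs ⊢
    rw [tm_res, ← tm_zero_left (F := F) (L.presheaf.map (homOfLE (X.basicOpen_le r)).op (e i))] at hs
    have hm := (bijective_tm (F := F) (he i) (X.basicOpen_le r)).1 hs
    obtain ⟨n, hn⟩ := H10Coh.exists_pow_smul_eq_zero_of_isCompact F (hU i).isCompact r m hm
    exact ⟨n, by rw [← tm_smul_left, hn, tm_zero_left]⟩
  · obtain ⟨m, rfl⟩ := (bijective_tm (F := F) (he i) (X.basicOpen_le r)).2 s'
    obtain ⟨n, u, hu⟩ := H10Coh.exists_pow_smul_eq_res F (hU i) r m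
    refine ⟨n, tm u (e i), ?_⟩
    beta_reduce
    rw [tm_res, hu, tm_smul_left]

theorem isCoh_tensor (hF : Coh.IsCoh F) (hL : PicF.IsInvertible L) :
    Coh.IsCoh (CohB1.tensorMod F L) := by
  obtain ⟨U, e, hcov, hU, he⟩ := exists_affine_gen_cover hL
  refine ⟨isQCoh_tensor hF.1 hL, (@H10Coh.isFT_isFP_of_affineCover _ _ (isQCoh_tensor hF.1 hL) _ U hcov hU
    fun i => ?_).1⟩
  haveI := ((H10Coh.isCoh_iff_finite_sections F).1 hF).2 _ (hU i)
  let f : Γ(F, U i) →ₗ[Γ(X, U i)] Γ(CohB1.tensorMod F L, U i) :=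
    { toFun := fun m => tm m (e i)
      map_add' := fun a b => tm_add_left a b _
      map_smul' := fun r a => tm_smul_left r a _ }
  refine Module.Finite.of_surjective f fun t => ?_
  obtain ⟨m, hm⟩ := (bijective_tm (F := F) (he i) le_rfl).2 t
  beta_reduce at hm
  rw [H10Coh.mres_self] at hm
  exact ⟨m, hm⟩

end Groth.Agent.H11Ample
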