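import Groth.Agent.H11Ample.Global
import Groth.Agent.H11Ample.Twist
import Groth.Agent.H06Mod.StalkPullback

/-!
# Ample tensor globally generated is ample
-/

set_option autoImplicit false
set_option linter.style.haveILetI false

noncomputable section

universe u

open CategoryTheory CategoryTheory.Limits AlgebraicGeometry Opposite TopologicalSpace
open Groth.Agent.H11Tilde

namespace Groth.Agent.H11Ample

variable {X : Scheme.{u}} {L M N : X.Modules}

/-- A globally generated invertible module has, near every point, a generating global section. -/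
theorem exists_mem_gen_of_isGloballyGenerated (hL : PicF.IsInvertible L)
    (h : Curv2.IsGloballyGenerated L) (x : X) : ∃ g : Γ(L, ⊤), x ∈ gen L g := by
  obtain ⟨ι, a', ha'⟩ := h
  let a : H10Coh.freeMod X ι ⟶ L := a'
  haveI : Epi a := ha'
  obtain ⟨V, e, hxV, he⟩ := exists_gen hL x
  by_contra hne
  push Not at hne
  let O := X.presheaf.stalk x
  let P : Submodule O (L.presheaf.stalk x) := (IsLocalRing.maximalIdeal O) • ⊤
  let ψ : L ⟶ H06Mod.sky x (L.presheaf.stalk x ⧸ P) := H06Mod.homOfStalk P.mkQ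
  have h0 : a ≫ ψ = a ≫ 0 := by
    refine H10Coh.free_hom_ext _ _ fun i => ?_
    refine Scheme.Modules.hom_ext _ _ fun W => ?_
    ext r
    refine H06Mod.skyEval_ext (x := x) (N := L.presheaf.stalk x ⧸ P) fun hxW => ?_
    let g := (H10Coh.freeIncl ι i ≫ a).app ⊤ (one ⊤)
    have hr : (H10Coh.freeIncl ι i ≫ a).app W r =
        (show Γ(X, W) from r) • L.presheaf.map (homOfLE (le_top : W ≤ ⊤)).op g :=
      H06Mod.app_unit _ W r
    change H06Mod.skyEval x _ W hxW (ψ.app W ((H10Coh.freeIncl ι i ≫ a).app W r)) = _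
    rw [hr, H06Mod.skyEval_homOfStalk, H06Mod.germ_smul, TopCat.Presheaf.germ_res_apply]
    have hg : L.presheaf.germ ⊤ x (Opens.mem_top x) g ∈ P := by
      obtain ⟨c, hc⟩ := exists_coeff he (L.presheaf.map (homOfLE (le_top : V ≤ ⊤)).op g)
      have hcu : ¬ x ∈ X.basicOpen c := fun h' => hne g ((gen_inf_eq_basicOpen he g c hc).ge h').1
      rw [← TopCat.Presheaf.germ_res_apply L.presheaf (homOfLE (le_top : V ≤ ⊤)) x hxV g, hc, H06Mod.germ_smul]
      exact Submodule.smul_mem_smul ((IsLocalRing.mem_maximalIdeal _).2 fun hu => hcu ((X.mem_basicOpen c x hxV).2 hu))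
        Submodule.mem_top
    exact (Submodule.Quotient.mk_eq_zero P).2 (P.smul_mem _ hg)
  have hψ : ψ = 0 := (cancel_epi a).1 h0
  have he0 : L.presheaf.germ V x hxV e ∈ P := (Submodule.Quotient.mk_eq_zero P).1
    ((H06Mod.skyEval_homOfStalk P.mkQ V hxV e).symm.trans
      (congrArg (H06Mod.skyEval x _ V hxV) (congr($(congrArg (fun k => Scheme.Modules.Hom.app k V) hψ) e))))
  have hP : P ≤ Submodule.map (LinearMap.toSpanSingleton O _ (L.presheaf.germ V x hxV e)) (IsLocalRing.maximalIdeal O) := by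
    refine Submodule.smul_le.2 fun r hr m _ => ?_
    obtain ⟨c, rfl⟩ := (he x hxV).2 m
    exact ⟨r * c, Ideal.mul_mem_right _ _ hr, mul_smul _ _ _⟩
  obtain ⟨c, hc, hce⟩ := hP he0
  have : c = 1 := (he x hxV).1 (hce.trans (one_smul _ _).symm)
  exact (IsLocalRing.maximalIdeal.isMaximal O).ne_top ((Ideal.eq_top_iff_one _).2 (this ▸ hc))

theorem exists_iso_comm (hM : PicF.IsInvertible M) (hN : PicF.IsInvertible N) :
    Nonempty (CohB1.tensorMod M N ≅ CohB1.tensorMod N M) := by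
  let J := {p : Σ V : X.Opens, Γ(M, V) × Γ(N, V) // IsGen M p.2.1 ∧ IsGen N p.2.2}
  obtain ⟨φ, -⟩ := exists_iso_of_gen (fun j : J => j.1.1)
    (fun x => by
      obtain ⟨V, e, hx, he⟩ := exists_gen hM x
      obtain ⟨W, f, hx', hf⟩ := exists_gen hN x
      exact ⟨⟨⟨V ⊓ W, _, _⟩, he.res inf_le_left, hf.res inf_le_right⟩, hx, hx'⟩)
    (fun j => tm j.1.2.1 j.1.2.2) (fun j => isGen_tm j.2.1 j.2.2)
    (fun j => tm j.1.2.2 j.1.2.1) (fun j => isGen_tm j.2.2 j.2.1) fun i j u hu => by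
      obtain ⟨a, ha⟩ := transition (ei := i.1.2.1) j.2.1
      obtain ⟨b, hb⟩ := transition (ei := i.1.2.2) j.2.2
      rw [tm_res, tm_res, ha, hb, tm_smul_left, tm_smul_right, smul_smul] at hu
      have := ((isGen_tm (j.2.1.res inf_le_right) (j.2.2.res inf_le_right)).bijective le_rfl).1
        (a₁ := a * b) (a₂ := u) (by beta_reduce; rw [H10Coh.mres_self]; exact hu)
      rw [tm_res, tm_res, ha, hb, tm_smul_left, tm_smul_right, smul_smul, mul_comm b a, this]
  exact ⟨φ⟩

theorem exists_iso_tensorPow_tensor (hM : PicF.IsInvertible M) (hN : PicF.IsInvertible N) (k : ℕ) :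
    Nonempty (CohB1.tensorMod (CohB1.tensorPow M k) (CohB1.tensorPow N k) ≅
      CohB1.tensorPow (CohB1.tensorMod M N) k) := by
  let J := {p : Σ V : X.Opens, Γ(M, V) × Γ(N, V) // IsGen M p.2.1 ∧ IsGen N p.2.2}
  obtain ⟨φ, -⟩ := exists_iso_of_gen (fun j : J => j.1.1)
    (fun x => by
      obtain ⟨V, e, hx, he⟩ := exists_gen hM x
      obtain ⟨W, f, hx', hf⟩ := exists_gen hN x
      exact ⟨⟨⟨V ⊓ W, _, _⟩, he.res inf_le_left, hf.res inf_le_right⟩, hx, hx'⟩)
    (fun j => tm (spow j.1.2.1 k) (spow j.1.2.2 k))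
    (fun j => isGen_tm (isGen_spow j.2.1 k) (isGen_spow j.2.2 k))
    (fun j => spow (tm j.1.2.1 j.1.2.2) k) (fun j => isGen_spow (isGen_tm j.2.1 j.2.2) k) fun i j u hu => by
      obtain ⟨a, ha⟩ := transition (ei := i.1.2.1) j.2.1
      obtain ⟨b, hb⟩ := transition (ei := i.1.2.2) j.2.2
      rw [tm_res, tm_res, spow_res, spow_res, spow_res, spow_res, ha, hb, spow_smul, spow_smul, tm_smul_left,
        tm_smul_right, smul_smul] at hu
      have := ((isGen_tm (isGen_spow (j.2.1.res inf_le_right) k) (isGen_spow (j.2.2.res inf_le_right) k)).bijective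
        le_rfl).1 (a₁ := a ^ k * b ^ k) (a₂ := u) (by beta_reduce; rw [H10Coh.mres_self]; exact hu)
      rw [spow_res, spow_res, tm_res, tm_res, ha, hb, tm_smul_left, tm_smul_right, smul_smul, spow_smul,
        mul_pow, this]
  exact ⟨φ⟩

theorem isGloballyGenerated_of_iso (φ : M ≅ N) (h : Curv2.IsGloballyGenerated M) :
    Curv2.IsGloballyGenerated N := by
  obtain ⟨ι, p, hp⟩ := h
  haveI : @Epi X.Modules _ _ _ p := hp
  exact ⟨ι, p ≫ φ.hom, epi_comp p φ.hom⟩

theorem isGen_map_iso (φ : M ≅ N) {V : X.Opens} {e : Γ(M, V)} (he : IsGen M e) :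
    IsGen N (φ.hom.app V e) :=
  isGen_of_bijective fun W hW => by
    refine Eq.mpr (congrArg Function.Bijective (funext fun r => ?_))
      ((ConcreteCategory.bijective_of_isIso (φ.hom.app W)).comp (he.bijective hW))
    change r • N.presheaf.map (homOfLE hW).op (φ.hom.app V e) = φ.hom.app W (r • M.presheaf.map (homOfLE hW).op e)
    rw [Scheme.Modules.Hom.app_smul, app_map_apply]

theorem isAmple_of_iso (φ : M ≅ N) (h : CohB1.IsAmple M) : CohB1.IsAmple N := by
  rw [isAmple_iff] at h ⊢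
  obtain ⟨hM, hX, h⟩ := h
  have hN : PicF.IsInvertible N := H11Tilde.isInvertible_of_iso φ hM
  refine ⟨hN, hX, fun x => ?_⟩
  obtain ⟨k, s, hk, hx, hs⟩ := h x
  obtain ⟨ψ, -⟩ := exists_iso_of_gen (P := CohB1.tensorPow M k) (Q := CohB1.tensorPow N k)
    (fun j : {p : Σ V : X.Opens, Γ(M, V) // IsGen M p.2} => j.1.1)
    (fun x => by obtain ⟨V, e, hx, he⟩ := exists_gen hM x; exact ⟨⟨⟨V, e⟩, he⟩, hx⟩)
    (fun j => spow j.1.2 k) (fun j => isGen_spow j.2 k)
    (fun j => spow (φ.hom.app _ j.1.2) k) (fun j => isGen_spow (isGen_map_iso φ j.2) k) fun i j u hu => by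
      obtain ⟨a, ha⟩ := transition (ei := i.1.2) j.2
      rw [spow_res, spow_res, ha, spow_smul] at hu
      have := ((isGen_spow (j.2.res inf_le_right) k).bijective le_rfl).1 (a₁ := a ^ k) (a₂ := u)
        (by beta_reduce; rw [H10Coh.mres_self]; exact hu)
      rw [spow_res, spow_res, ← app_map_apply, ← app_map_apply, ha, Scheme.Modules.Hom.app_smul, spow_smul, this]
  exact ⟨k, ψ.hom.app ⊤ s, hk, by rw [gen_iso]; exact hx, by rw [gen_iso]; exact hs⟩

theorem isAmple_tensor [CompactSpace X] [QuasiSeparatedSpace X] (hM : CohB1.IsAmple M)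
    (hN : PicF.IsInvertible N) (hg : Curv2.IsGloballyGenerated N) : CohB1.IsAmple (CohB1.tensorMod M N) := by
  obtain ⟨hM', -, -⟩ := isAmple_iff.1 hM
  rw [isAmple_iff]
  refine ⟨isInvertible_tensor hM' hN, inferInstance, fun x => ?_⟩
  obtain ⟨g, hxg⟩ := exists_mem_gen_of_isGloballyGenerated hN hg x
  obtain ⟨k, s, hk, hxs, hsg, hs⟩ := exists_affine_gen_le hM hxg
  obtain ⟨φ⟩ := exists_iso_tensorPow_tensor hM' hN k
  have e : gen _ (φ.hom.app ⊤ (tm s (spow g k))) = gen (CohB1.tensorPow M k) s := by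
    rw [gen_iso, gen_tm (isInvertible_tensorPow hM' k) (isInvertible_tensorPow hN k), gen_spow hN g k hk]
    exact inf_eq_left.2 hsg
  exact ⟨k, φ.hom.app ⊤ (tm s (spow g k)), hk, by rw [e]; exact hxs, by rw [e]; exact hs⟩

theorem isCoh_of_isInvertible (hL : PicF.IsInvertible L) : Coh.IsCoh L := by
  obtain ⟨U, e, hcov, hU, he⟩ := exists_affine_gen_cover hL
  have hq : Coh.IsQCoh L := H28Mero.isQCoh_of_isInvertible hL
  refine ⟨hq, (@H10Coh.isFT_isFP_of_affineCover _ _ hq _ U hcov hU fun i => ?_).1⟩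
  refine Module.Finite.of_surjective (LinearMap.toSpanSingleton Γ(X, U i) _ (e i)) fun t => ?_
  obtain ⟨c, hc⟩ := exists_coeff (he i) t
  exact ⟨c, hc.symm⟩

theorem exists_iso_shift (hM : PicF.IsInvertible M) (hN : PicF.IsInvertible N) (m : ℕ) :
    Nonempty (CohB1.tensorMod M (CohB1.tensorMod N (CohB1.tensorPow M m)) ≅
      CohB1.tensorMod (CohB1.tensorPow M (m + 1)) N) := by
  let J := {p : Σ V : X.Opens, Γ(M, V) × Γ(N, V) // IsGen M p.2.1 ∧ IsGen N p.2.2}
  obtain ⟨φ, -⟩ := exists_iso_of_gen (fun j : J => j.1.1)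
    (fun x => by
      obtain ⟨V, e, hx, he⟩ := exists_gen hM x
      obtain ⟨W, f, hx', hf⟩ := exists_gen hN x
      exact ⟨⟨⟨V ⊓ W, _, _⟩, he.res inf_le_left, hf.res inf_le_right⟩, hx, hx'⟩)
    (fun j => tm j.1.2.1 (tm j.1.2.2 (spow j.1.2.1 m)))
    (fun j => isGen_tm j.2.1 (isGen_tm j.2.2 (isGen_spow j.2.1 m)))
    (fun j => tm (spow j.1.2.1 (m + 1)) j.1.2.2)
    (fun j => isGen_tm (isGen_spow j.2.1 (m + 1)) j.2.2) fun i j u hu => by
      obtain ⟨a, ha⟩ := transition (ei := i.1.2.1) j.2.1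
      obtain ⟨b, hb⟩ := transition (ei := i.1.2.2) j.2.2
      rw [tm_res, tm_res, tm_res, tm_res, spow_res, spow_res, ha, hb, spow_smul] at hu
      simp only [tm_smul_left, tm_smul_right, smul_smul] at hu
      have := ((isGen_tm (j.2.1.res inf_le_right) (isGen_tm (j.2.2.res inf_le_right)
        (isGen_spow (j.2.1.res inf_le_right) m))).bijective le_rfl).1
        (a₁ := a ^ m * b * a) (a₂ := u) (by beta_reduce; rw [H10Coh.mres_self]; exact hu)
      rw [tm_res, tm_res, spow_res, spow_res, ha, hb, spow_smul, tm_smul_left, tm_smul_right, smul_smul, ← this,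
        pow_succ]
      congr 1
      ring
  exact ⟨φ⟩

theorem eventually_ample_tensor [CompactSpace X] [QuasiSeparatedSpace X] (hL : CohB1.IsAmple L)
    (hN : PicF.IsInvertible N) :
    ∃ n₀ : ℕ, 0 < n₀ ∧ ∀ n, n₀ ≤ n → CohB1.IsAmple (CohB1.tensorMod (CohB1.tensorPow L n) N) ∧
      Curv2.IsGloballyGenerated (CohB1.tensorMod (CohB1.tensorPow L n) N) := by
  obtain ⟨hL', -, -⟩ := isAmple_iff.1 hL
  obtain ⟨n₁, hn₁⟩ := eventually_globallyGenerated hL (isCoh_of_isInvertible hN)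
  refine ⟨n₁ + 1, n₁.succ_pos, fun n hn => ⟨?_, ?_⟩⟩
  · obtain ⟨m, rfl⟩ := Nat.exists_eq_add_of_le' (le_trans n₁.succ_pos hn)
    obtain ⟨φ⟩ := exists_iso_shift hL' hN m
    exact isAmple_of_iso φ (isAmple_tensor hL (isInvertible_tensor hN (isInvertible_tensorPow hL' m))
      (hn₁ m (by omega)))
  · obtain ⟨φ⟩ := exists_iso_comm hN (isInvertible_tensorPow hL' n)
    exact isGloballyGenerated_of_iso φ (hn₁ n (by omega))

end Groth.Agent.H11Ample
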