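import Groth.Agent.H11Ample.Immersion
import Groth.Agent.H11Ample.Global
import Groth.Agent.H11Ample.Tensor

/-!
# Ample modules have very ample powers
-/

set_option autoImplicit false
set_option linter.style.haveILetI false

noncomputable section

universe u

open CategoryTheory CategoryTheory.Limits AlgebraicGeometry Opposite TopologicalSpace
open Groth.Agent.H11Tilde

namespace Groth.Agent.H11Ample

variable {X Y : Scheme.{u}} {L : X.Modules}

theorem isUnit_coeff_gen {k : ℕ} (s : Γ(CohB1.tensorPow L k, ⊤))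
    {e : Γ(L, gen (CohB1.tensorPow L k) s)} (he : IsGen L e) {c : Γ(X, gen (CohB1.tensorPow L k) s)}
    (hc : (CohB1.tensorPow L k).presheaf.map (homOfLE (le_top : gen (CohB1.tensorPow L k) s ≤ ⊤)).op s = c • spow e k) :
    IsUnit c :=
  X.toRingedSpace.isUnit_of_isUnit_germ _ c fun y hy =>
    (X.mem_basicOpen c y hy).1 ((gen_inf_eq_basicOpen (isGen_spow he k) s c hc).le ⟨hy, hy⟩)

/-- For all large `m`, functions on `X_s` times a fixed unit extend to sections of `L^m` supported in `X_s`. -/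
theorem exists_extend_deg [CompactSpace X] [QuasiSeparatedSpace X] (hL : PicF.IsInvertible L)
    {k : ℕ} (hk : 0 < k) (s : Γ(CohB1.tensorPow L k, ⊤)) {e : Γ(L, gen (CohB1.tensorPow L k) s)} (he : IsGen L e)
    {c : Γ(X, gen (CohB1.tensorPow L k) s)}
    (hc : (CohB1.tensorPow L k).presheaf.map (homOfLE (le_top : gen (CohB1.tensorPow L k) s ≤ ⊤)).op s = c • spow e k)
    (a : Γ(X, gen (CohB1.tensorPow L k) s)) :
    ∃ N, ∀ m, N ≤ m → ∃ T : Γ(CohB1.tensorPow L m, ⊤),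
      gen (CohB1.tensorPow L m) T ≤ gen (CohB1.tensorPow L k) s ∧
      (CohB1.tensorPow L m).presheaf.map (homOfLE (le_top : gen (CohB1.tensorPow L k) s ≤ ⊤)).op T =
        (c ^ (m / k) * a) • spow e m := by
  let G := gen (CohB1.tensorPow L k) s
  let asec : Γ(Coh.structureModule X, G) := a
  choose N hN using fun r : Fin k => exists_extend (F := Coh.structureModule X) hL
    (H29Blow.isQCoh_structureModule X) k r.1 s (tm asec (spow e r.1))
  refine ⟨k * (Finset.univ.sup N + 2), fun m hm => ?_⟩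
  have key : ∀ (n r q : ℕ), n = r + q * k → r < k → Finset.univ.sup N ≤ q →
      ∃ S : Γ(CohB1.tensorPow L n, ⊤),
        (CohB1.tensorPow L n).presheaf.map (homOfLE (le_top : G ≤ ⊤)).op S = (c ^ q * a) • spow e n := by
    rintro n r q rfl hr hq
    obtain ⟨S, hS⟩ := hN ⟨r, hr⟩ q ((Finset.le_sup (Finset.mem_univ _)).trans hq)
    obtain ⟨φ, hφ⟩ := exists_iso_unit hL (r + q * k)
    refine ⟨φ.hom.app ⊤ S, ?_⟩
    rw [← app_map_apply, hS G le_rfl e asec c he (H10Coh.mres_self _ _ _) hc]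
    exact hφ G e (c ^ q * a)
  obtain ⟨n, rfl⟩ : ∃ n, m = n + k := ⟨m - k, by
    have : k ≤ m := le_trans (Nat.le_mul_of_pos_right k (by omega)) hm
    omega⟩
  have hq : Finset.univ.sup N ≤ n / k := (Nat.le_div_iff_mul_le hk).2 (by nlinarith)
  obtain ⟨S, hS⟩ := key n (n % k) (n / k) (Nat.mod_add_div' n k).symm (Nat.mod_lt _ hk) hq
  obtain ⟨ψ, hψ⟩ := exists_iso_add hL n k
  refine ⟨ψ.hom.app ⊤ (tm S s), ?_, ?_⟩
  · rw [gen_iso, gen_tm (isInvertible_tensorPow hL n) (isInvertible_tensorPow hL k)]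
    exact inf_le_right
  · rw [← app_map_apply, tm_res, hS, hc, tm_smul_left, tm_smul_right, smul_smul,
      Scheme.Modules.Hom.app_smul, hψ, Nat.add_div_right _ hk, pow_succ]
    congr 1
    ring

/-- Large powers of an ample module have sections with affine loci of generation whose ratios generate. -/
theorem eventually_exists_sections [IsAffine Y] (q : X ⟶ Y) [LocallyOfFiniteType q] [CompactSpace X]
    [QuasiSeparatedSpace X] (hA : CohB1.IsAmple L) :
    ∃ n₀ : ℕ, ∀ m, n₀ ≤ m → ∃ (n : ℕ) (v : Fin (n + 1) → Γ(CohB1.tensorPow L m, ⊤)) (J : Set (Fin (n + 1))),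
      (∀ x, ∃ j ∈ J, x ∈ gen (CohB1.tensorPow L m) (v j)) ∧
      (∀ j ∈ J, IsAffineOpen (gen (CohB1.tensorPow L m) (v j))) ∧
      ∀ j ∈ J, Subring.closure (Set.range (q.appLE ⊤ (gen (CohB1.tensorPow L m) (v j)) le_top) ∪
        {c | ∃ l, (CohB1.tensorPow L m).presheaf.map (homOfLE (le_top : gen (CohB1.tensorPow L m) (v j) ≤ ⊤)).op (v l) =
          c • (CohB1.tensorPow L m).presheaf.map
            (homOfLE (le_top : gen (CohB1.tensorPow L m) (v j) ≤ ⊤)).op (v j)}) = ⊤ := by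
  classical
  obtain ⟨hL, -, -⟩ := isAmple_iff.1 hA
  have loc : ∀ x : X, ∃ (k : ℕ) (s : Γ(CohB1.tensorPow L k, ⊤)) (e : Γ(L, gen (CohB1.tensorPow L k) s)),
      0 < k ∧ x ∈ gen (CohB1.tensorPow L k) s ∧ IsAffineOpen (gen (CohB1.tensorPow L k) s) ∧ IsGen L e := fun x => by
    obtain ⟨V, e, hxV, he⟩ := exists_gen hL x
    obtain ⟨k, s, hk, hxs, hsV, hs⟩ := exists_affine_gen_le hA hxV
    exact ⟨k, s, _, hk, hxs, hs, he.res hsV⟩
  choose k s e hk hxs hs he using loc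
  choose c hc using fun x => exists_coeff (isGen_spow (he x) (k x))
    ((CohB1.tensorPow L (k x)).presheaf.map (homOfLE (le_top : gen (CohB1.tensorPow L (k x)) (s x) ≤ ⊤)).op (s x))
  obtain ⟨T, hT⟩ := CompactSpace.elim_nhds_subcover (fun x => (gen (CohB1.tensorPow L (k x)) (s x) : Set X))
    (fun x => (gen _ (s x)).isOpen.mem_nhds (hxs x))
  have hfg : ∀ x : X, ∃ A : Finset Γ(X, gen (CohB1.tensorPow L (k x)) (s x)), Subring.closure
      (Set.range (q.appLE ⊤ (gen (CohB1.tensorPow L (k x)) (s x)) le_top) ∪ (A : Set _)) = ⊤ := fun x => by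
    let f := (q.appLE ⊤ (gen (CohB1.tensorPow L (k x)) (s x)) le_top).hom
    have hf : f.FiniteType := q.finiteType_appLE (isAffineOpen_top Y) (hs x) le_top
    letI := f.toAlgebra
    obtain ⟨A, hA'⟩ := (@Algebra.FiniteType.out Γ(Y, ⊤) Γ(X, gen (CohB1.tensorPow L (k x)) (s x)) _ _ f.toAlgebra hf)
    refine ⟨A, ?_⟩
    have := congrArg Subalgebra.toSubring hA'
    rwa [Algebra.adjoin_eq_ring_closure] at this
  choose A hA' using hfg
  let I : Type u := Σ x : {x // x ∈ T}, Option {a // a ∈ A x.1}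
  haveI : Fintype I := Fintype.ofFinite I
  obtain ⟨fn, fn_def⟩ : ∃ fn : ∀ i : I, Γ(X, gen (CohB1.tensorPow L (k i.1.1)) (s i.1.1)),
      (∀ x, fn ⟨x, none⟩ = 1) ∧ ∀ x a, fn ⟨x, some a⟩ = a.1 :=
    ⟨fun i => (i.2.map Subtype.val).getD 1, fun _ => rfl, fun _ _ => rfl⟩
  choose N hN using fun i : I => exists_extend_deg hL (hk i.1.1) (s i.1.1) (he i.1.1) (hc i.1.1) (fn i)
  refine ⟨Finset.univ.sup N, fun m hm => ?_⟩
  choose t htle ht using fun i : I => hN i m ((Finset.le_sup (Finset.mem_univ i)).trans hm)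
  obtain ⟨n, σ⟩ : ∃ n : ℕ, Nonempty (Option I ≃ Fin (n + 1)) :=
    ⟨Fintype.card I, ⟨Fintype.equivFinOfCardEq Fintype.card_option⟩⟩
  obtain ⟨σ⟩ := σ
  obtain ⟨v, hv⟩ : ∃ v : Fin (n + 1) → Γ(CohB1.tensorPow L m, ⊤), ∀ i, v (σ (some i)) = t i :=
    ⟨fun l => ((σ.symm l).map t).getD 0, fun i => by simp⟩
  have hG : ∀ x : {x // x ∈ T}, gen (CohB1.tensorPow L m) (t ⟨x, none⟩) = gen (CohB1.tensorPow L (k x.1)) (s x.1) := by
    intro x
    refine le_antisymm (htle _) fun y hy => ?_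
    refine ((gen_inf_eq_basicOpen (isGen_spow (he x.1) m) _ _ (ht ⟨x, none⟩)).ge ?_).1
    rw [Scheme.basicOpen_of_isUnit X (by rw [fn_def.1, mul_one]; exact (isUnit_coeff_gen _ (he x.1) (hc x.1)).pow _)]
    exact hy
  refine ⟨n, v, {l | ∃ x : {x // x ∈ T}, l = σ (some ⟨x, none⟩)}, fun y => ?_, ?_, ?_⟩
  · obtain ⟨x, hx, hyx⟩ := Set.mem_iUnion₂.1 (hT.ge (Set.mem_univ y))
    exact ⟨_, ⟨⟨x, hx⟩, rfl⟩, by rw [hv, hG]; exact hyx⟩
  · rintro l ⟨x, rfl⟩
    rw [hv, hG]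
    exact hs x.1
  · rintro l ⟨x, rfl⟩
    obtain ⟨u, hu⟩ : ∃ u, v (σ (some ⟨x, none⟩)) = u := ⟨_, rfl⟩
    rw [hu]
    have hu' : gen (CohB1.tensorPow L m) u = gen (CohB1.tensorPow L (k x.1)) (s x.1) := by rw [← hu, hv, hG]
    have hu'' : (CohB1.tensorPow L m).presheaf.map
        (homOfLE (le_top : gen (CohB1.tensorPow L (k x.1)) (s x.1) ≤ ⊤)).op u =
          c x.1 ^ (m / k x.1) • spow (e x.1) m := by
      rw [← hu, hv]
      exact (ht ⟨x, none⟩).trans (by rw [fn_def.1, mul_one])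
    suffices h : ∀ (G : X.Opens), G = gen (CohB1.tensorPow L (k x.1)) (s x.1) →
        Subring.closure (Set.range (q.appLE ⊤ G le_top) ∪
          {d | ∃ l, (CohB1.tensorPow L m).presheaf.map (homOfLE (le_top : G ≤ ⊤)).op (v l) =
            d • (CohB1.tensorPow L m).presheaf.map (homOfLE (le_top : G ≤ ⊤)).op u}) = ⊤ from h _ hu'
    rintro G rfl
    rw [eq_top_iff, ← hA' x.1]
    refine Subring.closure_mono (Set.union_subset_union_right _ fun a ha => ?_)
    refine ⟨σ (some ⟨x, some ⟨a, ha⟩⟩), ?_⟩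
    rw [hv, hu'', smul_smul, mul_comm]
    exact (ht ⟨x, some ⟨a, ha⟩⟩).trans (by rw [fn_def.2])

theorem eventually_isRelVeryAmplePn [IsAffine Y] (q : X ⟶ Y) [LocallyOfFiniteType q] [CompactSpace X]
    [QuasiSeparatedSpace X] (hA : CohB1.IsAmple L) :
    ∃ n₀ : ℕ, ∀ m, n₀ ≤ m → RelAmple.IsRelVeryAmplePn q (CohB1.tensorPow L m) := by
  obtain ⟨n₀, h⟩ := eventually_exists_sections q hA
  refine ⟨n₀, fun m hm => ?_⟩
  obtain ⟨n, v, J, hJ, haff, hgen⟩ := h m hm
  exact isRelVeryAmplePn_of_sections q (isInvertible_tensorPow (isAmple_iff.1 hA).1 m) v J hJ haff hgen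

end Groth.Agent.H11Ample
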