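import Groth.Agent.H11Ample.Basic
import Groth.Agent.H11Tilde.ProjUP
import Groth.Agent.H17.PullSect
import Groth.Prelude.Def_Omega4
import Mathlib.AlgebraicGeometry.Morphisms.Affine

/-!
# Pullback of loci of generation; their inclusions are affine
-/

set_option autoImplicit false
set_option linter.style.haveILetI false

noncomputable section

universe u

open CategoryTheory CategoryTheory.Limits AlgebraicGeometry Opposite TopologicalSpace
open Groth.Agent.H11Tilde

namespace Groth.Agent.H11Ample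

variable {X Y : Scheme.{u}} {L : Y.Modules}

theorem isAffineHom_gen_ι (hL : PicF.IsInvertible L) (g : Γ(L, ⊤)) : IsAffineHom (gen L g).ι := by
  have h : ∀ x : Y, ∃ (U : Y.Opens) (e : Γ(L, U)), x ∈ U ∧ IsAffineOpen U ∧ IsGen L e := fun x => by
    obtain ⟨V, e, hx, he⟩ := exists_gen hL x
    obtain ⟨U, hU, hxU, hUV⟩ := exists_isAffineOpen_mem_and_subset (U := V) hx
    exact ⟨U, _, hxU, hU, he.res (show U ≤ V from hUV)⟩
  choose U e hxU hU he using h
  refine isAffineHom_of_forall_exists_isAffineOpen _ fun x => ⟨U x, hxU x, hU x, ?_⟩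
  rw [← (gen L g).ι.isAffineOpen_iff_of_isOpenImmersion, Scheme.Hom.image_preimage_eq_opensRange_inf,
    Scheme.Opens.opensRange_ι]
  exact isAffineOpen_gen_inf (hU x) (he x) g

/-- The pullback of a global section. -/
abbrev pullTop (f : X ⟶ Y) (g : Γ(L, ⊤)) : Γ((Scheme.Modules.pullback f).obj L, ⊤) := OmegaSh.pullSect f L ⊤ g

/-- The locus of generation of a pulled back section. -/
theorem gen_smul_pullSect (f : X ⟶ Y) (hL : PicF.IsInvertible L) (g : Γ(L, ⊤)) {c : Γ(X, ⊤)} (hc : IsUnit c) :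
    gen ((Scheme.Modules.pullback f).obj L) (c • pullTop f g) = f ⁻¹ᵁ gen L g := by
  have key : ∀ y : X, y ∈ gen ((Scheme.Modules.pullback f).obj L) (c • pullTop f g) ↔
      f y ∈ gen L g := by
    intro y
    obtain ⟨V, e, hyV, he⟩ := exists_gen hL (f y)
    obtain ⟨a, ha⟩ := exists_coeff he (L.presheaf.map (homOfLE (le_top : V ≤ ⊤)).op g)
    have hres : ((Scheme.Modules.pullback f).obj L).presheaf.map (homOfLE (le_top : f ⁻¹ᵁ V ≤ ⊤)).op
        (c • pullTop f g) = (X.presheaf.map (homOfLE (le_top : f ⁻¹ᵁ V ≤ ⊤)).op c * f.app V a) •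
          OmegaSh.pullSect f L V e := by
      rw [Scheme.Modules.map_smul, mul_smul]
      congr 1
      refine (pullSect_res f L (le_top : V ≤ ⊤) g).symm.trans ?_
      rw [ha, OmegaSh.pullSect_smul]
    have h1 := gen_inf_eq_basicOpen (IsGen.pullSect f he) _ _ hres
    have hu : IsUnit (X.presheaf.map (homOfLE (le_top : f ⁻¹ᵁ V ≤ ⊤)).op c) := hc.map _
    rw [Scheme.basicOpen_mul, Scheme.basicOpen_of_isUnit X hu, ← Scheme.preimage_basicOpen,
      ← gen_inf_eq_basicOpen he g a ha] at h1
    constructor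
    · intro hy
      have h2 : f y ∈ gen L g ⊓ V := (h1.le ⟨hy, hyV⟩).2
      exact h2.1
    · intro hy
      exact (h1.ge ⟨hyV, hy, hyV⟩).1
  ext y
  exact key y

end Groth.Agent.H11Ample
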