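import Groth.Agent.H11Ample.Ample
import Groth.Agent.H11Ample.Tensor
import Groth.Agent.H11Ample.Pullback
import Mathlib.AlgebraicGeometry.QuasiAffine

/-!
# Ampleness and quasi-affine schemes
-/

set_option autoImplicit false
set_option linter.style.haveILetI false

noncomputable section

universe u

open CategoryTheory CategoryTheory.Limits AlgebraicGeometry Opposite TopologicalSpace
open Groth.Agent.H11Tilde

namespace Groth.Agent.H11Ample

variable {X : Scheme.{u}} {L L' : X.Modules}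

theorem quasiSeparatedSpace_of_isAmple (h : CohB1.IsAmple L) : QuasiSeparatedSpace X := by
  obtain ⟨hL, -, h⟩ := isAmple_iff.1 h
  choose k s hk hx hs using h
  refine QuasiSeparatedSpace.of_isOpenCover (U := fun x => gen (CohB1.tensorPow L (k x)) (s x))
    (IsOpenCover.mk (eq_top_iff.2 fun x _ => Opens.mem_iSup.2 ⟨x, hx x⟩)) (fun x => ?_)
    (fun x => (hs x).isQuasiSeparated)
  intro W hWc hWo
  haveI := isAffineHom_gen_ι (isInvertible_tensorPow hL (k x)) (s x)
  have h1 := ((gen (CohB1.tensorPow L (k x)) (s x)).ι.isCompact_preimage (U := ⟨W, hWo⟩) hWc).image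
    (gen (CohB1.tensorPow L (k x)) (s x)).ι.continuous
  convert! h1 using 1
  ext y
  constructor
  · exact fun hy => ⟨⟨y, hy.1⟩, hy.2, rfl⟩
  · rintro ⟨y', hy', rfl⟩
    exact ⟨y'.2, hy'⟩

theorem isAmple_of_isQuasiAffine [X.IsQuasiAffine] (hL : PicF.IsInvertible L) : CohB1.IsAmple L := by
  haveI : L.IsQuasicoherent := H28Mero.isQCoh_of_isInvertible hL
  rw [isAmple_iff]
  refine ⟨hL, inferInstance, fun x => ?_⟩
  obtain ⟨V, e, hxV, he⟩ := exists_gen hL x
  obtain ⟨_, ⟨_, ⟨f, hf, rfl⟩, rfl⟩, hxf, hfV⟩ :=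
    (Scheme.IsQuasiAffine.isBasis_basicOpen X).exists_subset_of_mem_open (show x ∈ (V : Set X) from hxV) V.isOpen
  let D := X.basicOpen f
  have heD : IsGen L (L.presheaf.map (homOfLE (show D ≤ V from hfV)).op e) := he.res _
  obtain ⟨n, t, ht⟩ := H10Coh.exists_pow_smul_eq_res_of_isCompact L (W := ⊤) isCompact_univ f
    (L.presheaf.map (homOfLE (show D ≤ V from hfV)).op e)
  refine ⟨1, spow (f • t) 1, one_pos, ?_⟩
  rw [gen_spow hL _ 1 one_pos]
  have heq : gen L (f • t) = D := by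
    have h1 : gen L (f • t) ≤ D := fun y hy => by
      obtain ⟨W, e', hyW, he'⟩ := exists_gen hL y
      obtain ⟨c, hc⟩ := exists_coeff he' (L.presheaf.map (homOfLE (le_top : W ≤ ⊤)).op t)
      have h2 : L.presheaf.map (homOfLE (le_top : W ≤ ⊤)).op (f • t) =
          (X.presheaf.map (homOfLE (le_top : W ≤ ⊤)).op f * c) • e' := by
        rw [Scheme.Modules.map_smul, hc, mul_smul]
      have h3 := (gen_inf_eq_basicOpen he' (f • t) _ h2).le ⟨hy, hyW⟩
      rw [Scheme.basicOpen_mul, Scheme.basicOpen_res] at h3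
      exact h3.1.2
    refine le_antisymm h1 fun y hy => ?_
    have h2 : L.presheaf.map (homOfLE (le_top : D ≤ ⊤)).op (f • t) =
        (X.presheaf.map (homOfLE (le_top : D ≤ ⊤)).op f * X.presheaf.map (homOfLE (le_top : D ≤ ⊤)).op (f ^ n)) •
          L.presheaf.map (homOfLE (show D ≤ V from hfV)).op e := by
      rw [Scheme.Modules.map_smul, ht, mul_smul]
    have hu : IsUnit (X.presheaf.map (homOfLE (le_top : D ≤ ⊤)).op f) :=
      X.toRingedSpace.isUnit_res_basicOpen f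
    refine ((gen_inf_eq_basicOpen heD (f • t) _ h2).ge ?_).1
    rw [Scheme.basicOpen_of_isUnit X (hu.mul (by rw [map_pow]; exact hu.pow n))]
    exact hy
  rw [heq]
  exact ⟨hxf, hf⟩

theorem isQuasiAffine_of_isAmple_inverse [CompactSpace X]
    (hinv : ClSub.IsInverseOf L L') (h : CohB1.IsAmple L) (h' : CohB1.IsAmple L') : X.IsQuasiAffine := by
  haveI := quasiSeparatedSpace_of_isAmple h
  obtain ⟨hL, -, hA⟩ := isAmple_iff.1 h
  obtain ⟨hL', -, -⟩ := isAmple_iff.1 h'
  obtain ⟨ψ⟩ := hinv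
  refine Scheme.IsQuasiAffine.of_forall_exists_mem_basicOpen X fun x => ?_
  obtain ⟨k, s, hk, hxs, hs⟩ := hA x
  obtain ⟨m, s', hm, hxs', hs's, hs'⟩ := exists_affine_gen_le h' hxs
  obtain ⟨φ, -⟩ := exists_iso_mul hL k m
  obtain ⟨φ', -⟩ := exists_iso_mul hL' m k
  obtain ⟨s₁, hs₁⟩ := exists_section_of_eq (mul_comm m k) (φ'.hom.app ⊤ (spow s' k))
  obtain ⟨χ⟩ := exists_iso_tensorPow_tensor hL hL' (k * m)
  have hU : PicF.IsInvertible (Coh.structureModule X) :=
    H11Tilde.isInvertible_of_iso ψ (isInvertible_tensor hL hL')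
  obtain ⟨T, hT⟩ : ∃ T : Γ(CohB1.tensorPow (CohB1.tensorMod L L') (k * m), ⊤), gen _ T = gen _ s' := by
    refine ⟨χ.hom.app ⊤ (tm (φ.hom.app ⊤ (spow s m)) s₁), ?_⟩
    rw [gen_iso, gen_tm (isInvertible_tensorPow hL _) (isInvertible_tensorPow hL' _), gen_iso,
      gen_spow (isInvertible_tensorPow hL k) s m hm, hs₁, gen_iso,
      gen_spow (isInvertible_tensorPow hL' m) s' k hk]
    exact inf_eq_right.2 hs's
  let N := CohB1.tensorMod L L'
  obtain ⟨θ, -⟩ := exists_iso_of_gen (P := CohB1.tensorPow N (k * m)) (Q := Coh.structureModule X)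
    (fun _ : PUnit.{1} => (⊤ : X.Opens)) (fun _ => ⟨⟨⟩, trivial⟩)
    (fun _ => spow (ψ.inv.app ⊤ (one ⊤)) (k * m))
    (fun _ => isGen_spow (isGen_map_iso ψ.symm (isGen_one ⊤)) _)
    (fun _ => one ⊤) (fun _ => isGen_one ⊤) fun _ _ u hu => by
      rw [spow_res] at hu
      have := ((isGen_spow ((isGen_map_iso ψ.symm (isGen_one (⊤ : X.Opens))).res
        (inf_le_right : (⊤ : X.Opens) ⊓ ⊤ ≤ ⊤)) (k * m)).bijective le_rfl).1 (a₁ := (1 : Γ(X, ⊤ ⊓ ⊤))) (a₂ := u)
        (by beta_reduce; rw [H10Coh.mres_self, one_smul]; exact hu)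
      rw [← this, one_smul]
  let r : Γ(X, ⊤) := θ.hom.app ⊤ T
  have hr : gen (Coh.structureModule X) (show Γ(Coh.structureModule X, ⊤) from r) = X.basicOpen r := by
    have h1 := gen_inf_eq_basicOpen (isGen_one (⊤ : X.Opens)) (show Γ(Coh.structureModule X, ⊤) from r) r
      (by rw [H10Coh.mres_self, smul_one_eq])
    rwa [inf_top_eq] at h1
  refine ⟨r, ?_, ?_⟩ <;> rw [← hr, gen_iso, hT]
  · exact hs'
  · exact hxs'

end Groth.Agent.H11Ample
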