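import Groth.Agent.H11Ample.ToPn
import Groth.Agent.H11Ample.Tensor
import Groth.Agent.H11Ample.QuasiAffine
import Groth.Prelude.Def_LCI2
import Mathlib.AlgebraicGeometry.Morphisms.Immersion
import Mathlib.AlgebraicGeometry.ProjectiveSpectrum.Proper

/-!
# Very ample modules are ample
-/

set_option autoImplicit false
set_option linter.style.haveILetI false

noncomputable section

universe u

open CategoryTheory CategoryTheory.Limits AlgebraicGeometry Opposite TopologicalSpace CohB1
open Groth.Agent.H11Tilde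

namespace Groth.Agent.H11Ample

variable {X Y : Scheme.{u}} {M : Y.Modules}

theorem isInvertible_pullback (f : X ⟶ Y) (hM : PicF.IsInvertible M) :
    PicF.IsInvertible ((Scheme.Modules.pullback f).obj M) :=
  isInvertible_of_gen fun x => by
    obtain ⟨V, e, hx, he⟩ := exists_gen hM (f x)
    exact ⟨_, _, hx, IsGen.pullSect f he⟩

theorem exists_iso_pullback_tensorPow (f : X ⟶ Y) (hM : PicF.IsInvertible M) (k : ℕ) :
    Nonempty ((Scheme.Modules.pullback f).obj (CohB1.tensorPow M k) ≅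
      CohB1.tensorPow ((Scheme.Modules.pullback f).obj M) k) := by
  let J := {p : Σ V : Y.Opens, Γ(M, V) // IsGen M p.2}
  obtain ⟨φ, -⟩ := exists_iso_of_gen (P := (Scheme.Modules.pullback f).obj (CohB1.tensorPow M k))
    (Q := CohB1.tensorPow ((Scheme.Modules.pullback f).obj M) k) (fun j : J => f ⁻¹ᵁ j.1.1)
    (fun x => by obtain ⟨V, e, hx, he⟩ := exists_gen hM (f x); exact ⟨⟨⟨V, e⟩, he⟩, hx⟩)
    (fun j => OmegaSh.pullSect f (CohB1.tensorPow M k) j.1.1 (spow j.1.2 k))
    (fun j => IsGen.pullSect f (isGen_spow j.2 k))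
    (fun j => spow (OmegaSh.pullSect f M j.1.1 j.1.2) k) (fun j => isGen_spow (IsGen.pullSect f j.2) k)
    fun i j w hw => by
      obtain ⟨a, ha⟩ := transition (ei := i.1.2) j.2
      let U := i.1.1 ⊓ j.1.1
      have e1 := congrArg (OmegaSh.pullSect f (CohB1.tensorPow M k) U)
        (show (CohB1.tensorPow M k).presheaf.map (homOfLE (inf_le_left : U ≤ i.1.1)).op (spow i.1.2 k) =
          a ^ k • (CohB1.tensorPow M k).presheaf.map (homOfLE (inf_le_right : U ≤ j.1.1)).op (spow j.1.2 k) by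
            rw [spow_res, spow_res, ha, spow_smul])
      rw [pullSect_res, OmegaSh.pullSect_smul, pullSect_res] at e1
      have e2 := congrArg (OmegaSh.pullSect f M U) ha
      rw [pullSect_res, OmegaSh.pullSect_smul, pullSect_res] at e2
      have := (((IsGen.pullSect f (isGen_spow j.2 k)).res (f.preimage_mono (inf_le_right : U ≤ j.1.1))).bijective
        le_rfl).1 (a₁ := f.app U (a ^ k)) (a₂ := w) (by
          beta_reduce; rw [H10Coh.mres_self]; exact e1.symm.trans hw)
      rw [← this, map_pow, spow_res, spow_res]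
      refine Eq.trans ?_ (spow_smul (f.app U a) _ k)
      exact congrArg (fun z => spow z k) e2
  exact ⟨φ⟩

/-- Ampleness pulls back along morphisms which are, locally on the target, affine. -/
theorem isAmple_pullback [CompactSpace X] [CompactSpace Y] [QuasiSeparatedSpace Y] (f : X ⟶ Y)
    (hM : CohB1.IsAmple M)
    (h : ∀ x, ∃ U : Y.Opens, f x ∈ U ∧ ∀ W : Y.Opens, IsAffineOpen W → W ≤ U → IsAffineOpen (f ⁻¹ᵁ W)) :
    CohB1.IsAmple ((Scheme.Modules.pullback f).obj M) := by
  obtain ⟨hM', -, -⟩ := isAmple_iff.1 hM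
  rw [isAmple_iff]
  refine ⟨isInvertible_pullback f hM', inferInstance, fun x => ?_⟩
  obtain ⟨U, hxU, hU⟩ := h x
  obtain ⟨k, s, hk, hxs, hsU, hs⟩ := exists_affine_gen_le hM hxU
  obtain ⟨φ⟩ := exists_iso_pullback_tensorPow f hM' k
  have e : gen _ (φ.hom.app ⊤ (pullTop f s)) = f ⁻¹ᵁ gen (CohB1.tensorPow M k) s := by
    rw [gen_iso]
    have := gen_smul_pullSect f (isInvertible_tensorPow hM' k) s (isUnit_one (M := Γ(X, ⊤)))
    rwa [one_smul] at this
  exact ⟨k, φ.hom.app ⊤ (pullTop f s), hk, by rw [e]; exact hxs, by rw [e]; exact hU _ hs hsU⟩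

theorem compactSpace_projSpace (n : ℕ) (R : Type u) [CommRing R] : CompactSpace (ProjSpace n R) := by
  refine ⟨?_⟩
  have h : (Set.univ : Set (ProjSpace n R)) =
      ⋃ i : Fin (n + 1), (gen (Twist.twistProjSpace n R 1) (ProjUP.coord n R i) : Set (ProjSpace n R)) :=
    (Set.eq_univ_of_forall fun y => Set.mem_iUnion.2 ((exists_mem_basicOpen_X y).imp fun i hi => (gen_coord i).ge hi)).symm
  rw [h]
  exact isCompact_iUnion fun i => (isAffineOpen_gen_coord i).isCompact

theorem quasiSeparatedSpace_projSpace (n : ℕ) (R : Type u) [CommRing R] : QuasiSeparatedSpace (ProjSpace n R) :=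
  inferInstanceAs (QuasiSeparatedSpace (Proj (polyGrading n R)))

theorem isAmple_twistProjSpace (n : ℕ) (R : Type u) [CommRing R] :
    CohB1.IsAmple (Twist.twistProjSpace n R 1) := by
  rw [isAmple_iff]
  refine ⟨isInvertible_twist, compactSpace_projSpace n R, fun y => ?_⟩
  obtain ⟨i, hi⟩ := exists_mem_basicOpen_X y
  refine ⟨1, spow (ProjUP.coord n R i) 1, one_pos, ?_⟩
  rw [gen_spow isInvertible_twist _ 1 one_pos]
  exact ⟨(gen_coord i).ge hi, isAffineOpen_gen_coord i⟩

theorem isAmple_twistOver [IsAffine Y] (n : ℕ) :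
    CompactSpace (ProjSpaceOver n Y) ∧ CohB1.IsAmple (Twist.twistOver n Y 1) := by
  haveI := compactSpace_projSpace n (ULift.{u} ℤ)
  haveI := quasiSeparatedSpace_projSpace n (ULift.{u} ℤ)
  let t := specULiftZIsTerminal.from Y
  let p₁ : ProjSpaceOver n Y ⟶ ProjSpace n (ULift.{u} ℤ) := pullback.fst (ProjSpace.toSpec n (ULift.{u} ℤ)) t
  haveI : IsAffineHom t := inferInstance
  haveI hp₁ : IsAffineHom p₁ := MorphismProperty.pullback_fst _ _ ‹IsAffineHom t›
  haveI hc : CompactSpace (ProjSpaceOver n Y) := QuasiCompact.compactSpace_of_compactSpace p₁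
  exact ⟨hc, isAmple_pullback p₁ (isAmple_twistProjSpace n _) fun x =>
    ⟨⊤, trivial, fun W hW _ => hp₁.isAffine_preimage W hW⟩⟩

theorem isAmple_of_isRelVeryAmplePn [IsAffine Y] [CompactSpace X] {q : X ⟶ Y} {L : X.Modules}
    (h : RelAmple.IsRelVeryAmplePn q L) : CohB1.IsAmple L := by
  obtain ⟨n, i, hi, -, ⟨τ⟩⟩ := h
  obtain ⟨hc, hA⟩ := isAmple_twistOver (Y := Y) n
  haveI := quasiSeparatedSpace_of_isAmple hA
  refine isAmple_of_iso τ.symm (isAmple_pullback i hA fun x => ?_)
  haveI := hi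
  refine ⟨i.coborderRange, ?_, fun W hW hle => ?_⟩
  · exact subset_coborder ⟨x, rfl⟩
  · have e : i ⁻¹ᵁ W = i.liftCoborder ⁻¹ᵁ (i.coborderRange.ι ⁻¹ᵁ W) := by
      rw [← Scheme.Hom.comp_preimage, Scheme.Hom.liftCoborder_ι]
    rw [e]
    refine IsAffineOpen.preimage ?_ _
    rw [← i.coborderRange.ι.isAffineOpen_iff_of_isOpenImmersion, Scheme.Hom.image_preimage_eq_opensRange_inf,
      Scheme.Opens.opensRange_ι, inf_eq_right.2 hle]
    exact hW

end Groth.Agent.H11Ample
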