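import Groth.Agent.H11Ample.RelPullback
import Groth.Prelude.Def_PicGrp

/-!
# Relative ampleness of composites
-/

set_option autoImplicit false
set_option linter.style.haveILetI false

noncomputable section

universe u

open CategoryTheory CategoryTheory.Limits AlgebraicGeometry Opposite TopologicalSpace
open Groth.Agent.H11Tilde

namespace Groth.Agent.H11Ample

variable {X Y Z : Scheme.{u}}

theorem exists_iso_assoc {A B C : X.Modules} (hA : PicF.IsInvertible A) (hB : PicF.IsInvertible B)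
    (hC : PicF.IsInvertible C) :
    Nonempty (CohB1.tensorMod (CohB1.tensorMod A B) C ≅ CohB1.tensorMod A (CohB1.tensorMod B C)) := by
  let J := {p : Σ V : X.Opens, Γ(A, V) × Γ(B, V) × Γ(C, V) // IsGen A p.2.1 ∧ IsGen B p.2.2.1 ∧ IsGen C p.2.2.2}
  obtain ⟨φ, -⟩ := exists_iso_of_gen (fun j : J => j.1.1)
    (fun x => by
      obtain ⟨U, a, hx, ha⟩ := exists_gen hA x
      obtain ⟨V, b, hx', hb⟩ := exists_gen hB x
      obtain ⟨W, c, hx'', hc⟩ := exists_gen hC x
      exact ⟨⟨⟨U ⊓ V ⊓ W, _, _, _⟩, ha.res (inf_le_left.trans inf_le_left),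
        hb.res (inf_le_left.trans inf_le_right), hc.res inf_le_right⟩, ⟨hx, hx'⟩, hx''⟩)
    (fun j => tm (tm j.1.2.1 j.1.2.2.1) j.1.2.2.2) (fun j => isGen_tm (isGen_tm j.2.1 j.2.2.1) j.2.2.2)
    (fun j => tm j.1.2.1 (tm j.1.2.2.1 j.1.2.2.2)) (fun j => isGen_tm j.2.1 (isGen_tm j.2.2.1 j.2.2.2))
    fun i j w hw => by
      obtain ⟨a, ha⟩ := transition (ei := i.1.2.1) j.2.1
      obtain ⟨b, hb⟩ := transition (ei := i.1.2.2.1) j.2.2.1
      obtain ⟨c, hc⟩ := transition (ei := i.1.2.2.2) j.2.2.2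
      rw [tm_res, tm_res, tm_res, tm_res, ha, hb, hc] at hw
      simp only [tm_smul_left, tm_smul_right, smul_smul] at hw
      have := ((isGen_tm (isGen_tm (j.2.1.res inf_le_right) (j.2.2.1.res inf_le_right))
        (j.2.2.2.res inf_le_right)).bijective le_rfl).1 (a₁ := c * (b * a)) (a₂ := w)
        (by beta_reduce; rw [H10Coh.mres_self]; exact hw)
      rw [tm_res, tm_res, tm_res, tm_res, ha, hb, hc]
      simp only [tm_smul_left, tm_smul_right, smul_smul]
      rw [← this]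
      congr 1
      ring
  exact ⟨φ⟩

theorem mem_gen_iff_mem_basicOpen {L : X.Modules} {g : Γ(L, ⊤)} {B : X.Opens} {e : Γ(L, B)} (he : IsGen L e)
    {a : Γ(X, B)} (ha : L.presheaf.map (homOfLE (le_top : B ≤ ⊤)).op g = a • e) {y : X} (hy : y ∈ B) :
    y ∈ gen L g ↔ y ∈ X.basicOpen a :=
  ⟨fun h => (gen_inf_eq_basicOpen he g a ha).le ⟨h, hy⟩, fun h => ((gen_inf_eq_basicOpen he g a ha).ge h).1⟩

theorem quasiSeparatedSpace_of_gen_cover {J : Type*} {P : J → X.Modules} (hP : ∀ j, PicF.IsInvertible (P j))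
    (g : ∀ j, Γ(P j, ⊤)) (hcov : ∀ x, ∃ j, x ∈ gen (P j) (g j))
    (hq : ∀ j, QuasiSeparatedSpace (gen (P j) (g j)).toScheme) : QuasiSeparatedSpace X := by
  refine QuasiSeparatedSpace.of_isOpenCover (U := fun j => gen (P j) (g j))
    (IsOpenCover.mk (eq_top_iff.2 fun x _ => Opens.mem_iSup.2 (hcov x))) (fun j => ?_) (fun j => ?_)
  · intro W hWc hWo
    haveI := isAffineHom_gen_ι (hP j) (g j)
    have h1 := ((gen (P j) (g j)).ι.isCompact_preimage (U := ⟨W, hWo⟩) hWc).image (gen (P j) (g j)).ι.continuous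
    convert! h1 using 1
    ext y
    constructor
    · exact fun hy => ⟨⟨y, hy.1⟩, hy.2, rfl⟩
    · rintro ⟨y', hy', rfl⟩
      exact ⟨y'.2, hy'⟩
  · haveI := hq j
    exact (isQuasiSeparated_iff_quasiSeparatedSpace _ (gen (P j) (g j)).isOpen).2
      (inferInstanceAs (QuasiSeparatedSpace (gen (P j) (g j)).toScheme))

/-- Affine loci inside an open, described by sections over that open. -/
theorem exists_section_of_ampleOn {L : X.Modules} (hL : PicF.IsInvertible L) {G : X.Opens} (h : AmpleOn L G) {x : X}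
    (hx : x ∈ G) : ∃ (k : ℕ) (u : Γ(CohB1.tensorPow L k, G)) (A : X.Opens), 0 < k ∧ x ∈ A ∧ IsAffineOpen A ∧ A ≤ G ∧
      ∀ (B : X.Opens) (hB : B ≤ G) (l : Γ(CohB1.tensorPow L k, B)) (a : Γ(X, B)), IsGen (CohB1.tensorPow L k) l →
        (CohB1.tensorPow L k).presheaf.map (homOfLE hB).op u = a • l → ∀ y ∈ B, (y ∈ A ↔ y ∈ X.basicOpen a) := by
  obtain ⟨k, s, hk, hxs, hs⟩ := (isAmple_iff.1 h).2.2 ⟨x, hx⟩
  obtain ⟨φ⟩ := exists_iso_pullback_tensorPow G.ι hL k
  let M := CohB1.tensorPow L k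
  obtain ⟨v, hv⟩ : ∃ v : Γ((Scheme.Modules.pullback G.ι).obj M, ⊤), φ.hom.app ⊤ v = s :=
    (ConcreteCategory.bijective_of_isIso (φ.hom.app ⊤)).2 s
  obtain ⟨u, hu⟩ := (H17.PullSect.bijective_pullSect G.ι M (W := G) (by rw [Scheme.Opens.opensRange_ι])).2
    (((Scheme.Modules.pullback G.ι).obj M).presheaf.map (homOfLE le_top).op v)
  refine ⟨k, u, G.ι ''ᵁ gen _ s, hk, ⟨_, hxs, rfl⟩, hs.image_of_isOpenImmersion _, G.ι_image_le _, ?_⟩
  intro B hB l a hl hBu y hy
  have hres := congrArg (OmegaSh.pullSect G.ι M B) hBu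
  rw [pullSect_res, OmegaSh.pullSect_smul, hu, H10Coh.mres_mres] at hres
  have hmem : y ∈ G.ι ''ᵁ gen _ s ↔ (⟨y, hB hy⟩ : G) ∈ gen ((Scheme.Modules.pullback G.ι).obj M) v := by
    rw [← hv, gen_iso]
    exact ⟨fun ⟨y', hy', e⟩ => by rwa [show (⟨y, hB hy⟩ : G) = y' from Subtype.ext e.symm], fun h => ⟨_, h, rfl⟩⟩
  refine hmem.trans ((mem_gen_iff_mem_basicOpen (IsGen.pullSect G.ι hl) hres
    (show (⟨y, hB hy⟩ : G) ∈ G.ι ⁻¹ᵁ B from hy)).trans ?_)
  rw [← Scheme.preimage_basicOpen]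
  rfl

/-- The key case: `K` ample, `L` relatively ample. -/
theorem eventually_isAmple_tensor_pullback (f : X ⟶ Y) [QuasiCompact f] {L : X.Modules} {K : Y.Modules}
    (hL : RelAmple.IsRelAmple f L) (hK : CohB1.IsAmple K) :
    ∃ n₀ : ℕ, 0 < n₀ ∧ ∀ n, n₀ ≤ n →
      CohB1.IsAmple (CohB1.tensorMod L ((Scheme.Modules.pullback f).obj (CohB1.tensorPow K n))) := by
  classical
  haveI := compactSpace_of_isAmple hK
  haveI := quasiSeparatedSpace_of_isAmple hK
  haveI : CompactSpace X := QuasiCompact.compactSpace_of_compactSpace f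
  have hK' := isInvertible_of_isAmple hK
  have hL' := isInvertible_of_isRelAmple hL
  let M := (Scheme.Modules.pullback f).obj K
  have hM : PicF.IsInvertible M := isInvertible_pullback f hK'
  have loc : ∀ x : X, ∃ (m : ℕ) (t : Γ(CohB1.tensorPow M m, ⊤)) (e : Γ(M, gen (CohB1.tensorPow M m) t)),
      0 < m ∧ x ∈ gen (CohB1.tensorPow M m) t ∧ IsGen M e ∧ AmpleOn L (gen (CohB1.tensorPow M m) t) := fun x => by
    obtain ⟨V₀, e₀, hxV₀, he₀⟩ := exists_gen hK' (f x)
    obtain ⟨m, t, hm, hxt, htV, ht⟩ := exists_affine_gen_le hK hxV₀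
    obtain ⟨φ⟩ := exists_iso_pullback_tensorPow f hK' m
    have e : gen _ (φ.hom.app ⊤ (pullTop f t)) = f ⁻¹ᵁ gen (CohB1.tensorPow K m) t := by
      rw [gen_iso]
      have := gen_smul_pullSect f (isInvertible_tensorPow hK' m) t (isUnit_one (M := Γ(X, ⊤)))
      rwa [one_smul] at this
    exact ⟨m, φ.hom.app ⊤ (pullTop f t), _, hm, by rw [e]; exact hxt,
      (IsGen.pullSect f he₀).res (e.le.trans (f.preimage_mono htV)), by rw [e]; exact (isRelAmple_iff.1 hL).2 _ ht⟩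
  choose m t e hm hxt he hA using loc
  haveI : QuasiSeparatedSpace X := quasiSeparatedSpace_of_gen_cover (fun x => isInvertible_tensorPow hM (m x))
    (fun x => t x) (fun x => ⟨x, hxt x⟩) fun x => quasiSeparatedSpace_of_isAmple (hA x)
  choose k u A hk hxA hAaff hAG hchar using fun x => exists_section_of_ampleOn hL' (hA x) (hxt x)
  choose c hc using fun x => exists_coeff (isGen_spow (he x) (m x))
    ((CohB1.tensorPow M (m x)).presheaf.map (homOfLE (le_top : gen (CohB1.tensorPow M (m x)) (t x) ≤ ⊤)).op (t x))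
  choose N hN using fun x (r : Fin (m x)) => exists_extend (F := CohB1.tensorPow L (k x)) hM
    (H28Mero.isQCoh_of_isInvertible (isInvertible_tensorPow hL' (k x))) (m x) r.1 (t x) (tm (u x) (spow (e x) r.1))
  obtain ⟨T, hT⟩ := CompactSpace.elim_nhds_subcover (fun x => (A x : Set X)) (fun x => (A x).isOpen.mem_nhds (hxA x))
  refine ⟨T.sup (fun x => m x * (Finset.univ.sup (N x) + 2)) + 1, Nat.succ_pos _, fun n hn => ?_⟩
  have hKn := isInvertible_tensorPow hK' n
  obtain ⟨μ⟩ := exists_iso_pullback_tensorPow f hK' n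
  suffices h : CohB1.IsAmple (CohB1.tensorMod L (CohB1.tensorPow M n)) from
    isAmple_of_iso (PicGrp.tensorModIso (Iso.refl L) μ.symm) h
  rw [isAmple_iff]
  refine ⟨isInvertible_tensor hL' (isInvertible_tensorPow hM n), inferInstance, fun y => ?_⟩
  obtain ⟨x, hx, hyx⟩ := Set.mem_iUnion₂.1 (hT.ge (Set.mem_univ y))
  let G := gen (CohB1.tensorPow M (m x)) (t x)
  let P := CohB1.tensorPow L (k x)
  have hP : PicF.IsInvertible P := isInvertible_tensorPow hL' _
  have hbound : m x * (Finset.univ.sup (N x) + 2) ≤ n * k x :=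
    le_trans (Finset.le_sup (f := fun x => m x * (Finset.univ.sup (N x) + 2)) hx)
      (le_trans (by omega) (Nat.le_mul_of_pos_right n (hk x)))
  obtain ⟨a, ha⟩ : ∃ a, n * k x = a + m x := ⟨n * k x - m x, by
    have : m x ≤ n * k x := le_trans (Nat.le_mul_of_pos_right (m x) (by omega)) hbound
    omega⟩
  have key : ∀ (d r q : ℕ), d = r + q * m x → r < m x → Finset.univ.sup (N x) ≤ q →
      ∃ S : Γ(CohB1.tensorMod P (CohB1.tensorPow M d), ⊤),
        (CohB1.tensorMod P (CohB1.tensorPow M d)).presheaf.map (homOfLE (le_top : G ≤ ⊤)).op S =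
          tm (c x ^ q • u x) (spow (e x) d) := by
    rintro d r q rfl hr hq
    obtain ⟨S, hS⟩ := hN x ⟨r, hr⟩ q ((Finset.le_sup (Finset.mem_univ _)).trans hq)
    exact ⟨S, hS G le_rfl (e x) (u x) (c x) (he x) (H10Coh.mres_self _ _ _) (hc x)⟩
  obtain ⟨S, hS⟩ := key a (a % m x) (a / m x) (Nat.mod_add_div' a (m x)).symm (Nat.mod_lt _ (hm x))
    ((Nat.le_div_iff_mul_le (hm x)).2 (by rw [mul_comm]; rw [mul_add] at hbound; omega))
  have hcu : IsUnit (c x) := X.toRingedSpace.isUnit_of_isUnit_germ G (c x) fun z hz =>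
    (X.mem_basicOpen (c x) z hz).1 ((gen_inf_eq_basicOpen (isGen_spow (he x) (m x)) (t x) (c x) (hc x)).le ⟨hz, hz⟩)
  obtain ⟨α⟩ := exists_iso_assoc hP (isInvertible_tensorPow hM a) (isInvertible_tensorPow hM (m x))
  obtain ⟨β, -⟩ := exists_iso_add hM a (m x)
  obtain ⟨γ, -⟩ := exists_iso_mul hM n (k x)
  obtain ⟨χ⟩ := exists_iso_tensorPow_tensor hL' (isInvertible_tensorPow hM n) (k x)
  obtain ⟨δ⟩ : Nonempty (CohB1.tensorPow M (a + m x) ≅ CohB1.tensorPow (CohB1.tensorPow M n) (k x)) := by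
    rw [← ha]; exact ⟨γ.symm⟩
  let Φ := α ≪≫ PicGrp.tensorModIso (Iso.refl P) (β ≪≫ δ) ≪≫ χ
  have egen : gen _ (Φ.hom.app ⊤ (tm S (t x))) = A x := by
    rw [gen_iso, gen_tm (isInvertible_tensor hP (isInvertible_tensorPow hM a)) (isInvertible_tensorPow hM (m x))]
    have hon : ∀ z ∈ G, (z ∈ gen (CohB1.tensorMod P (CohB1.tensorPow M a)) S ↔ z ∈ A x) := by
      intro z hz
      obtain ⟨B₀, l₀, hzB₀, hl₀⟩ := exists_gen hP z
      let B := G ⊓ B₀
      have hl : IsGen P (P.presheaf.map (homOfLE (inf_le_right : B ≤ B₀)).op l₀) := hl₀.res _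
      obtain ⟨w, hw⟩ := exists_coeff hl (P.presheaf.map (homOfLE (inf_le_left : B ≤ G)).op (u x))
      rw [hchar x B inf_le_left _ w hl hw z ⟨hz, hzB₀⟩]
      have hSB : (CohB1.tensorMod P (CohB1.tensorPow M a)).presheaf.map (homOfLE (le_top : B ≤ ⊤)).op S =
          (X.presheaf.map (homOfLE (inf_le_left : B ≤ G)).op (c x ^ (a / m x)) * w) •
            tm (P.presheaf.map (homOfLE (inf_le_right : B ≤ B₀)).op l₀)
              ((CohB1.tensorPow M a).presheaf.map (homOfLE (inf_le_left : B ≤ G)).op (spow (e x) a)) := by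
        have h1 := congrArg ((CohB1.tensorMod P (CohB1.tensorPow M a)).presheaf.map
          (homOfLE (inf_le_left : B ≤ G)).op) hS
        rw [H10Coh.mres_mres, tm_res, Scheme.Modules.map_smul, hw, smul_smul, tm_smul_left] at h1
        exact h1
      rw [mem_gen_iff_mem_basicOpen (isGen_tm hl ((isGen_spow (he x) a).res inf_le_left)) hSB ⟨hz, hzB₀⟩,
        Scheme.basicOpen_mul, Scheme.basicOpen_of_isUnit X ((hcu.pow _).map _)]
      exact ⟨fun h => h.2, fun h => ⟨⟨hz, hzB₀⟩, h⟩⟩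
    ext z
    exact ⟨fun h => (hon z h.2).1 h.1, fun h => ⟨(hon z (hAG x h)).2 h, hAG x h⟩⟩
  exact ⟨k x, _, hk x, by rw [egen]; exact hyx, by rw [egen]; exact hAaff x⟩

theorem isRelAmple_morphismRestrict {f : X ⟶ Y} {L : X.Modules} (h : RelAmple.IsRelAmple f L) (U : Y.Opens) :
    RelAmple.IsRelAmple (f ∣_ U) ((Scheme.Modules.pullback (f ⁻¹ᵁ U).ι).obj L) := by
  refine isRelAmple_iff.2 ⟨IsZariskiLocalAtTarget.restrict (P := @QuasiCompact) h.1 U, fun V hV => ?_⟩
  rw [ampleOn_preimage_iff, image_morphismRestrict_preimage]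
  exact (isRelAmple_iff.1 h).2 _ (hV.image_of_isOpenImmersion _)

theorem isRelAmple_comp_tensor [CompactSpace Z] {f : X ⟶ Y} {g : Y ⟶ Z} {L : X.Modules} {K : Y.Modules}
    (hL : RelAmple.IsRelAmple f L) (hK : RelAmple.IsRelAmple g K) :
    ∃ n₀ : ℕ, 0 < n₀ ∧ ∀ n, n₀ ≤ n →
      RelAmple.IsRelAmple (f ≫ g) (CohB1.tensorMod L ((Scheme.Modules.pullback f).obj (CohB1.tensorPow K n))) := by
  haveI := hL.1
  haveI := hK.1
  choose W hW hxW using fun z : Z => exists_isAffineOpen_mem z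
  obtain ⟨T, hT⟩ := CompactSpace.elim_nhds_subcover (fun z => (W z : Set Z)) (fun z => (W z).isOpen.mem_nhds (hxW z))
  have hloc : ∀ z : Z, ∃ n₀, ∀ n, n₀ ≤ n →
      AmpleOn (CohB1.tensorMod L ((Scheme.Modules.pullback f).obj (CohB1.tensorPow K n))) ((f ≫ g) ⁻¹ᵁ W z) := by
    intro z
    let U := g ⁻¹ᵁ W z
    haveI : QuasiCompact (f ∣_ U) := IsZariskiLocalAtTarget.restrict (P := @QuasiCompact) inferInstance U
    obtain ⟨n₀, -, hn₀⟩ := eventually_isAmple_tensor_pullback (f ∣_ U) (isRelAmple_morphismRestrict hL U)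
      ((isRelAmple_iff.1 hK).2 _ (hW z))
    refine ⟨n₀, fun n hn => ?_⟩
    have hK' := isInvertible_of_isRelAmple hK
    obtain ⟨ψ⟩ := exists_iso_pullback_tensor (f ⁻¹ᵁ U).ι (isInvertible_of_isRelAmple hL)
      (isInvertible_pullback f (isInvertible_tensorPow hK' n))
    obtain ⟨π⟩ := exists_iso_pullback_tensorPow U.ι hK' n
    have e : (Scheme.Modules.pullback (f ∣_ U)).obj (CohB1.tensorPow ((Scheme.Modules.pullback U.ι).obj K) n) ≅
        (Scheme.Modules.pullback (f ⁻¹ᵁ U).ι).obj ((Scheme.Modules.pullback f).obj (CohB1.tensorPow K n)) :=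
      (Scheme.Modules.pullback (f ∣_ U)).mapIso π.symm ≪≫ (Scheme.Modules.pullbackComp (f ∣_ U) U.ι).app _ ≪≫
        (Scheme.Modules.pullbackCongr (morphismRestrict_ι f U)).app _ ≪≫
        ((Scheme.Modules.pullbackComp (f ⁻¹ᵁ U).ι f).app _).symm
    rw [Scheme.Hom.comp_preimage]
    exact isAmple_of_iso (PicGrp.tensorModIso (Iso.refl _) e ≪≫ ψ.symm) (hn₀ n hn)
  choose n₀ hn₀ using hloc
  refine ⟨T.sup n₀ + 1, Nat.succ_pos _, fun n hn => isRelAmple_of_cover fun z => ?_⟩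
  obtain ⟨z', hz', hzz'⟩ := Set.mem_iUnion₂.1 (hT.ge (Set.mem_univ z))
  exact ⟨W z', hW z', hzz', hn₀ z' n ((Finset.le_sup hz').trans (Nat.le_of_succ_le hn))⟩

end Groth.Agent.H11Ample
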