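import Groth.Prelude.Def_SecTwist
import Groth.Agent.H11Tilde.StalkGen
import Groth.Agent.H11Tilde.Global
import Groth.Agent.H11Tilde.Gen
import Groth.Agent.H16Derived.KFlat.StalkTensor
import Groth.Agent.H29Mero.RegularSection

/-!
# Loci of generation of sections, tensor products and powers of invertible modules
-/

set_option autoImplicit false
set_option linter.style.haveILetI false

noncomputable section

universe u

open CategoryTheory CategoryTheory.Limits AlgebraicGeometry Opposite TopologicalSpace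
open Groth.Agent.H11Tilde
open scoped TensorProduct

namespace Groth.Agent.H11Ample

variable {X : Scheme.{u}} {L M N : X.Modules}

theorem exists_gen (hL : PicF.IsInvertible L) (x : X) :
    ∃ (V : X.Opens) (e : Γ(L, V)), x ∈ V ∧ IsGen L e :=
  H29Mero.exists_generator hL x

/-- Generators near every point make a module invertible. -/
theorem isInvertible_of_gen (h : ∀ x : X, ∃ (V : X.Opens) (e : Γ(L, V)), x ∈ V ∧ IsGen L e) :
    PicF.IsInvertible L := fun x => by
  obtain ⟨V, e, hx, he⟩ := h x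
  exact ⟨V, hx, nonempty_iso_structureModule L V e fun W hW => he.bijective hW⟩

theorem isGen_res {V W : X.Opens} {e : Γ(L, V)} (he : IsGen L e) (h : W ≤ V) {c : Γ(X, W)} (hc : IsUnit c) :
    IsGen L (c • L.presheaf.map (homOfLE h).op e) := fun y hy => by
  obtain ⟨c', hc'⟩ := hc.map (X.presheaf.germ W y hy).hom
  refine Eq.mpr (congrArg Function.Bijective (funext fun r => ?_))
    ((he.res h y hy).comp (Units.mulRight c').bijective)
  change r • L.presheaf.germ W y hy (c • L.presheaf.map (homOfLE h).op e) =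
    (r * (c' : X.presheaf.stalk y)) • L.presheaf.germ W y hy (L.presheaf.map (homOfLE h).op e)
  rw [H06Mod.germ_smul, ← mul_smul, hc']

theorem isGen_basicOpen {V : X.Opens} {e : Γ(L, V)} (he : IsGen L e) (c : Γ(X, V)) :
    IsGen L (L.presheaf.map (homOfLE (X.basicOpen_le c)).op (c • e)) := by
  rw [Scheme.Modules.map_smul]
  exact isGen_res he _ (X.toRingedSpace.isUnit_res_basicOpen c)

/-- Generators at a point only depend on the germ of the coefficient. -/
theorem bijective_smul_iff {V : X.Opens} {e : Γ(L, V)} (he : IsGen L e) (c : Γ(X, V)) {y : X} (hy : y ∈ V) :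
    Function.Bijective (fun r : X.presheaf.stalk y => r • L.presheaf.germ V y hy (c • e)) ↔
      y ∈ X.basicOpen c := by
  rw [H06Mod.germ_smul]
  refine ⟨fun h => (X.mem_basicOpen c y hy).2 (isUnit_of_bijective_smul he hy h.2), fun h => ?_⟩
  have h' := isGen_basicOpen he c y h
  rw [TopCat.Presheaf.germ_res_apply, H06Mod.germ_smul] at h'
  exact h'

/-- The locus where a global section generates. -/
def gen (L : X.Modules) (g : Γ(L, ⊤)) : X.Opens := CohB1.genLocus L (homOfGlobal L g)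

theorem genLocus_eq_gen (s : Coh.structureModule X ⟶ L) :
    CohB1.genLocus L s = gen L (SecTwist.val s ⊤) := by
  have h : homOfGlobal L (SecTwist.val s ⊤) = s := by
    refine Scheme.Modules.hom_ext _ _ fun W => ?_
    ext r
    exact (H06Mod.app_unit s W r).symm
  rw [gen, h]

theorem isGen_gen (g : Γ(L, ⊤)) : IsGen L (L.presheaf.map (homOfLE (le_top : gen L g ≤ ⊤)).op g) := by
  intro y hy
  obtain ⟨U, hU, hyU⟩ := Opens.mem_sSup.1 hy
  have h := isGen_of_bijective (e := L.presheaf.map (homOfLE (le_top : U ≤ ⊤)).op g) (fun W hW => by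
    have := (isIso_restrict_homOfGlobal_iff L g U).1 hU W hW
    refine Eq.mpr (congrArg Function.Bijective (funext fun r => ?_)) this
    rw [H10Coh.mres_mres]) y hyU
  rw [TopCat.Presheaf.germ_res_apply] at h ⊢
  exact h

theorem mem_gen_of_isGen {g : Γ(L, ⊤)} {W : X.Opens} (h : IsGen L (L.presheaf.map (homOfLE (le_top : W ≤ ⊤)).op g))
    {y : X} (hy : y ∈ W) : y ∈ gen L g := by
  refine Opens.mem_sSup.2 ⟨W, (isIso_restrict_homOfGlobal_iff L g W).2 fun V hV => ?_, hy⟩
  have := h.bijective hV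
  refine Eq.mpr (congrArg Function.Bijective (funext fun r => ?_)) this
  rw [H10Coh.mres_mres]

/-- Where a section is `c • e` for a generator `e`, it generates exactly where `c` is a unit. -/
theorem gen_inf_eq_basicOpen {V : X.Opens} {e : Γ(L, V)} (he : IsGen L e) (g : Γ(L, ⊤)) (c : Γ(X, V))
    (hc : L.presheaf.map (homOfLE (le_top : V ≤ ⊤)).op g = c • e) :
    gen L g ⊓ V = X.basicOpen c := by
  ext y
  constructor
  · rintro ⟨hy, hyV⟩
    refine (bijective_smul_iff he c hyV).1 ?_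
    have := isGen_gen g y hy
    rw [← hc, TopCat.Presheaf.germ_res_apply]
    rw [TopCat.Presheaf.germ_res_apply] at this
    exact this
  · intro hy
    refine ⟨mem_gen_of_isGen (W := X.basicOpen c) ?_ hy, X.basicOpen_le c hy⟩
    have := isGen_basicOpen he c
    rw [← hc, H10Coh.mres_mres] at this
    exact this

theorem exists_coeff {V : X.Opens} {e : Γ(L, V)} (he : IsGen L e) (t : Γ(L, V)) : ∃ c : Γ(X, V), t = c • e := by
  obtain ⟨c, hc⟩ := (he.bijective le_rfl).2 t
  beta_reduce at hc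
  rw [H10Coh.mres_self] at hc
  exact ⟨c, hc.symm⟩

theorem mem_gen_iff (hL : PicF.IsInvertible L) (g : Γ(L, ⊤)) (y : X) :
    y ∈ gen L g ↔ Function.Bijective (fun r : X.presheaf.stalk y => r • L.presheaf.germ ⊤ y trivial g) := by
  constructor
  · intro hy
    have := isGen_gen g y hy
    rwa [TopCat.Presheaf.germ_res_apply] at this
  · intro h
    obtain ⟨V, e, hy, he⟩ := exists_gen hL y
    obtain ⟨c, hc⟩ := exists_coeff he (L.presheaf.map (homOfLE le_top).op g)
    have hb : y ∈ X.basicOpen c := by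
      refine (bijective_smul_iff he c hy).1 ?_
      rw [← hc, TopCat.Presheaf.germ_res_apply]
      exact h
    exact ((gen_inf_eq_basicOpen he g c hc).ge hb).1

theorem gen_iso {L' : X.Modules} (φ : L ⟶ L') [IsIso φ] (g : Γ(L, ⊤)) : gen L' (φ.app ⊤ g) = gen L g := by
  have h : homOfGlobal L' (φ.app ⊤ g) = homOfGlobal L g ≫ φ := by
    refine Scheme.Modules.hom_ext _ _ fun W => ?_
    ext r
    change (show Γ(X, W) from r) • L'.presheaf.map (homOfLE le_top).op (φ.app ⊤ g) =
      φ.app W ((show Γ(X, W) from r) • L.presheaf.map (homOfLE le_top).op g)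
    rw [Scheme.Modules.Hom.app_smul, app_map_apply]
  rw [gen, h, genLocus_comp_iso]
  rfl

/-- The intersection of an affine open with the locus of generation is affine. -/
theorem isAffineOpen_gen_inf {V : X.Opens} (hV : IsAffineOpen V) {e : Γ(L, V)} (he : IsGen L e) (g : Γ(L, ⊤)) :
    IsAffineOpen (gen L g ⊓ V) := by
  obtain ⟨c, hc⟩ := exists_coeff he (L.presheaf.map (homOfLE le_top).op g)
  rw [gen_inf_eq_basicOpen he g c hc]
  exact hV.basicOpen c

/-! ### Tensor products -/

/-- `m ⊗ n`. -/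
def tm {U : X.Opens} (m : Γ(M, U)) (n : Γ(N, U)) : Γ(CohB1.tensorMod M N, U) := SecTwist.tmul M N U m n

theorem tm_eq_tensorSect {U : X.Opens} (m : Γ(M, U)) (n : Γ(N, U)) :
    tm m n = H16Derived.KFlat.Stalk.tensorSect U m n := rfl

theorem tm_res {U V : X.Opens} (h : V ≤ U) (m : Γ(M, U)) (n : Γ(N, U)) :
    (CohB1.tensorMod M N).presheaf.map (homOfLE h).op (tm m n) =
      tm (M.presheaf.map (homOfLE h).op m) (N.presheaf.map (homOfLE h).op n) :=
  (H16Derived.KFlat.Stalk.tensorSect_res (homOfLE h) m n).symm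

theorem tm_smul_left {U : X.Opens} (r : Γ(X, U)) (m : Γ(M, U)) (n : Γ(N, U)) : tm (r • m) n = r • tm m n :=
  H16Derived.KFlat.Stalk.tensorSect_smul_left r m n

theorem tm_smul_right {U : X.Opens} (r : Γ(X, U)) (m : Γ(M, U)) (n : Γ(N, U)) : tm m (r • n) = r • tm m n :=
  H16Derived.KFlat.Stalk.tensorSect_smul_right r m n

theorem tm_add_left {U : X.Opens} (m m' : Γ(M, U)) (n : Γ(N, U)) : tm (m + m') n = tm m n + tm m' n :=
  H16Derived.KFlat.Stalk.tensorSect_add_left m m' n

theorem tm_add_right {U : X.Opens} (m : Γ(M, U)) (n n' : Γ(N, U)) : tm m (n + n') = tm m n + tm m n' :=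
  H16Derived.KFlat.Stalk.tensorSect_add_right m n n'

theorem bijective_smul_tmul {R A B : Type u} [CommRing R] [AddCommGroup A] [Module R A] [AddCommGroup B]
    [Module R B] {m : A} {n : B} (hm : Function.Bijective fun r : R => r • m)
    (hn : Function.Bijective fun r : R => r • n) :
    Function.Bijective fun r : R => r • (m ⊗ₜ[R] n) := by
  let eM : R ≃ₗ[R] A := LinearEquiv.ofBijective (LinearMap.toSpanSingleton R A m) hm
  let eN : R ≃ₗ[R] B := LinearEquiv.ofBijective (LinearMap.toSpanSingleton R B n) hn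
  let e := (TensorProduct.lid R R).symm.trans (TensorProduct.congr eM eN)
  refine (congrArg Function.Bijective (funext fun r => ?_)).mp e.bijective
  show (TensorProduct.congr eM eN) (1 ⊗ₜ r) = r • (m ⊗ₜ[R] n)
  rw [TensorProduct.congr_tmul]
  show ((1 : R) • m) ⊗ₜ (r • n) = _
  rw [one_smul, TensorProduct.tmul_smul]

theorem isGen_tm {U : X.Opens} {m : Γ(M, U)} {n : Γ(N, U)} (hm : IsGen M m) (hn : IsGen N n) :
    IsGen (CohB1.tensorMod M N) (tm m n) := by
  intro y hy
  have h := (H16Derived.KFlat.Stalk.stalkEquiv M N y).bijective.comp (bijective_smul_tmul (hm y hy) (hn y hy))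
  refine (congrArg Function.Bijective (funext fun r => ?_)).mp h
  show H16Derived.KFlat.Stalk.toStalk M N y (r • _) = _
  rw [map_smul, H16Derived.KFlat.Stalk.toStalk_tmul, H16Derived.KFlat.Stalk.pair_germ]
  rfl

theorem isInvertible_tensor (hM : PicF.IsInvertible M) (hN : PicF.IsInvertible N) :
    PicF.IsInvertible (CohB1.tensorMod M N) := isInvertible_of_gen fun x => by
  obtain ⟨U, e, hxU, he⟩ := exists_gen hM x
  obtain ⟨V, e', hxV, he'⟩ := exists_gen hN x
  exact ⟨U ⊓ V, _, ⟨hxU, hxV⟩, isGen_tm (he.res inf_le_left) (he'.res inf_le_right)⟩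

theorem gen_tm (hM : PicF.IsInvertible M) (hN : PicF.IsInvertible N) (a : Γ(M, ⊤)) (b : Γ(N, ⊤)) :
    gen (CohB1.tensorMod M N) (tm a b) = gen M a ⊓ gen N b := by
  ext y
  constructor
  · intro hy
    obtain ⟨U, e, hyU, he⟩ := exists_gen hM y
    obtain ⟨U', e', hyU', he'⟩ := exists_gen hN y
    let V := U ⊓ U'
    have hV : y ∈ V := ⟨hyU, hyU'⟩
    have heV := he.res (inf_le_left : V ≤ U)
    have heV' := he'.res (inf_le_right : V ≤ U')
    obtain ⟨c, hc⟩ := exists_coeff heV (M.presheaf.map (homOfLE le_top).op a)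
    obtain ⟨c', hc'⟩ := exists_coeff heV' (N.presheaf.map (homOfLE le_top).op b)
    have hcc : (CohB1.tensorMod M N).presheaf.map (homOfLE (le_top : V ≤ ⊤)).op (tm a b) = (c * c') • tm
        (M.presheaf.map (homOfLE (inf_le_left : V ≤ U)).op e)
        (N.presheaf.map (homOfLE (inf_le_right : V ≤ U')).op e') := by
      rw [tm_res, hc, hc', tm_smul_left, tm_smul_right, smul_smul]
    have h := (gen_inf_eq_basicOpen (isGen_tm heV heV') (tm a b) _ hcc).le ⟨hy, hV⟩
    rw [Scheme.basicOpen_mul] at h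
    exact ⟨((gen_inf_eq_basicOpen heV a c hc).ge h.1).1, ((gen_inf_eq_basicOpen heV' b c' hc').ge h.2).1⟩
  · rintro ⟨h₁, h₂⟩
    refine mem_gen_of_isGen (W := gen M a ⊓ gen N b) ?_ ⟨h₁, h₂⟩
    have h := isGen_tm ((isGen_gen a).res (inf_le_left : gen M a ⊓ gen N b ≤ _))
      ((isGen_gen b).res (inf_le_right : gen M a ⊓ gen N b ≤ _))
    rw [H10Coh.mres_mres, H10Coh.mres_mres, ← tm_res le_top] at h
    exact h

/-! ### Powers -/

/-- `e ^ n`. -/
def spow {V : X.Opens} (e : Γ(L, V)) : ∀ n : ℕ, Γ(CohB1.tensorPow L n, V)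
  | 0 => (1 : Γ(X, V))
  | n + 1 => tm (spow e n) e

theorem pow_eq_spow (s : Coh.structureModule X ⟶ L) (U : X.Opens) (n : ℕ) :
    (SecTwist.pow s n U : Γ(CohB1.tensorPow L n, U)) = spow (SecTwist.val s U : Γ(L, U)) n := by
  induction n with
  | zero => rfl
  | succ n ih =>
    change tm (SecTwist.pow s n U : Γ(CohB1.tensorPow L n, U)) _ = tm _ _
    rw [ih]

theorem spow_res {U V : X.Opens} (h : V ≤ U) (e : Γ(L, U)) (n : ℕ) :
    (CohB1.tensorPow L n).presheaf.map (homOfLE h).op (spow e n) = spow (L.presheaf.map (homOfLE h).op e) n := by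
  induction n with
  | zero => exact map_one (X.presheaf.map (homOfLE h).op).hom
  | succ n ih =>
    change (CohB1.tensorMod _ L).presheaf.map _ (tm (spow e n) e) = tm _ _
    rw [tm_res, ih]

theorem spow_smul {V : X.Opens} (c : Γ(X, V)) (e : Γ(L, V)) (n : ℕ) :
    spow (c • e) n = c ^ n • spow e n := by
  induction n with
  | zero => rw [pow_zero, one_smul]; rfl
  | succ n ih =>
    change tm (spow (c • e) n) (c • e) = c ^ (n + 1) • tm (spow e n) e
    rw [ih, tm_smul_left, tm_smul_right, smul_smul, pow_succ]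

theorem isGen_spow {V : X.Opens} {e : Γ(L, V)} (he : IsGen L e) : ∀ n, IsGen (CohB1.tensorPow L n) (spow e n)
  | 0 => isGen_of_bijective fun W hW => by
    refine Eq.mpr (congrArg Function.Bijective (funext fun r => ?_)) Function.bijective_id
    change (r * (X.presheaf.map (homOfLE hW).op (1 : Γ(X, V))) : Γ(X, W)) = r
    rw [map_one, mul_one]
  | n + 1 => isGen_tm (isGen_spow he n) he

theorem isInvertible_tensorPow (hL : PicF.IsInvertible L) (n : ℕ) : PicF.IsInvertible (CohB1.tensorPow L n) :=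
  isInvertible_of_gen fun x => by
    obtain ⟨V, e, hx, he⟩ := exists_gen hL x
    exact ⟨V, _, hx, isGen_spow he n⟩

theorem gen_spow (hL : PicF.IsInvertible L) (g : Γ(L, ⊤)) :
    ∀ n, 0 < n → gen (CohB1.tensorPow L n) (spow g n) = gen L g
  | 1, _ => by
    change gen (CohB1.tensorMod _ L) (tm (spow g 0) g) = _
    rw [gen_tm (isInvertible_tensorPow hL 0) hL, inf_eq_right]
    intro y _
    refine mem_gen_of_isGen (W := ⊤) ?_ trivial
    refine isGen_of_bijective fun W hW => ?_
    refine Eq.mpr (congrArg Function.Bijective (funext fun r => ?_)) Function.bijective_id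
    rw [H10Coh.mres_mres]
    change (r * (X.presheaf.map (homOfLE le_top).op (1 : Γ(X, ⊤))) : Γ(X, W)) = r
    exact (congrArg (r * ·) (map_one (X.presheaf.map (homOfLE (le_top : W ≤ ⊤)).op).hom)).trans (mul_one r)
  | n + 2, _ => by
    change gen (CohB1.tensorMod _ L) (tm (spow g (n + 1)) g) = _
    rw [gen_tm (isInvertible_tensorPow hL _) hL, gen_spow hL g (n + 1) n.succ_pos, inf_idem]

/-- Modules with matched generators are isomorphic. -/
theorem exists_iso_of_gen {P Q : X.Modules} {J : Type*} (V : J → X.Opens) (hV : ∀ x, ∃ j, x ∈ V j)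
    (e : ∀ j, Γ(P, V j)) (he : ∀ j, IsGen P (e j)) (e' : ∀ j, Γ(Q, V j)) (he' : ∀ j, IsGen Q (e' j))
    (hes : ∀ i j (u : Γ(X, V i ⊓ V j)),
      P.presheaf.map (homOfLE inf_le_left).op (e i) = u • P.presheaf.map (homOfLE inf_le_right).op (e j) →
      Q.presheaf.map (homOfLE inf_le_left).op (e' i) = u • Q.presheaf.map (homOfLE inf_le_right).op (e' j)) :
    ∃ φ : P ≅ Q, ∀ j, φ.hom.app (V j) (e j) = e' j := by
  obtain ⟨φ, hφ⟩ := exists_hom_of_gen V hV e he e' hes
  haveI : IsIso φ := isIso_of_gen φ fun x => by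
    obtain ⟨j, hj⟩ := hV x
    exact ⟨_, e j, hj, he j, by rw [hφ]; exact he' j⟩
  exact ⟨asIso φ, hφ⟩

theorem transition {P : X.Modules} {Vi Vj : X.Opens} {ei : Γ(P, Vi)} {ej : Γ(P, Vj)} (hj : IsGen P ej) :
    ∃ a : Γ(X, Vi ⊓ Vj),
      P.presheaf.map (homOfLE inf_le_left).op ei = a • P.presheaf.map (homOfLE inf_le_right).op ej := by
  obtain ⟨a, ha⟩ := (hj.bijective (inf_le_right : Vi ⊓ Vj ≤ Vj)).2 (P.presheaf.map (homOfLE inf_le_left).op ei)
  exact ⟨a, ha.symm⟩

/-- `L^m ⊗ L^n ≅ L^(m+n)`, taking `e^m ⊗ e^n` to `e^(m+n)`. -/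
theorem exists_iso_add (hL : PicF.IsInvertible L) (m n : ℕ) :
    ∃ φ : CohB1.tensorMod (CohB1.tensorPow L m) (CohB1.tensorPow L n) ≅ CohB1.tensorPow L (m + n),
      ∀ (W : X.Opens) (e : Γ(L, W)), φ.hom.app W (tm (spow e m) (spow e n)) = spow e (m + n) := by
  let J := {p : Σ V : X.Opens, Γ(L, V) // IsGen L p.2}
  obtain ⟨φ, hφ⟩ := exists_iso_of_gen (fun j : J => j.1.1)
    (fun x => by obtain ⟨V, e, hx, he⟩ := exists_gen hL x; exact ⟨⟨⟨V, e⟩, he⟩, hx⟩)
    (fun j => tm (spow j.1.2 m) (spow j.1.2 n)) (fun j => isGen_tm (isGen_spow j.2 m) (isGen_spow j.2 n))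
    (fun j => spow j.1.2 (m + n)) (fun j => isGen_spow j.2 (m + n)) fun i j u hu => by
      obtain ⟨a, ha⟩ := transition (ei := i.1.2) j.2
      rw [tm_res, tm_res, spow_res, spow_res, spow_res, spow_res, ha, spow_smul, spow_smul, tm_smul_left,
        tm_smul_right, smul_smul, ← pow_add] at hu
      have := ((isGen_tm (isGen_spow (j.2.res inf_le_right) m) (isGen_spow (j.2.res inf_le_right) n)).bijective
        le_rfl).1 (a₁ := a ^ (m + n)) (a₂ := u) (by beta_reduce; rw [H10Coh.mres_self]; exact hu)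
      rw [spow_res, spow_res, ha, spow_smul, this]
  refine ⟨φ, fun W e => eq_of_locally _ _ fun x hx => ?_⟩
  obtain ⟨V, f, hxV, hf⟩ := exists_gen hL x
  obtain ⟨c, hc⟩ := exists_coeff (hf.res (inf_le_right : W ⊓ V ≤ V)) (L.presheaf.map (homOfLE inf_le_left).op e)
  refine ⟨W ⊓ V, inf_le_left, ⟨hx, hxV⟩, ?_⟩
  rw [← app_map_apply, tm_res, spow_res, spow_res, spow_res, hc, spow_smul, spow_smul, spow_smul, tm_smul_left,
    tm_smul_right, smul_smul, ← pow_add, Scheme.Modules.Hom.app_smul, ← spow_res, ← spow_res, ← spow_res, ← tm_res,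
    app_map_apply]
  exact congrArg (fun z => c ^ (m + n) • (CohB1.tensorPow L (m + n)).presheaf.map _ z) (hφ ⟨⟨V, f⟩, hf⟩)

/-- `(L^m)^n ≅ L^(m*n)`, taking `(e^m)^n` to `e^(m*n)`. -/
theorem exists_iso_mul (hL : PicF.IsInvertible L) (m n : ℕ) :
    ∃ φ : CohB1.tensorPow (CohB1.tensorPow L m) n ≅ CohB1.tensorPow L (m * n),
      ∀ (W : X.Opens) (e : Γ(L, W)), φ.hom.app W (spow (spow e m) n) = spow e (m * n) := by
  let J := {p : Σ V : X.Opens, Γ(L, V) // IsGen L p.2}
  obtain ⟨φ, hφ⟩ := exists_iso_of_gen (fun j : J => j.1.1)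
    (fun x => by obtain ⟨V, e, hx, he⟩ := exists_gen hL x; exact ⟨⟨⟨V, e⟩, he⟩, hx⟩)
    (fun j => spow (spow j.1.2 m) n) (fun j => isGen_spow (isGen_spow j.2 m) n)
    (fun j => spow j.1.2 (m * n)) (fun j => isGen_spow j.2 (m * n)) fun i j u hu => by
      obtain ⟨a, ha⟩ := transition (ei := i.1.2) j.2
      rw [spow_res, spow_res, spow_res, spow_res, ha, spow_smul, spow_smul, ← pow_mul] at hu
      have := ((isGen_spow (isGen_spow (j.2.res inf_le_right) m) n).bijective le_rfl).1
        (a₁ := a ^ (m * n)) (a₂ := u) (by beta_reduce; rw [H10Coh.mres_self]; exact hu)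
      rw [spow_res, spow_res, ha, spow_smul, this]
  refine ⟨φ, fun W e => eq_of_locally _ _ fun x hx => ?_⟩
  obtain ⟨V, f, hxV, hf⟩ := exists_gen hL x
  obtain ⟨c, hc⟩ := exists_coeff (hf.res (inf_le_right : W ⊓ V ≤ V)) (L.presheaf.map (homOfLE inf_le_left).op e)
  refine ⟨W ⊓ V, inf_le_left, ⟨hx, hxV⟩, ?_⟩
  rw [← app_map_apply, spow_res, spow_res, spow_res, hc, spow_smul, spow_smul, spow_smul, ← pow_mul,
    Scheme.Modules.Hom.app_smul, ← spow_res, ← spow_res, ← spow_res, app_map_apply]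
  exact congrArg (fun z => c ^ (m * n) • (CohB1.tensorPow L (m * n)).presheaf.map _ z) (hφ ⟨⟨V, f⟩, hf⟩)

end Groth.Agent.H11Ample
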