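import Groth.Agent.H11Ample.Tensor
import Groth.Agent.H11Ample.RelComp
import Groth.Agent.H15Site.ModAssoc

/-!
# Unit and symmetry isomorphisms for the tensor product (light imports)
-/

set_option autoImplicit false

noncomputable section

universe u

open CategoryTheory CategoryTheory.Limits AlgebraicGeometry Opposite TopologicalSpace MonoidalCategory

namespace Groth.Agent.H11Ample

variable {X : Scheme.{u}}

/-- Symmetry. -/
def tensorCommIso (A B : X.Modules) : CohB1.tensorMod A B ≅ CohB1.tensorMod B A :=
  (CohB1.sheafifyMod X).mapIso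
    (show (CohB1.tensorPre A B : X.PresheafOfModules) ≅ (CohB1.tensorPre B A : X.PresheafOfModules) from
      (β_ (CohB1.toPMod A) (CohB1.toPMod B)))

/-- The left unit. -/
def tensorLeftUnitIso (M : X.Modules) : CohB1.tensorMod (Coh.structureModule X) M ≅ M :=
  (CohB1.sheafifyMod X).mapIso
    (show (CohB1.tensorPre (Coh.structureModule X) M : X.PresheafOfModules) ≅
        (CohB1.toPMod M : X.PresheafOfModules) from (λ_ (CohB1.toPMod M))) ≪≫
    (asIso (PresheafOfModules.sheafificationAdjunction (𝟙 X.ringCatSheaf.obj)).counit).app M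

/-- Associativity of the tensor product. -/
def tensorAssocIso (M A B : X.Modules) :
    CohB1.tensorMod (CohB1.tensorMod M A) B ≅ CohB1.tensorMod M (CohB1.tensorMod A B) :=
  H15Site.ModTensor.assocApp (O := X.sheaf) M A B

/-- Powers of a trivial invertible module are trivial. -/
theorem nonempty_tensorPow_unit_iso {M : X.Modules} (e : M ≅ Coh.structureModule X) :
    ∀ k : ℕ, Nonempty (CohB1.tensorPow M k ≅ Coh.structureModule X)
  | 0 => ⟨Iso.refl _⟩
  | k + 1 => by
    obtain ⟨φ⟩ := nonempty_tensorPow_unit_iso e k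
    exact ⟨PicGrp.tensorModIso φ e ≪≫ tensorLeftUnitIso _⟩

/-- Powers of inverse invertible modules are inverse. -/
theorem nonempty_tensorPow_inverse {L L' : X.Modules} (e : CohB1.tensorMod L L' ≅ Coh.structureModule X)
    (hL : PicF.IsInvertible L) (hL' : PicF.IsInvertible L') (k : ℕ) :
    Nonempty (CohB1.tensorMod (CohB1.tensorPow L k) (CohB1.tensorPow L' k) ≅ Coh.structureModule X) := by
  obtain ⟨φ⟩ := exists_iso_tensorPow_tensor hL hL' k
  obtain ⟨ψ⟩ := nonempty_tensorPow_unit_iso e k
  exact ⟨φ ≪≫ ψ⟩

end Groth.Agent.H11Ample
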