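import Groth.Agent.H11Ample.RelAmple
import Groth.Agent.H11Ample.QuasiAffine

/-!
# Quasi-affine schemes and morphisms via the structure sheaf
-/

set_option autoImplicit false
set_option linter.style.haveILetI false

noncomputable section

universe u

open CategoryTheory CategoryTheory.Limits AlgebraicGeometry Opposite TopologicalSpace
open Groth.Agent.H11Tilde

namespace Groth.Agent.H11Ample

variable {X Y : Scheme.{u}}

theorem isInvertible_structureModule : PicF.IsInvertible (Coh.structureModule X) :=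
  isInvertible_of_gen fun _ => ⟨⊤, one ⊤, trivial, isGen_one ⊤⟩

theorem nonempty_pullback_structureModule_iso (g : X ⟶ Y) :
    Nonempty ((Scheme.Modules.pullback g).obj (Coh.structureModule Y) ≅ Coh.structureModule X) := by
  let e : Γ((Scheme.Modules.pullback g).obj (Coh.structureModule Y), (⊤ : X.Opens)) :=
    pullTop (L := Coh.structureModule Y) g (one ⊤)
  have he : IsGen _ e := IsGen.pullSect g (isGen_one (⊤ : Y.Opens))
  obtain ⟨φ, -⟩ := exists_iso_of_gen (fun _ : PUnit.{1} => (⊤ : X.Opens)) (fun _ => ⟨⟨⟩, trivial⟩)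
    (fun _ => e) (fun _ => he) (fun _ => one ⊤) (fun _ => isGen_one ⊤) fun _ _ w hw => by
      have := ((he.res (inf_le_right : (⊤ : X.Opens) ⊓ ⊤ ≤ ⊤)).bijective le_rfl).1
        (a₁ := (1 : Γ(X, ⊤ ⊓ ⊤))) (a₂ := w) (by beta_reduce; rw [H10Coh.mres_self, one_smul]; exact hw)
      rw [← this, one_smul]
  exact ⟨φ⟩

theorem isQuasiAffine_iff_isAmple [CompactSpace X] :
    X.IsQuasiAffine ↔ CohB1.IsAmple (Coh.structureModule X) := by
  refine ⟨fun _ => isAmple_of_isQuasiAffine isInvertible_structureModule, fun h => ?_⟩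
  obtain ⟨φ, -⟩ := exists_iso_unit (L := Coh.structureModule X) isInvertible_structureModule 0
  exact isQuasiAffine_of_isAmple_inverse ⟨φ⟩ h h

theorem isQuasiAffine_opens_iff_ampleOn (U : X.Opens) :
    U.toScheme.IsQuasiAffine ↔ AmpleOn (Coh.structureModule X) U := by
  obtain ⟨φ⟩ := nonempty_pullback_structureModule_iso U.ι
  constructor
  · intro h
    exact isAmple_of_iso φ.symm (isQuasiAffine_iff_isAmple.1 h)
  · intro h
    haveI := compactSpace_of_isAmple h
    exact isQuasiAffine_iff_isAmple.2 (isAmple_of_iso φ h)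

theorem isQuasiAffineHom_iff {f : X ⟶ Y} [QuasiCompact f] :
    Mor2.IsQuasiAffine f ↔ RelAmple.IsRelAmple f (Coh.structureModule X) := by
  rw [isRelAmple_iff]
  exact and_congr Iff.rfl (forall₂_congr fun V _ => isQuasiAffine_opens_iff_ampleOn _)

end Groth.Agent.H11Ample
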