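import Groth.Agent.H11Ample.Global
import Groth.Agent.H11Tilde.Tensor
import Groth.Prelude.Def_KoszTw

/-!
# Tensor products and restriction to opens
-/

set_option autoImplicit false
set_option linter.style.haveILetI false

noncomputable section

universe u

open CategoryTheory CategoryTheory.Limits AlgebraicGeometry Opposite TopologicalSpace
open Groth.Agent.H11Tilde
open scoped TensorProduct

namespace Groth.Agent.H11Ample

variable {X : Scheme.{u}} {M N P : X.Modules}

theorem tensorDesc_tm (β : Pairing M N P) {U : X.Opens} (m : Γ(M, U)) (n : Γ(N, U)) :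
    (tensorDesc β).app U (tm m n) = β.toFun U m n := by
  have h := (PresheafOfModules.sheafificationHomEquiv (R := X.ringCatSheaf) (𝟙 X.ringCatSheaf.obj)).apply_symm_apply
    (tensorPreHom' β)
  exact congr($(congrArg (fun φ => (PresheafOfModules.Hom.app φ (op U)).hom) h) (m ⊗ₜ n))

variable (U : X.Opens)

/-- A section of a restricted module as a section on the image. -/
abbrev toImg (F : X.Modules) {W : U.toScheme.Opens} (t : Γ(F.restrict U.ι, W)) : Γ(F, U.ι ''ᵁ W) := t

/-- A section on the image as a section of the restricted module. -/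
abbrev ofImg (F : X.Modules) {W : U.toScheme.Opens} (t : Γ(F, U.ι ''ᵁ W)) : Γ(F.restrict U.ι, W) := t

theorem toImg_smul (F : X.Modules) {W : U.toScheme.Opens} (r : Γ(U.toScheme, W)) (t : Γ(F.restrict U.ι, W)) :
    toImg U F (r • t) = (U.ι.appIso W).inv r • toImg U F t := rfl

theorem toImg_res (F : X.Modules) {W W' : U.toScheme.Opens} (h : W' ≤ W) (t : Γ(F.restrict U.ι, W)) :
    toImg U F ((F.restrict U.ι).presheaf.map (homOfLE h).op t) =
      F.presheaf.map (homOfLE (Scheme.Hom.image_mono U.ι h)).op (toImg U F t) := rfl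

/-- `(M|U) ⊗ (N|U) ⟶ (M ⊗ N)|U` on sections. -/
def restrictPairing (M N : X.Modules) :
    Pairing (M.restrict U.ι) (N.restrict U.ι) ((CohB1.tensorMod M N).restrict U.ι) where
  toFun W m n := ofImg U _ (tm (toImg U M m) (toImg U N n))
  add_left W m m' n := tm_add_left (toImg U M m) (toImg U M m') (toImg U N n)
  smul_left W r m n := tm_smul_left ((U.ι.appIso W).inv r) (toImg U M m) (toImg U N n)
  add_right W m n n' := tm_add_right (toImg U M m) (toImg U N n) (toImg U N n')
  smul_right W r m n := tm_smul_right ((U.ι.appIso W).inv r) (toImg U M m) (toImg U N n)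
  res W W' h m n := tm_res (Scheme.Hom.image_mono U.ι h) (toImg U M m) (toImg U N n)

theorem exists_hom_tensorPow_restrict (L : X.Modules) (n : ℕ) :
    ∃ ρ : CohB1.tensorPow (L.restrict U.ι) n ⟶ (CohB1.tensorPow L n).restrict U.ι,
      ∀ (W : U.toScheme.Opens) (e : Γ(L.restrict U.ι, W)),
        toImg U _ (ρ.app W (spow e n)) = spow (toImg U L e) n := by
  induction n with
  | zero =>
    refine ⟨(Scheme.Modules.restrictUnitIso U.ι).inv, fun W e => ?_⟩
    change (U.ι.appIso W).inv (1 : Γ(U.toScheme, W)) = (1 : Γ(X, U.ι ''ᵁ W))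
    exact map_one _
  | succ k ih =>
    obtain ⟨ρ, hρ⟩ := ih
    refine ⟨KoszTw.tensorMap ρ (𝟙 (L.restrict U.ι)) ≫ tensorDesc (restrictPairing U _ L), fun W e => ?_⟩
    have h1 : (KoszTw.tensorMap ρ (𝟙 (L.restrict U.ι))).app W (tm (spow e k) e) = tm (ρ.app W (spow e k)) e :=
      KoszTw.tensorMap_tmul ρ (𝟙 _) W (spow e k) e
    change toImg U (CohB1.tensorMod (CohB1.tensorPow L k) L) ((tensorDesc (restrictPairing U _ L)).app W
      ((KoszTw.tensorMap ρ (𝟙 (L.restrict U.ι))).app W (tm (spow e k) e))) = tm (spow (toImg U L e) k) (toImg U L e)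
    rw [h1, tensorDesc_tm]
    exact congrArg (fun z => tm z (toImg U L e)) (hρ W e)

theorem exists_hom_twist_restrict (F L : X.Modules) (n : ℕ) :
    ∃ Φ : CohB1.tensorMod (F.restrict U.ι) (CohB1.tensorPow (L.restrict U.ι) n) ⟶
        (CohB1.tensorMod F (CohB1.tensorPow L n)).restrict U.ι,
      ∀ (W : U.toScheme.Opens) (e : Γ(L.restrict U.ι, W)) (a : Γ(F.restrict U.ι, W)),
        toImg U _ (Φ.app W (tm a (spow e n))) = tm (toImg U F a) (spow (toImg U L e) n) := by
  obtain ⟨ρ, hρ⟩ := exists_hom_tensorPow_restrict U L n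
  refine ⟨KoszTw.tensorMap (𝟙 (F.restrict U.ι)) ρ ≫ tensorDesc (restrictPairing U F (CohB1.tensorPow L n)),
    fun W e a => ?_⟩
  have h1 : (KoszTw.tensorMap (𝟙 (F.restrict U.ι)) ρ).app W (tm a (spow e n)) = tm a (ρ.app W (spow e n)) :=
    KoszTw.tensorMap_tmul (𝟙 _) ρ W a (spow e n)
  change toImg U (CohB1.tensorMod F (CohB1.tensorPow L n))
    ((tensorDesc (restrictPairing U F (CohB1.tensorPow L n))).app W
      ((KoszTw.tensorMap (𝟙 (F.restrict U.ι)) ρ).app W (tm a (spow e n)))) = _
  rw [h1, tensorDesc_tm]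
  exact congrArg (fun z => tm (toImg U F a) z) (hρ W e)

theorem isGen_restrict {L : X.Modules} {B : X.Opens} {e : Γ(L, B)} (he : IsGen L e) {W : U.toScheme.Opens}
    (hW : U.ι ''ᵁ W ≤ B) : IsGen (L.restrict U.ι) (ofImg U L (W := W) (L.presheaf.map (homOfLE hW).op e)) := by
  refine isGen_of_bijective fun W' hW' => ?_
  refine Eq.mpr (congrArg Function.Bijective (funext fun r => ?_))
    ((he.bijective ((Scheme.Hom.image_mono U.ι hW').trans hW)).comp
      (ConcreteCategory.bijective_of_isIso (U.ι.appIso W').inv))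
  change (U.ι.appIso W').inv r • L.presheaf.map (homOfLE (Scheme.Hom.image_mono U.ι hW')).op
      (L.presheaf.map (homOfLE hW).op e) =
    (U.ι.appIso W').inv r • L.presheaf.map (homOfLE ((Scheme.Hom.image_mono U.ι hW').trans hW)).op e
  rw [H10Coh.mres_mres]

end Groth.Agent.H11Ample
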