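import Groth.Agent.H11Ample.Pullback
import Groth.Agent.H11Tilde.PnPoints
import Groth.Prelude.Def_Twist2

/-!
# Morphisms to projective space given by sections of an invertible module
-/

set_option autoImplicit false
set_option linter.style.haveILetI false

noncomputable section

universe u

open CategoryTheory CategoryTheory.Limits AlgebraicGeometry Opposite TopologicalSpace CohB1
open Groth.Agent.H11Tilde

namespace Groth.Agent.H11Ample

variable {n : ℕ} {R : Type u} [CommRing R]

theorem exists_mem_basicOpen_X (y : ProjSpace n R) :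
    ∃ i, y ∈ Proj.basicOpen (polyGrading n R) (MvPolynomial.X i) :=
  Opens.mem_iSup.1 ((Groth.Agent.H11Proj.ProjSpace.iSup_basicOpen (n := n) (R := R)).ge
    (trivial : y ∈ (⊤ : (Proj (polyGrading n R)).Opens)))

theorem X_mem (i : Fin (n + 1)) : MvPolynomial.X i ∈ polyGrading n R 1 := MvPolynomial.isHomogeneous_X R i

theorem isGen_coord (i : Fin (n + 1)) :
    IsGen (Twist.twistProjSpace n R 1) ((Twist.twistProjSpace n R 1).presheaf.map
      (homOfLE (le_top : Proj.basicOpen (polyGrading n R) (MvPolynomial.X i) ≤ ⊤)).op (ProjUP.coord n R i)) :=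
  isGen_globalSec (polyGrading n R) (X_mem i)

theorem isInvertible_twist : PicF.IsInvertible (Twist.twistProjSpace n R 1) :=
  isInvertible_of_gen fun y => by
    obtain ⟨i, hi⟩ := exists_mem_basicOpen_X (n := n) (R := R) y
    exact ⟨_, _, hi, isGen_coord i⟩

theorem gen_coord (i : Fin (n + 1)) :
    gen (Twist.twistProjSpace n R 1) (ProjUP.coord n R i) = Proj.basicOpen (polyGrading n R) (MvPolynomial.X i) :=
  genLocus_globalSec (polyGrading n R) (X_mem i) fun y => by
    obtain ⟨j, hj⟩ := exists_mem_basicOpen_X (n := n) (R := R) y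
    exact ⟨_, X_mem j, hj⟩

theorem isAffineOpen_gen_coord (i : Fin (n + 1)) :
    IsAffineOpen (gen (Twist.twistProjSpace n R 1) (ProjUP.coord n R i)) := by
  rw [gen_coord]
  exact Proj.isAffineOpen_basicOpen (polyGrading n R) _ (X_mem i) one_pos

theorem pullTop_res {X Y : Scheme.{u}} {M : Y.Modules} (f : X ⟶ Y) (g : Γ(M, ⊤)) (V : Y.Opens) :
    ((Scheme.Modules.pullback f).obj M).presheaf.map (homOfLE (le_top : f ⁻¹ᵁ V ≤ ⊤)).op (pullTop f g) =
      OmegaSh.pullSect f M V (M.presheaf.map (homOfLE (le_top : V ≤ ⊤)).op g) :=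
  (pullSect_res f M (le_top : V ≤ ⊤) g).symm

variable {X : Scheme.{u}} {L : X.Modules}

/-- A morphism to projective space with `T_i` going to given sections, with the loci of generation and ratios. -/
theorem exists_toPn (q : X ⟶ Spec (CommRingCat.of R)) (hL : PicF.IsInvertible L) (v : Fin (n + 1) → Γ(L, ⊤))
    (hv : ∀ x, ∃ i, x ∈ gen L (v i)) :
    ∃ (r : X ⟶ ProjSpace n R) (_ : r ≫ ProjSpace.toSpec n R = q)
      (_ : Nonempty ((Scheme.Modules.pullback r).obj (Twist.twistProjSpace n R 1) ≅ L)),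
      (∀ i, r ⁻¹ᵁ Proj.basicOpen (polyGrading n R) (MvPolynomial.X i) = gen L (v i)) ∧
      ∀ i l, ∃ ρ : Γ(ProjSpace n R, Proj.basicOpen (polyGrading n R) (MvPolynomial.X i)),
        L.presheaf.map (homOfLE (le_top : r ⁻¹ᵁ Proj.basicOpen (polyGrading n R) (MvPolynomial.X i) ≤ ⊤)).op (v l) =
          r.app _ ρ • L.presheaf.map
            (homOfLE (le_top : r ⁻¹ᵁ Proj.basicOpen (polyGrading n R) (MvPolynomial.X i) ≤ ⊤)).op (v i) := by
  classical
  let b := Pi.basisFun R (Fin (n + 1))
  let ι : (Fin (n + 1) → R) →ₗ[R] MvPolynomial (Fin (n + 1)) R := b.constr R MvPolynomial.X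
  have hιX : ∀ i, ι (b i) = MvPolynomial.X i := fun i => b.constr_basis R _ i
  have hι : ∀ m, ι m ∈ polyGrading n R 1 := fun m => by
    rw [← b.sum_repr m, map_sum]
    refine Submodule.sum_mem _ fun i _ => ?_
    rw [map_smul, hιX]
    exact Submodule.smul_mem _ _ (X_mem i)
  have hsym := SymmetricAlgebra.IsSymmetricAlgebra.mvPolynomial (R := R) (Fin (n + 1)) b
  let w : (Fin (n + 1) → R) →+ Γ(L, ⊤) :=
    { toFun := fun m => ∑ i, ProjUP.toGlobal q (m i) • v i
      map_zero' := by simp
      map_add' := fun a c => by simp [add_smul, Finset.sum_add_distrib] }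
  have hwb : ∀ i, w (b i) = v i := fun i => by
    change ∑ j, ProjUP.toGlobal q ((b i) j) • v j = v i
    simp [b, Pi.single_apply, apply_ite, ite_smul]
  have hwgen : ProjUP.GeneratedBy L w := fun x => by
    obtain ⟨i, hi⟩ := hv x
    refine eq_top_iff.2 fun m _ => ?_
    obtain ⟨c, hc⟩ := ((mem_gen_iff hL (v i) x).1 hi).2 m
    rw [← hc]
    exact Submodule.smul_mem _ c (Submodule.subset_span ⟨b i, congrArg (L.presheaf.germ ⊤ x trivial).hom (hwb i)⟩)
  obtain ⟨r, hr, τ₀, hτ⟩ := exists_toProj (polyGrading n R) hι hsym q L hL w (fun a m => by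
    change ∑ i, ProjUP.toGlobal q ((a • m) i) • v i = ProjUP.toGlobal q a • ∑ i, ProjUP.toGlobal q (m i) • v i
    rw [Finset.smul_sum]
    exact Finset.sum_congr rfl fun i _ => by rw [Pi.smul_apply, smul_eq_mul, map_mul, mul_smul]) hwgen
  let τ : (Scheme.Modules.pullback r).obj (Twist.twistProjSpace n R 1) ≅ L := τ₀
  have hτ' : ∀ i, τ.hom.app ⊤ (pullTop r (L := Twist.twistProjSpace n R 1) (ProjUP.coord n R i)) = v i := fun i => by
    rw [← hwb i, ← hτ (b i), PnPoints.globalSec_congr (polyGrading n R) (hι (b i)) (X_mem i) (hιX i)]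
    rfl
  refine ⟨r, hr, ⟨τ⟩, fun i => ?_, fun i l => ?_⟩
  · rw [← gen_coord, ← hτ' i, gen_iso]
    have := gen_smul_pullSect r (isInvertible_twist (n := n) (R := R)) (ProjUP.coord n R i)
      (isUnit_one (M := Γ(X, ⊤)))
    rw [one_smul] at this
    exact this.symm
  · let D := Proj.basicOpen (polyGrading n R) (MvPolynomial.X i : MvPolynomial (Fin (n + 1)) R)
    refine ⟨ratio (polyGrading n R) (X_mem i) (X_mem l), ?_⟩
    rw [← hτ' i, ← hτ' l, ← app_map_apply, ← app_map_apply]
    have e : ∀ k, ((Scheme.Modules.pullback r).obj (Twist.twistProjSpace n R 1)).presheaf.map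
        (homOfLE (le_top : r ⁻¹ᵁ D ≤ ⊤)).op (pullTop r (L := Twist.twistProjSpace n R 1) (ProjUP.coord n R k)) =
          OmegaSh.pullSect r (Twist.twistProjSpace n R 1) D
            ((Twist.twistProjSpace n R 1).presheaf.map (homOfLE (le_top : D ≤ ⊤)).op (ProjUP.coord n R k)) :=
      fun k => (pullSect_res r (Twist.twistProjSpace n R 1) (le_top : D ≤ ⊤) (ProjUP.coord n R k)).symm
    refine Eq.trans (congrArg (τ.hom.app _) ((e l).trans ?_)) (Scheme.Modules.Hom.app_smul _ _ _)
    refine Eq.trans ?_ (congrArg _ (e i).symm)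
    refine Eq.trans (congrArg (OmegaSh.pullSect r (Twist.twistProjSpace n R 1) D)
      (globalSec_eq_ratio_smul (polyGrading n R) (X_mem i) (X_mem l))) ?_
    exact OmegaSh.pullSect_smul r (Twist.twistProjSpace n R 1) D _ _

end Groth.Agent.H11Ample
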