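import Groth.Agent.H11Ample.AmpleOn
import Groth.Prelude.Def_LCI2

/-!
# Relative ampleness
-/

set_option autoImplicit false
set_option linter.style.haveILetI false

noncomputable section

universe u

open CategoryTheory CategoryTheory.Limits AlgebraicGeometry Opposite TopologicalSpace
open Groth.Agent.H11Tilde

namespace Groth.Agent.H11Ample

variable {X Y Z : Scheme.{u}} {f : X ⟶ Y} {L M : X.Modules}

theorem isRelAmple_iff :
    RelAmple.IsRelAmple f L ↔ QuasiCompact f ∧ ∀ V : Y.Opens, IsAffineOpen V → AmpleOn L (f ⁻¹ᵁ V) :=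
  ⟨fun h => ⟨h.1, fun V hV => (isAmple_restrict_iff L _).1 (h.2 ⟨V, hV⟩)⟩,
    fun h => ⟨h.1, fun V => (isAmple_restrict_iff L _).2 (h.2 V.1 V.2)⟩⟩

theorem exists_isAffineOpen_mem {X : Scheme.{u}} (x : X) : ∃ V : X.Opens, IsAffineOpen V ∧ x ∈ V := by
  obtain ⟨V, hV, hx, -⟩ := exists_isAffineOpen_mem_and_subset (x := x) (U := (⊤ : X.Opens)) trivial
  exact ⟨V, hV, hx⟩

theorem isInvertible_of_isRelAmple (h : RelAmple.IsRelAmple f L) : PicF.IsInvertible L :=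
  isInvertible_of_pullback_cover fun x => by
    obtain ⟨V, hV, hxV⟩ := exists_isAffineOpen_mem (f x)
    exact ⟨f ⁻¹ᵁ V, hxV, isInvertible_of_isAmple ((isRelAmple_iff.1 h).2 V hV)⟩

/-- Relative ampleness can be tested on one affine cover. -/
theorem isRelAmple_of_cover [QuasiCompact f]
    (h : ∀ y : Y, ∃ V : Y.Opens, IsAffineOpen V ∧ y ∈ V ∧ AmpleOn L (f ⁻¹ᵁ V)) : RelAmple.IsRelAmple f L := by
  refine isRelAmple_iff.2 ⟨inferInstance, fun W hW => ?_⟩
  let U : X.Opens := f ⁻¹ᵁ W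
  haveI : CompactSpace U.toScheme :=
    isCompact_iff_compactSpace.1 (f.isCompact_preimage (U := W) hW.isCompact)
  refine isAmple_of_basicOpen_cover fun z => ?_
  obtain ⟨V, hV, hzV, hA⟩ := h (f (U.ι z))
  obtain ⟨a, b, hab, hza⟩ := exists_basicOpen_le_affine_inter hW hV (f (U.ι z)) ⟨z.2, hzV⟩
  let D := Y.basicOpen a
  have hDV : D ≤ V := by change Y.basicOpen a ≤ V; rw [hab]; exact Y.basicOpen_le b
  have hUpre : (⊤ : U.toScheme.Opens) ≤ U.ι ⁻¹ᵁ U := fun y _ => y.2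
  refine ⟨U.toScheme.presheaf.map (homOfLE hUpre).op (U.ι.app U (f.app W a)), ?_⟩
  have e : U.toScheme.basicOpen (U.toScheme.presheaf.map (homOfLE hUpre).op (U.ι.app U (f.app W a))) =
      U.ι ⁻¹ᵁ (f ⁻¹ᵁ D) := by
    rw [Scheme.basicOpen_res, ← Scheme.preimage_basicOpen, ← Scheme.preimage_basicOpen, top_inf_eq]
  rw [e]
  refine ⟨hza, (ampleOn_preimage_iff U.ι _).2 ?_⟩
  rw [Scheme.Hom.image_preimage_eq_opensRange_inf, Scheme.Opens.opensRange_ι,
    inf_eq_right.2 (f.preimage_mono (Y.basicOpen_le a))]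
  exact hA.mono (f.preimage_mono hDV) (f.isCompact_preimage (U := D) (hW.basicOpen a).isCompact)

theorem isRelAmple_iff_isAmple_of_isAffine [IsAffine Y] [QuasiCompact f] :
    RelAmple.IsRelAmple f L ↔ CohB1.IsAmple L :=
  ⟨fun h => (ampleOn_top_iff L).1 ((isRelAmple_iff.1 h).2 ⊤ (isAffineOpen_top Y)),
    fun h => isRelAmple_of_cover fun _ => ⟨⊤, isAffineOpen_top Y, trivial, (ampleOn_top_iff L).2 h⟩⟩

theorem isRelAmple_iff_of_openCover [QuasiCompact f] {ι : Type*} (U : ι → Y.Opens) (hU : ⨆ i, U i = ⊤) :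
    RelAmple.IsRelAmple f L ↔ ∀ i, RelAmple.IsRelAmple (f ∣_ U i) (L.restrict (f ⁻¹ᵁ U i).ι) := by
  have key : ∀ i (V' : (U i).toScheme.Opens),
      AmpleOn (L.restrict (f ⁻¹ᵁ U i).ι) ((f ∣_ U i) ⁻¹ᵁ V') ↔ AmpleOn L (f ⁻¹ᵁ ((U i).ι ''ᵁ V')) := fun i V' => by
    rw [← image_morphismRestrict_preimage, ← ampleOn_preimage_iff (f ⁻¹ᵁ U i).ι]
    exact ⟨isAmple_of_iso ((Scheme.Modules.pullback _).mapIso
        ((Scheme.Modules.restrictFunctorIsoPullback (f ⁻¹ᵁ U i).ι).app L)),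
      isAmple_of_iso ((Scheme.Modules.pullback _).mapIso
        ((Scheme.Modules.restrictFunctorIsoPullback (f ⁻¹ᵁ U i).ι).app L)).symm⟩
  refine ⟨fun h i => isRelAmple_iff.2 ⟨IsZariskiLocalAtTarget.restrict (P := @QuasiCompact) inferInstance (U i),
    fun V' hV' => (key i V').2 ((isRelAmple_iff.1 h).2 _ (hV'.image_of_isOpenImmersion _))⟩, fun h => ?_⟩
  refine isRelAmple_of_cover fun y => ?_
  obtain ⟨i, hi⟩ := Opens.mem_iSup.1 (hU.ge (Opens.mem_top y))
  obtain ⟨V', hV', hy'⟩ := exists_isAffineOpen_mem (X := (U i).toScheme) ⟨y, hi⟩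
  exact ⟨(U i).ι ''ᵁ V', hV'.image_of_isOpenImmersion _, ⟨_, hy', rfl⟩,
    (key i V').1 ((isRelAmple_iff.1 (h i)).2 V' hV')⟩

theorem isRelAmple_of_comp {g : Y ⟶ Z} [QuasiCompact f] (h : RelAmple.IsRelAmple (f ≫ g) L) :
    RelAmple.IsRelAmple f L := by
  refine isRelAmple_of_cover fun y => ?_
  obtain ⟨W, hW, hyW⟩ := exists_isAffineOpen_mem (g y)
  obtain ⟨V, hV, hyV, hVW⟩ := exists_isAffineOpen_mem_and_subset (U := g ⁻¹ᵁ W) hyW
  refine ⟨V, hV, hyV, ((isRelAmple_iff.1 h).2 W hW).mono ?_ (f.isCompact_preimage (U := V) hV.isCompact)⟩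
  rw [Scheme.Hom.comp_preimage]
  exact f.preimage_mono hVW

/-! ### Tensor products and powers -/

theorem exists_iso_pullback_tensor (g : X ⟶ Y) {P Q : Y.Modules} (hP : PicF.IsInvertible P)
    (hQ : PicF.IsInvertible Q) :
    Nonempty ((Scheme.Modules.pullback g).obj (CohB1.tensorMod P Q) ≅
      CohB1.tensorMod ((Scheme.Modules.pullback g).obj P) ((Scheme.Modules.pullback g).obj Q)) := by
  let J := {p : Σ V : Y.Opens, Γ(P, V) × Γ(Q, V) // IsGen P p.2.1 ∧ IsGen Q p.2.2}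
  obtain ⟨φ, -⟩ := exists_iso_of_gen (P := (Scheme.Modules.pullback g).obj (CohB1.tensorMod P Q))
    (Q := CohB1.tensorMod ((Scheme.Modules.pullback g).obj P) ((Scheme.Modules.pullback g).obj Q))
    (fun j : J => g ⁻¹ᵁ j.1.1)
    (fun x => by
      obtain ⟨V, e, hx, he⟩ := exists_gen hP (g x)
      obtain ⟨W, e', hx', he'⟩ := exists_gen hQ (g x)
      exact ⟨⟨⟨V ⊓ W, _, _⟩, he.res inf_le_left, he'.res inf_le_right⟩, hx, hx'⟩)
    (fun j => OmegaSh.pullSect g (CohB1.tensorMod P Q) j.1.1 (tm j.1.2.1 j.1.2.2))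
    (fun j => IsGen.pullSect g (isGen_tm j.2.1 j.2.2))
    (fun j => tm (OmegaSh.pullSect g P j.1.1 j.1.2.1) (OmegaSh.pullSect g Q j.1.1 j.1.2.2))
    (fun j => isGen_tm (IsGen.pullSect g j.2.1) (IsGen.pullSect g j.2.2)) fun i j w hw => by
      obtain ⟨a, ha⟩ := transition (ei := i.1.2.1) j.2.1
      obtain ⟨b, hb⟩ := transition (ei := i.1.2.2) j.2.2
      let U := i.1.1 ⊓ j.1.1
      have e1 := congrArg (OmegaSh.pullSect g (CohB1.tensorMod P Q) U)
        (show (CohB1.tensorMod P Q).presheaf.map (homOfLE (inf_le_left : U ≤ i.1.1)).op (tm i.1.2.1 i.1.2.2) =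
          (b * a) • (CohB1.tensorMod P Q).presheaf.map (homOfLE (inf_le_right : U ≤ j.1.1)).op
            (tm j.1.2.1 j.1.2.2) by rw [tm_res, tm_res, ha, hb, tm_smul_right, tm_smul_left, smul_smul])
      rw [pullSect_res, OmegaSh.pullSect_smul, pullSect_res] at e1
      have ea := congrArg (OmegaSh.pullSect g P U) ha
      rw [pullSect_res, OmegaSh.pullSect_smul, pullSect_res] at ea
      have eb := congrArg (OmegaSh.pullSect g Q U) hb
      rw [pullSect_res, OmegaSh.pullSect_smul, pullSect_res] at eb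
      have := (((IsGen.pullSect g (isGen_tm j.2.1 j.2.2)).res (g.preimage_mono (inf_le_right : U ≤ j.1.1))).bijective
        le_rfl).1 (a₁ := g.app U (b * a)) (a₂ := w) (by
          beta_reduce; rw [H10Coh.mres_self]; exact e1.symm.trans hw)
      rw [← this, map_mul, tm_res, tm_res]
      refine Eq.trans (congrArg₂ tm ea eb) ?_
      refine Eq.trans (tm_smul_right (U := g ⁻¹ᵁ U) _ _ _) ?_
      refine Eq.trans (congrArg _ (tm_smul_left (U := g ⁻¹ᵁ U) _ _ _)) ?_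
      exact smul_smul (M := Γ(X, g ⁻¹ᵁ U)) (α := Γ(CohB1.tensorMod ((Scheme.Modules.pullback g).obj P)
        ((Scheme.Modules.pullback g).obj Q), g ⁻¹ᵁ U)) _ _ _
  exact ⟨φ⟩

theorem isAmple_tensor_of_gen (hL : CohB1.IsAmple L) (hM : PicF.IsInvertible M)
    (h : ∀ x : X, ∃ (n : ℕ) (s : Γ(CohB1.tensorPow M n, ⊤)), 0 < n ∧ x ∈ gen (CohB1.tensorPow M n) s) :
    CohB1.IsAmple (CohB1.tensorMod L M) := by
  haveI := compactSpace_of_isAmple hL
  haveI := quasiSeparatedSpace_of_isAmple hL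
  have hL' := isInvertible_of_isAmple hL
  rw [isAmple_iff]
  refine ⟨isInvertible_tensor hL' hM, inferInstance, fun x => ?_⟩
  obtain ⟨n, t, hn, hxt⟩ := h x
  obtain ⟨k, s, hk, hxs, hst, hs⟩ := exists_affine_gen_le hL hxt
  obtain ⟨φ, -⟩ := exists_iso_mul hL' k n
  obtain ⟨φ', -⟩ := exists_iso_mul hM n k
  obtain ⟨s₁, hs₁⟩ := exists_section_of_eq (mul_comm n k) (φ'.hom.app ⊤ (spow t k))
  obtain ⟨χ⟩ := exists_iso_tensorPow_tensor hL' hM (k * n)
  have e : gen _ (χ.hom.app ⊤ (tm (φ.hom.app ⊤ (spow s n)) s₁)) = gen (CohB1.tensorPow L k) s := by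
    rw [gen_iso, gen_tm (isInvertible_tensorPow hL' _) (isInvertible_tensorPow hM _), gen_iso,
      gen_spow (isInvertible_tensorPow hL' k) s n hn, hs₁, gen_iso,
      gen_spow (isInvertible_tensorPow hM n) t k hk]
    exact inf_eq_left.2 hst
  exact ⟨k * n, _, Nat.mul_pos hk hn, by rw [e]; exact hxs, by rw [e]; exact hs⟩

theorem isAmple_tensor_of_isAmple (hL : CohB1.IsAmple L) (hM : CohB1.IsAmple M) :
    CohB1.IsAmple (CohB1.tensorMod L M) :=
  isAmple_tensor_of_gen hL (isInvertible_of_isAmple hM) fun x => by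
    obtain ⟨k, s, hk, hx, -⟩ := (isAmple_iff.1 hM).2.2 x
    exact ⟨k, s, hk, hx⟩

theorem isRelAmple_tensor (hL : RelAmple.IsRelAmple f L) (hM : RelAmple.IsRelAmple f M) :
    RelAmple.IsRelAmple f (CohB1.tensorMod L M) :=
  isRelAmple_iff.2 ⟨hL.1, fun V hV => by
    obtain ⟨φ⟩ := exists_iso_pullback_tensor (f ⁻¹ᵁ V).ι (isInvertible_of_isRelAmple hL) (isInvertible_of_isRelAmple hM)
    exact isAmple_of_iso φ.symm (isAmple_tensor_of_isAmple ((isRelAmple_iff.1 hL).2 V hV) ((isRelAmple_iff.1 hM).2 V hV))⟩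

theorem ampleOn_tensorPow_iff (hL : PicF.IsInvertible L) (U : X.Opens) (n : ℕ) (hn : 0 < n) :
    AmpleOn (CohB1.tensorPow L n) U ↔ AmpleOn L U := by
  obtain ⟨φ⟩ := exists_iso_pullback_tensorPow U.ι hL n
  exact ⟨fun h => (isAmple_tensorPow_iff (isInvertible_pullback _ hL) n hn).2 (isAmple_of_iso φ h),
    fun h => isAmple_of_iso φ.symm ((isAmple_tensorPow_iff (isInvertible_pullback _ hL) n hn).1 h)⟩

theorem isRelAmple_tensorPow_iff (hL : PicF.IsInvertible L) (n : ℕ) (hn : 0 < n) :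
    RelAmple.IsRelAmple f L ↔ RelAmple.IsRelAmple f (CohB1.tensorPow L n) := by
  simp only [isRelAmple_iff, ampleOn_tensorPow_iff hL _ n hn]

end Groth.Agent.H11Ample
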