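import Groth.Agent.H10Coh.Local

/-!
# Extension of sections from `X_f` inside a quasi-compact quasi-separated open
-/

universe u

open CategoryTheory CategoryTheory.Limits AlgebraicGeometry Opposite TopologicalSpace
open Groth.Agent.H10Coh

namespace Groth.Agent.H11Ample

variable {X : Scheme.{u}}

theorem exists_pow_smul_eq_res_of_isQuasiSeparated (M : X.Modules) [M.IsQuasicoherent]
    {W : X.Opens} (hW : IsCompact (W : Set X)) (hqs : IsQuasiSeparated (W : Set X)) (f : Γ(X, W)) (t : Γ(M, X.basicOpen f)) :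
    ∃ (n : ℕ) (s : Γ(M, W)), M.presheaf.map (homOfLE (X.basicOpen_le f)).op s =
      X.presheaf.map (homOfLE (X.basicOpen_le f)).op (f ^ n) • t := by
  obtain ⟨k, U, hU, hUW, hcov⟩ := exists_finite_affine_cover hW
  let g i := X.presheaf.map (homOfLE (hUW i)).op f
  have hb : ∀ i, X.basicOpen (g i) ≤ X.basicOpen f := fun i => by
    rw [Scheme.basicOpen_res]; exact inf_le_right
  have hi : ∀ i, ∃ (n : ℕ) (s : Γ(M, U i)), M.presheaf.map (homOfLE (X.basicOpen_le (g i))).op s =
      X.presheaf.map (homOfLE (X.basicOpen_le (g i))).op (g i ^ n) •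
        M.presheaf.map (homOfLE (hb i)).op t :=
    fun i => exists_pow_smul_eq_res M (hU i) (g i) _
  choose n s hs using hi
  let N := Finset.univ.sup n
  let s' i : Γ(M, U i) := g i ^ (N - n i) • s i
  have hs' : ∀ i, M.presheaf.map (homOfLE (X.basicOpen_le (g i))).op (s' i) =
      X.presheaf.map (homOfLE ((hb i).trans (X.basicOpen_le f))).op (f ^ N) •
        M.presheaf.map (homOfLE (hb i)).op t := by
    intro i
    rw [Scheme.Modules.map_smul, hs i, smul_smul, ← map_mul, ← pow_add,
      Nat.sub_add_cancel (Finset.le_sup (Finset.mem_univ i)), ← map_pow, rres_rres]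
  have hij : ∀ i j, ∃ m : ℕ, X.presheaf.map (homOfLE (inf_le_left.trans (hUW i) : U i ⊓ U j ≤ W)).op (f ^ m) •
      M.presheaf.map (homOfLE (inf_le_left : U i ⊓ U j ≤ U i)).op (s' i) =
      X.presheaf.map (homOfLE (inf_le_left.trans (hUW i) : U i ⊓ U j ≤ W)).op (f ^ m) •
      M.presheaf.map (homOfLE (inf_le_right : U i ⊓ U j ≤ U j)).op (s' j) := by
    intro i j
    have hc : IsCompact ((U i ⊓ U j : X.Opens) : Set X) :=
      hqs (U i).1 (U j).1 (hUW i) (U i).2 (hU i).isCompact (hUW j) (U j).2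
        (hU j).isCompact
    let h := X.presheaf.map (homOfLE (inf_le_left.trans (hUW i) : U i ⊓ U j ≤ W)).op f
    have hbh : X.basicOpen h = (U i ⊓ U j) ⊓ X.basicOpen f := Scheme.basicOpen_res _ _ _
    have hli : X.basicOpen h ≤ X.basicOpen (g i) := by
      rw [hbh, Scheme.basicOpen_res]; exact inf_le_inf_right _ inf_le_left
    have hlj : X.basicOpen h ≤ X.basicOpen (g j) := by
      rw [hbh, Scheme.basicOpen_res]; exact inf_le_inf_right _ inf_le_right
    obtain ⟨m, hm⟩ := exists_pow_smul_eq_zero_of_isCompact M hc h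
      (M.presheaf.map (homOfLE (inf_le_left : U i ⊓ U j ≤ U i)).op (s' i) -
        M.presheaf.map (homOfLE (inf_le_right : U i ⊓ U j ≤ U j)).op (s' j)) (by
      rw [map_sub, mres_mres, mres_mres, ← mres_mres M (X.basicOpen_le (g i)) hli,
        ← mres_mres M (X.basicOpen_le (g j)) hlj, hs', hs', Scheme.Modules.map_smul,
        Scheme.Modules.map_smul, mres_mres, mres_mres, rres_rres, rres_rres, sub_self])
    refine ⟨m, ?_⟩
    rw [← sub_eq_zero, ← smul_sub, map_pow]
    exact hm
  choose m hm using hij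
  let K := Finset.univ.sup fun p : Fin k × Fin k => m p.1 p.2
  obtain ⟨S, hS, -⟩ := TopCat.Sheaf.existsUnique_gluing' (sheafOf M) U W (fun i => homOfLE (hUW i))
    hcov (fun i => X.presheaf.map (homOfLE (hUW i)).op (f ^ K) • s' i) (fun i j => by
      refine (Scheme.Modules.map_smul M (Opens.infLELeft _ _) _ _).trans
        (Eq.trans ?_ (Scheme.Modules.map_smul M (Opens.infLERight _ _) _ _).symm)
      obtain ⟨d, hd⟩ := Nat.exists_eq_add_of_le
        (show m i j ≤ K from Finset.le_sup (f := fun p : Fin k × Fin k => m p.1 p.2) (Finset.mem_univ (i, j)))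
      change X.presheaf.map (homOfLE _).op (X.presheaf.map (homOfLE _).op (f ^ K)) • _ =
        X.presheaf.map (homOfLE _).op (X.presheaf.map (homOfLE _).op (f ^ K)) • _
      rw [rres_rres, rres_rres, hd, add_comm, pow_add, map_mul, mul_smul, mul_smul]
      exact congrArg _ (hm i j))
  refine ⟨K + N, S, TopCat.Sheaf.eq_of_locally_eq' (sheafOf M) (fun i => X.basicOpen (g i)) _
    (fun i => homOfLE (hb i)) (fun x hx => ?_) _ _ fun i => ?_⟩
  · obtain ⟨i, hi⟩ := Opens.mem_iSup.1 (hcov (X.basicOpen_le f hx))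
    exact Opens.mem_iSup.2 ⟨i, by rw [Scheme.basicOpen_res]; exact ⟨hi, hx⟩⟩
  · refine (mres_mres M _ _ _).trans ((mres_mres M (hUW i) (X.basicOpen_le (g i)) S).symm.trans ?_)
    refine (congrArg _ (hS i)).trans (Eq.trans ?_ (Scheme.Modules.map_smul M _ _ _).symm)
    refine (Scheme.Modules.map_smul M _ _ _).trans ?_
    rw [hs', smul_smul, rres_rres, rres_rres, ← map_mul, ← pow_add]


end Groth.Agent.H11Ample
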