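import Groth.Agent.H11Ample.RelComp
import Groth.Agent.H11Ample.Extension
import Groth.Agent.H11Ample.Global
import Groth.Agent.H11Ample.Twist
import Groth.Agent.H06Mod.StalkPullback

/-!
# The counit `f^* f_* F ⟶ F` and relative ampleness
-/

set_option autoImplicit false
set_option linter.style.haveILetI false

noncomputable section

universe u

open CategoryTheory CategoryTheory.Limits AlgebraicGeometry Opposite TopologicalSpace
open Groth.Agent.H11Tilde

namespace Groth.Agent.H11Ample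

variable {X Y : Scheme.{u}}

/-- A section over `f⁻¹ V` seen as a section of the direct image. -/
abbrev pushSec (f : X ⟶ Y) (F : X.Modules) (V : Y.Opens) (t : Γ(F, f ⁻¹ᵁ V)) :
    Γ((Scheme.Modules.pushforward f).obj F, V) := t

theorem counit_app_pullSect (f : X ⟶ Y) (F : X.Modules) (V : Y.Opens) (t : Γ(F, f ⁻¹ᵁ V)) :
    ((Scheme.Modules.pullbackPushforwardAdjunction f).counit.app F).app (f ⁻¹ᵁ V)
      (OmegaSh.pullSect f ((Scheme.Modules.pushforward f).obj F) V (pushSec f F V t)) = t := by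
  have h := (Scheme.Modules.pullbackPushforwardAdjunction f).right_triangle_components F
  exact congr($(congrArg (fun k => Scheme.Modules.Hom.app k V) h) (pushSec f F V t))

theorem epi_counit_of_span (f : X ⟶ Y) (F : X.Modules)
    (h : ∀ (W : X.Opens) (t : Γ(F, W)), ∀ x ∈ W, ∃ (B : X.Opens) (hB : B ≤ W) (V : Y.Opens) (hBV : B ≤ f ⁻¹ᵁ V),
      x ∈ B ∧ F.presheaf.map (homOfLE hB).op t ∈ Submodule.span Γ(X, B)
        (Set.range fun s : Γ(F, f ⁻¹ᵁ V) => F.presheaf.map (homOfLE hBV).op s)) :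
    Epi ((Scheme.Modules.pullbackPushforwardAdjunction f).counit.app F) := by
  refine epi_of_locally_surjective _ fun W t x hx => ?_
  obtain ⟨B, hB, V, hBV, hxB, ht⟩ := h W t x hx
  refine ⟨B, hB, hxB, ?_⟩
  change ∃ s, ((Scheme.Modules.pullbackPushforwardAdjunction f).counit.app F).app B s =
    F.presheaf.map (homOfLE hB).op t
  generalize F.presheaf.map (homOfLE hB).op t = t' at ht ⊢
  induction ht using Submodule.span_induction with
  | mem y hy =>
    obtain ⟨s, rfl⟩ := hy
    refine ⟨((Scheme.Modules.pullback f).obj ((Scheme.Modules.pushforward f).obj F)).presheaf.map (homOfLE hBV).op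
      (OmegaSh.pullSect f ((Scheme.Modules.pushforward f).obj F) V (pushSec f F V s)), ?_⟩
    exact (app_map_apply ((Scheme.Modules.pullbackPushforwardAdjunction f).counit.app F) hBV _).trans
      (congrArg _ (counit_app_pullSect f F V s))
  | zero => exact ⟨0, map_zero _⟩
  | add y z _ _ hy hz =>
    obtain ⟨y', rfl⟩ := hy
    obtain ⟨z', rfl⟩ := hz
    exact ⟨y' + z', map_add _ _ _⟩
  | smul r y _ hy =>
    obtain ⟨y', rfl⟩ := hy
    exact ⟨r • y', Scheme.Modules.Hom.app_smul _ _ _⟩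

/-- If the counit is an epimorphism, sections over the inverse image of an affine open do not all vanish at a point. -/
theorem exists_germ_notMem_of_counit_epi (f : X ⟶ Y) (F : X.Modules) [F.IsQuasicoherent]
    (hepi : Epi ((Scheme.Modules.pullbackPushforwardAdjunction f).counit.app F)) {V : Y.Opens} (hV : IsAffineOpen V)
    (hc : IsCompact (f ⁻¹ᵁ V : Set X)) (hqs : IsQuasiSeparated (f ⁻¹ᵁ V : Set X)) {x : X} (hx : f x ∈ V)
    {m₀ : F.presheaf.stalk x} (hm₀ : m₀ ∉ IsLocalRing.maximalIdeal (X.presheaf.stalk x) •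
      (⊤ : Submodule (X.presheaf.stalk x) (F.presheaf.stalk x))) :
    ∃ t : Γ(F, f ⁻¹ᵁ V), F.presheaf.germ (f ⁻¹ᵁ V) x hx t ∉ IsLocalRing.maximalIdeal (X.presheaf.stalk x) •
      (⊤ : Submodule (X.presheaf.stalk x) (F.presheaf.stalk x)) := by
  by_contra hne
  push Not at hne
  let P : Submodule (X.presheaf.stalk x) (F.presheaf.stalk x) :=
    IsLocalRing.maximalIdeal (X.presheaf.stalk x) • ⊤
  let Q := F.presheaf.stalk x ⧸ P
  let ψ : F ⟶ H06Mod.sky x Q := H06Mod.homOfStalk P.mkQ
  have hpush : (Scheme.Modules.pushforward f).map ψ = 0 := by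
    refine Scheme.Modules.hom_ext _ _ fun W => ?_
    ext t
    refine H06Mod.skyEval_ext (x := x) (N := Q) fun hxW => ?_
    change H06Mod.skyEval x Q (f ⁻¹ᵁ W) hxW (ψ.app (f ⁻¹ᵁ W) t) = H06Mod.skyEval x Q (f ⁻¹ᵁ W) hxW 0
    rw [map_zero, H06Mod.skyEval_homOfStalk]
    refine (Submodule.Quotient.mk_eq_zero P).2 ?_
    obtain ⟨a, haW, hxa⟩ := hV.exists_basicOpen_le (V := W) ⟨f x, hxW⟩ hx
    let g := f.app V a
    have hg : X.basicOpen g = f ⁻¹ᵁ Y.basicOpen a := (Scheme.preimage_basicOpen f a).symm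
    have hgW : X.basicOpen g ≤ f ⁻¹ᵁ W := hg.le.trans (f.preimage_mono haW)
    have hxg : x ∈ X.basicOpen g := hg.ge hxa
    obtain ⟨p, T, hT⟩ := exists_pow_smul_eq_res_of_isQuasiSeparated F hc hqs g
      (F.presheaf.map (homOfLE hgW).op t)
    have h1 := congrArg (F.presheaf.germ (X.basicOpen g) x hxg) hT
    rw [TopCat.Presheaf.germ_res_apply, H06Mod.germ_smul, TopCat.Presheaf.germ_res_apply,
      TopCat.Presheaf.germ_res_apply] at h1
    obtain ⟨d, hd⟩ := ((X.mem_basicOpen g x hx).1 hxg).pow p |>.exists_left_inv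
    rw [← one_smul (X.presheaf.stalk x) (F.presheaf.germ _ x hxW t), ← hd, mul_smul, ← map_pow]
    exact h1 ▸ Submodule.smul_mem P d (hne T)
  have hψ : ψ = 0 := by
    have h1 := (Scheme.Modules.pullbackPushforwardAdjunction f).counit.naturality ψ
    rw [← cancel_epi ((Scheme.Modules.pullbackPushforwardAdjunction f).counit.app F), comp_zero]
    refine h1.symm.trans ?_
    rw [Functor.comp_map, hpush, Functor.map_zero, zero_comp]
  obtain ⟨W, hxW, t, rfl⟩ := F.presheaf.exists_germ_eq m₀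
  exact hm₀ ((Submodule.Quotient.mk_eq_zero P).1 ((H06Mod.skyEval_homOfStalk P.mkQ W hxW t).symm.trans
    (congrArg (H06Mod.skyEval x Q W hxW) (congr($(congrArg (fun k => Scheme.Modules.Hom.app k W) hψ) t)))))

theorem germ_notMem_smul_top_of_isGen {L : X.Modules} {B : X.Opens} {e : Γ(L, B)} (he : IsGen L e) {x : X}
    (hx : x ∈ B) : L.presheaf.germ B x hx e ∉
      IsLocalRing.maximalIdeal (X.presheaf.stalk x) • (⊤ : Submodule (X.presheaf.stalk x) (L.presheaf.stalk x)) := by
  intro h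
  have hP : IsLocalRing.maximalIdeal (X.presheaf.stalk x) • (⊤ : Submodule (X.presheaf.stalk x) (L.presheaf.stalk x)) ≤
      Submodule.map (LinearMap.toSpanSingleton (X.presheaf.stalk x) _ (L.presheaf.germ B x hx e))
        (IsLocalRing.maximalIdeal (X.presheaf.stalk x)) := by
    refine Submodule.smul_le.2 fun r hr m _ => ?_
    obtain ⟨c, rfl⟩ := (he x hx).2 m
    exact ⟨r * c, Ideal.mul_mem_right _ _ hr, mul_smul _ _ _⟩
  obtain ⟨c, hc, hce⟩ := hP h
  have : c = 1 := (he x hx).1 (hce.trans (one_smul _ _).symm)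
  exact (IsLocalRing.maximalIdeal.isMaximal _).ne_top ((Ideal.eq_top_iff_one _).2 (this ▸ hc))

end Groth.Agent.H11Ample
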