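import Groth.Agent.H11Ample.ToPn
import Groth.Prelude.Def_LCI2
import Mathlib.AlgebraicGeometry.Morphisms.ClosedImmersion
import Mathlib.AlgebraicGeometry.Morphisms.Immersion

/-!
# A criterion for very ampleness
-/

set_option autoImplicit false
set_option linter.style.haveILetI false

noncomputable section

universe u

open CategoryTheory CategoryTheory.Limits AlgebraicGeometry Opposite TopologicalSpace CohB1
open Groth.Agent.H11Tilde

namespace Groth.Agent.H11Ample

variable {X Y : Scheme.{u}} {L : X.Modules}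

theorem isClosedImmersion_morphismRestrict {f : X ⟶ Y} {W : Y.Opens} (hW : IsAffineOpen W)
    (hW' : IsAffineOpen (f ⁻¹ᵁ W)) (h : Function.Surjective (f.app W)) : IsClosedImmersion (f ∣_ W) := by
  haveI : IsAffine W.toScheme := hW
  haveI : IsAffine (f ⁻¹ᵁ W).toScheme := hW'
  refine IsClosedImmersion.of_surjective_of_isAffine _ ?_
  have e : W.ι ''ᵁ ⊤ = W := W.ι_image_top
  have h' : Function.Surjective (f.app (W.ι ''ᵁ ⊤)) := by rw [e]; exact h
  change Function.Surjective ((f ∣_ W).app ⊤)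
  rw [morphismRestrict_app]
  exact (ConcreteCategory.bijective_of_isIso (X.presheaf.map (eqToHom _).op)).surjective.comp h'

/-- Sections whose loci of generation are affine and generate their rings of functions give an immersion into
projective space. -/
theorem isRelVeryAmplePn_of_sections [IsAffine Y] (q : X ⟶ Y) (hL : PicF.IsInvertible L) {n : ℕ}
    (v : Fin (n + 1) → Γ(L, ⊤)) (J : Set (Fin (n + 1))) (hJ : ∀ x, ∃ j ∈ J, x ∈ gen L (v j))
    (haff : ∀ j ∈ J, IsAffineOpen (gen L (v j)))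
    (hgen : ∀ j ∈ J, Subring.closure (Set.range (q.appLE ⊤ (gen L (v j)) le_top) ∪
      {c | ∃ l, L.presheaf.map (homOfLE (le_top : gen L (v j) ≤ ⊤)).op (v l) =
        c • L.presheaf.map (homOfLE (le_top : gen L (v j) ≤ ⊤)).op (v j)}) = ⊤) :
    RelAmple.IsRelVeryAmplePn q L := by
  obtain ⟨r, -, ⟨τ⟩, hpre, hratio⟩ := exists_toPn (R := ULift.{u} ℤ) (specULiftZIsTerminal.from X) hL v
    fun x => (hJ x).imp fun _ h => h.2
  let t := specULiftZIsTerminal.from Y
  let p₁ := pullback.fst (ProjSpace.toSpec n (ULift.{u} ℤ)) t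
  let p₂ := pullback.snd (ProjSpace.toSpec n (ULift.{u} ℤ)) t
  let i : X ⟶ ProjSpaceOver n Y := pullback.lift r q (specULiftZIsTerminal.hom_ext _ _)
  have h₁ : i ≫ p₁ = r := pullback.lift_fst _ _ _
  have h₂ : i ≫ p₂ = q := pullback.lift_snd _ _ _
  haveI : IsAffineHom t := inferInstance
  haveI : IsAffineHom p₁ := MorphismProperty.pullback_fst _ _ ‹IsAffineHom t›
  have hp₁ := ‹IsAffineHom p₁›
  let W : J → (ProjSpaceOver n Y).Opens := fun j =>
    p₁ ⁻¹ᵁ Proj.basicOpen (polyGrading n (ULift.{u} ℤ)) (MvPolynomial.X j.1)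
  have hWpre : ∀ j, i ⁻¹ᵁ W j = gen L (v j.1) := fun j => by
    rw [← hpre j.1, ← h₁]
    rfl
  have hWaff : ∀ j, IsAffineOpen (W j) := fun j =>
    hp₁.isAffine_preimage _ (Proj.isAffineOpen_basicOpen (polyGrading n (ULift.{u} ℤ)) _ (X_mem j.1) one_pos)
  have hclosed : ∀ j, IsClosedImmersion (i ∣_ W j) := fun j => by
    refine isClosedImmersion_morphismRestrict (hWaff j) ((hWpre j).symm ▸ haff j.1 j.2) ?_
    let G := gen L (v j.1)
    suffices h : Function.Surjective (i.appLE (W j) G (hWpre j).ge) by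
      intro b
      obtain ⟨a, ha⟩ := h (X.presheaf.map (homOfLE (hWpre j).ge).op b)
      haveI : IsIso (homOfLE (hWpre j).ge) := homOfLE_isIso_of_eq _ (hWpre j).symm
      exact ⟨a, (ConcreteCategory.bijective_of_isIso (X.presheaf.map (homOfLE (hWpre j).ge).op)).1 ha⟩
    intro b
    have hb : b ∈ (i.appLE (W j) G (hWpre j).ge).hom.range := by
      refine (Subring.closure_le.2 ?_) ((hgen j.1 j.2).ge (Subring.mem_top b))
      rintro c (⟨a, rfl⟩ | ⟨l, hl⟩)
      · refine ⟨p₂.appLE ⊤ (W j) le_top a, ?_⟩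
        have e := Scheme.Hom.appLE_comp_appLE i p₂ ⊤ (W j) G le_top (hWpre j).ge
        simp only [h₂] at e
        exact congr($e a)
      · let D := Proj.basicOpen (polyGrading n (ULift.{u} ℤ)) (MvPolynomial.X j.1)
        obtain ⟨ρ, hρ⟩ := hratio j.1 l
        refine ⟨p₁.app D ρ, ?_⟩
        have hle : G ≤ r ⁻¹ᵁ D := (hpre j.1).ge
        have h3 := congrArg (L.presheaf.map (homOfLE hle).op) hρ
        rw [H10Coh.mres_mres, Scheme.Modules.map_smul, H10Coh.mres_mres, hl] at h3
        have h4 := ((isGen_gen (v j.1)).bijective le_rfl).1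
          (a₁ := c) (a₂ := X.presheaf.map (homOfLE hle).op (r.app D ρ))
          (by beta_reduce; rw [H10Coh.mres_self]; exact h3)
        rw [h4]
        have e := Scheme.Hom.appLE_comp_appLE i p₁ D (p₁ ⁻¹ᵁ D) G le_rfl (hWpre j).ge
        simp only [h₁] at e
        refine Eq.trans ?_ (Eq.trans (congr($e ρ)) ?_)
        · simp [Scheme.Hom.appLE]
          rfl
        · rfl
    obtain ⟨a, ha⟩ := hb
    exact ⟨a, ha⟩
  refine ⟨n, i, ?_, h₂, ⟨τ.symm ≪≫ ((Scheme.Modules.pullbackCongr h₁).app _).symm ≪≫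
    ((Scheme.Modules.pullbackComp i p₁).app _).symm⟩⟩
  haveI : MorphismProperty.RespectsRight (C := Scheme.{u}) @IsImmersion @IsOpenImmersion :=
    ⟨fun i hi f hf => by
      haveI : IsOpenImmersion i := hi
      haveI : IsImmersion f := hf
      exact inferInstanceAs (IsImmersion (f ≫ i))⟩
  refine IsZariskiLocalAtTarget.of_range_subset_iSup (P := @IsImmersion) W ?_ fun j => ?_
  · rintro _ ⟨x, rfl⟩
    obtain ⟨j, hj, hx⟩ := hJ x
    exact Opens.mem_iSup.2 ⟨⟨j, hj⟩, (hWpre ⟨j, hj⟩).ge hx⟩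
  · haveI := hclosed j
    infer_instance

end Groth.Agent.H11Ample
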