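import Groth.Agent.H11Ample.RelQuasiAffine
import Mathlib.AlgebraicGeometry.PullbackCarrier

/-!
# Inverse images of relatively ample modules
-/

set_option autoImplicit false
set_option linter.style.haveILetI false

noncomputable section

universe u

open CategoryTheory CategoryTheory.Limits AlgebraicGeometry Opposite TopologicalSpace
open Groth.Agent.H11Tilde

namespace Groth.Agent.H11Ample

variable {X X' Y Y' : Scheme.{u}}

theorem isQuasiAffine_of_iso (e : X ≅ Y) [Y.IsQuasiAffine] : X.IsQuasiAffine := by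
  haveI : CompactSpace X := QuasiCompact.compactSpace_of_compactSpace e.hom
  exact Scheme.IsQuasiAffine.of_isImmersion e.hom

theorem isQuasiAffine_of_image (j : X ⟶ Y) [IsOpenImmersion j] (W : X.Opens)
    [(j ''ᵁ W).toScheme.IsQuasiAffine] : W.toScheme.IsQuasiAffine :=
  isQuasiAffine_of_iso (j.isoImage W)

theorem isAmple_pullback_of_isQuasiAffine (g : X ⟶ Y) [CompactSpace X] {M : Y.Modules} (hM : CohB1.IsAmple M)
    (h : ∀ W : Y.Opens, IsAffineOpen W → (g ⁻¹ᵁ W).toScheme.IsQuasiAffine) :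
    CohB1.IsAmple ((Scheme.Modules.pullback g).obj M) := by
  obtain ⟨hM', -, hA⟩ := isAmple_iff.1 hM
  refine isAmple_of_gen_isQuasiAffine (isInvertible_pullback g hM') fun x => ?_
  obtain ⟨k, s, hk, hxs, hs⟩ := hA (g x)
  obtain ⟨φ⟩ := exists_iso_pullback_tensorPow g hM' k
  have e : gen _ (φ.hom.app ⊤ (pullTop g s)) = g ⁻¹ᵁ gen (CohB1.tensorPow M k) s := by
    rw [gen_iso]
    have := gen_smul_pullSect g (isInvertible_tensorPow hM' k) s (isUnit_one (M := Γ(X, ⊤)))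
    rwa [one_smul] at this
  exact ⟨k, φ.hom.app ⊤ (pullTop g s), hk, by rw [e]; exact hxs, by rw [e]; exact h _ hs⟩

theorem ampleOn_pullback_of_isQuasiAffine {g : X' ⟶ X} (hg : Mor2.IsQuasiAffine g) {L : X.Modules} {U : X.Opens}
    (h : AmpleOn L U) : AmpleOn ((Scheme.Modules.pullback g).obj L) (g ⁻¹ᵁ U) := by
  haveI := hg.1
  haveI : CompactSpace (g ⁻¹ᵁ U).toScheme :=
    isCompact_iff_compactSpace.1 (g.isCompact_preimage (U := U) h.isCompact)
  have h1 : CohB1.IsAmple ((Scheme.Modules.pullback (g ∣_ U)).obj ((Scheme.Modules.pullback U.ι).obj L)) := by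
    refine isAmple_pullback_of_isQuasiAffine (g ∣_ U) h fun W hW => ?_
    haveI : ((g ⁻¹ᵁ U).ι ''ᵁ ((g ∣_ U) ⁻¹ᵁ W)).toScheme.IsQuasiAffine := by
      rw [image_morphismRestrict_preimage]
      exact hg.2 _ (hW.image_of_isOpenImmersion U.ι)
    exact isQuasiAffine_of_image (g ⁻¹ᵁ U).ι _
  rw [← isAmple_pullback_comp_iff, morphismRestrict_ι, isAmple_pullback_comp_iff] at h1
  exact h1

theorem isRelAmple_pullback_of_isQuasiAffine {f : X ⟶ Y} {g : X' ⟶ X} (hg : Mor2.IsQuasiAffine g)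
    {L : X.Modules} (h : RelAmple.IsRelAmple f L) :
    RelAmple.IsRelAmple (g ≫ f) ((Scheme.Modules.pullback g).obj L) := by
  haveI := hg.1
  haveI := h.1
  refine isRelAmple_iff.2 ⟨inferInstance, fun V hV => ?_⟩
  rw [Scheme.Hom.comp_preimage]
  exact ampleOn_pullback_of_isQuasiAffine hg ((isRelAmple_iff.1 h).2 V hV)

/-- A quasi-compact morphism to an affine scheme which is a topological embedding has quasi-affine source. -/
theorem isQuasiAffine_of_isEmbedding [IsAffine Y] [CompactSpace X] (h : X ⟶ Y)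
    (he : Topology.IsEmbedding h.base) : X.IsQuasiAffine := by
  refine Scheme.IsQuasiAffine.of_forall_exists_mem_basicOpen X fun x => ?_
  obtain ⟨A, hA, hxA, -⟩ := exists_isAffineOpen_mem_and_subset (U := (⊤ : X.Opens)) (x := x) trivial
  obtain ⟨O, hO, hOA⟩ := he.isInducing.isOpen_iff.1 A.isOpen
  have hxO : h x ∈ O := (Set.ext_iff.1 hOA x).2 hxA
  obtain ⟨a, ha, hxa⟩ := (isAffineOpen_top Y).exists_basicOpen_le (V := ⟨O, hO⟩) ⟨h x, hxO⟩ trivial
  refine ⟨h.appTop a, ?_, ?_⟩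
  · have hle : X.basicOpen (h.appTop a) ≤ A := by
      rw [← Scheme.preimage_basicOpen_top]
      exact fun y hy => (Set.ext_iff.1 hOA y).1 (ha hy)
    have e := hA.basicOpen (X.presheaf.map (homOfLE (le_top : A ≤ ⊤)).op (h.appTop a))
    rw [Scheme.basicOpen_res, inf_eq_right.2 hle] at e
    exact e
  · rw [← Scheme.preimage_basicOpen_top]
    exact hxa

theorem isQuasiAffineHom_of_isEmbedding (j : X' ⟶ X) [QuasiCompact j] (hj : Topology.IsEmbedding j.base) :
    Mor2.IsQuasiAffine j := by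
  refine ⟨inferInstance, fun W hW => ?_⟩
  haveI : IsAffine W.toScheme := hW
  haveI : CompactSpace (j ⁻¹ᵁ W).toScheme :=
    isCompact_iff_compactSpace.1 (j.isCompact_preimage (U := W) hW.isCompact)
  refine isQuasiAffine_of_isEmbedding (j ∣_ W) ?_
  refine Topology.IsEmbedding.of_comp (j ∣_ W).continuous W.ι.continuous ?_
  have e : ⇑W.ι ∘ ⇑(j ∣_ W) = ⇑j ∘ ⇑(j ⁻¹ᵁ W).ι := by
    funext y
    change ((j ∣_ W) ≫ W.ι).base y = ((j ⁻¹ᵁ W).ι ≫ j).base y
    rw [morphismRestrict_ι]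
  exact e ▸ hj.comp (j ⁻¹ᵁ W).ι.isOpenEmbedding.isEmbedding

/-- The inverse image of an affine open of `f⁻¹ V` in a base change is affine over affine opens. -/
theorem isAffineOpen_fst_inf_snd (f : X ⟶ Y) (g : Y' ⟶ Y) {V : Y.Opens} (hV : IsAffineOpen V)
    {W : X.Opens} (hW : IsAffineOpen W) (hWV : W ≤ f ⁻¹ᵁ V) {V' : Y'.Opens} (hV' : IsAffineOpen V')
    (hV'V : V' ≤ g ⁻¹ᵁ V) :
    IsAffineOpen (pullback.fst f g ⁻¹ᵁ W ⊓ pullback.snd f g ⁻¹ᵁ V') := by
  haveI : IsAffine W.toScheme := hW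
  haveI : IsAffine V.toScheme := hV
  haveI : IsAffine V'.toScheme := hV'
  let j := pullback.map (f.resLE V W hWV) (g.resLE V V' hV'V) f g W.ι V'.ι V.ι (f.resLE_comp_ι hWV)
    (g.resLE_comp_ι hV'V)
  have e : j.opensRange = pullback.fst f g ⁻¹ᵁ W ⊓ pullback.snd f g ⁻¹ᵁ V' := by
    refine Opens.ext ?_
    change Set.range j = _
    rw [Scheme.Pullback.range_map, Scheme.Opens.range_ι, Scheme.Opens.range_ι]
    rfl
  exact e ▸ isAffineOpen_opensRange j

theorem isRelAmple_baseChange (f : X ⟶ Y) [QuasiCompact f] (g : Y' ⟶ Y) {L : X.Modules}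
    (hL : RelAmple.IsRelAmple f L) :
    RelAmple.IsRelAmple (pullback.snd f g) ((Scheme.Modules.pullback (pullback.fst f g)).obj L) := by
  haveI : QuasiCompact (pullback.snd f g) := MorphismProperty.pullback_snd _ _ ‹QuasiCompact f›
  refine isRelAmple_of_cover fun y => ?_
  obtain ⟨V, hV, hyV⟩ := exists_isAffineOpen_mem (g y)
  obtain ⟨V', hV', hyV', hV'V⟩ := exists_isAffineOpen_mem_and_subset (U := g ⁻¹ᵁ V) hyV
  refine ⟨V', hV', hyV', ?_⟩
  let P := pullback.snd f g ⁻¹ᵁ V'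
  have hP : P ≤ pullback.fst f g ⁻¹ᵁ (f ⁻¹ᵁ V) := by
    rw [← Scheme.Hom.comp_preimage, pullback.condition, Scheme.Hom.comp_preimage]
    exact (pullback.snd f g).preimage_mono hV'V
  haveI : CompactSpace P.toScheme :=
    isCompact_iff_compactSpace.1 ((pullback.snd f g).isCompact_preimage (U := V') hV'.isCompact)
  have hA : CohB1.IsAmple ((Scheme.Modules.pullback (f ⁻¹ᵁ V).ι).obj L) := (isRelAmple_iff.1 hL).2 V hV
  let h := (pullback.fst f g).resLE (f ⁻¹ᵁ V) P hP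
  haveI := compactSpace_of_isAmple hA
  haveI := quasiSeparatedSpace_of_isAmple hA
  have h1 : CohB1.IsAmple ((Scheme.Modules.pullback h).obj ((Scheme.Modules.pullback (f ⁻¹ᵁ V).ι).obj L)) := by
    refine isAmple_pullback h hA fun x => ⟨⊤, trivial, fun W hW _ => ?_⟩
    rw [← P.ι.isAffineOpen_iff_of_isOpenImmersion]
    have e : P.ι ''ᵁ (h ⁻¹ᵁ W) = pullback.fst f g ⁻¹ᵁ ((f ⁻¹ᵁ V).ι ''ᵁ W) ⊓ P := by
      have e1 : h ⁻¹ᵁ W = P.ι ⁻¹ᵁ (pullback.fst f g ⁻¹ᵁ ((f ⁻¹ᵁ V).ι ''ᵁ W)) := by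
        rw [← Scheme.Hom.comp_preimage, ← Scheme.Hom.resLE_comp_ι (pullback.fst f g) hP, Scheme.Hom.comp_preimage,
          Scheme.Hom.preimage_image_eq]
      rw [e1, Scheme.Hom.image_preimage_eq_opensRange_inf, Scheme.Opens.opensRange_ι, inf_comm]
    rw [e]
    exact isAffineOpen_fst_inf_snd f g hV (hW.image_of_isOpenImmersion _) ((f ⁻¹ᵁ V).ι_image_le W) hV' hV'V
  rw [← isAmple_pullback_comp_iff, Scheme.Hom.resLE_comp_ι, isAmple_pullback_comp_iff] at h1
  exact h1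

end Groth.Agent.H11Ample
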