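import Groth.Agent.H11Ample.Converse
import Groth.Agent.H17.PullSectLocal
import Groth.Prelude.Def_Mor2

/-!
# Ampleness over opens
-/

set_option autoImplicit false
set_option linter.style.haveILetI false

noncomputable section

universe u

open CategoryTheory CategoryTheory.Limits AlgebraicGeometry Opposite TopologicalSpace
open Groth.Agent.H11Tilde

namespace Groth.Agent.H11Ample

variable {X Y Z : Scheme.{u}}

theorem compactSpace_of_isAmple {L : X.Modules} (h : CohB1.IsAmple L) : CompactSpace X :=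
  (isAmple_iff.1 h).2.1

theorem isInvertible_of_isAmple {L : X.Modules} (h : CohB1.IsAmple L) : PicF.IsInvertible L :=
  (isAmple_iff.1 h).1

theorem gen_smul_of_isUnit {L : X.Modules} (hL : PicF.IsInvertible L) {c : Γ(X, ⊤)} (hc : IsUnit c)
    (g : Γ(L, ⊤)) : gen L (c • g) = gen L g := by
  ext y
  obtain ⟨V, e, hy, he⟩ := exists_gen hL y
  obtain ⟨a, ha⟩ := exists_coeff he (L.presheaf.map (homOfLE (le_top : V ≤ ⊤)).op g)
  have h2 : L.presheaf.map (homOfLE (le_top : V ≤ ⊤)).op (c • g) =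
      (X.presheaf.map (homOfLE (le_top : V ≤ ⊤)).op c * a) • e := by
    rw [Scheme.Modules.map_smul, ha, mul_smul]
  have h3 := gen_inf_eq_basicOpen he (c • g) _ h2
  rw [Scheme.basicOpen_mul, Scheme.basicOpen_of_isUnit X (hc.map (X.presheaf.map (homOfLE (le_top : V ≤ ⊤)).op).hom),
    ← gen_inf_eq_basicOpen he g a ha] at h3
  exact ⟨fun h => ((h3.le ⟨h, hy⟩).2).1, fun h => (h3.ge ⟨hy, h, hy⟩).1⟩

theorem gen_smul_le_basicOpen {L : X.Modules} (hL : PicF.IsInvertible L) (f : Γ(X, ⊤)) (g : Γ(L, ⊤)) :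
    gen L (f • g) ≤ X.basicOpen f := fun y hy => by
  obtain ⟨V, e, hyV, he⟩ := exists_gen hL y
  obtain ⟨a, ha⟩ := exists_coeff he (L.presheaf.map (homOfLE (le_top : V ≤ ⊤)).op g)
  have h2 : L.presheaf.map (homOfLE (le_top : V ≤ ⊤)).op (f • g) =
      (X.presheaf.map (homOfLE (le_top : V ≤ ⊤)).op f * a) • e := by
    rw [Scheme.Modules.map_smul, ha, mul_smul]
  have h3 := (gen_inf_eq_basicOpen he (f • g) _ h2).le ⟨hy, hyV⟩
  rw [Scheme.basicOpen_mul, Scheme.basicOpen_res] at h3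
  exact h3.1.2

/-! ### Isomorphisms and composites -/

theorem isInvertible_pullback_iff_of_comp (f : X ⟶ Y) (g : Y ⟶ Z) (M : Z.Modules) :
    PicF.IsInvertible ((Scheme.Modules.pullback (f ≫ g)).obj M) ↔
      PicF.IsInvertible ((Scheme.Modules.pullback f).obj ((Scheme.Modules.pullback g).obj M)) :=
  ⟨H11Tilde.isInvertible_of_iso ((Scheme.Modules.pullbackComp f g).app M).symm,
    H11Tilde.isInvertible_of_iso ((Scheme.Modules.pullbackComp f g).app M)⟩

theorem isAmple_pullback_comp_iff (f : X ⟶ Y) (g : Y ⟶ Z) (M : Z.Modules) :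
    CohB1.IsAmple ((Scheme.Modules.pullback (f ≫ g)).obj M) ↔
      CohB1.IsAmple ((Scheme.Modules.pullback f).obj ((Scheme.Modules.pullback g).obj M)) :=
  ⟨isAmple_of_iso ((Scheme.Modules.pullbackComp f g).app M).symm,
    isAmple_of_iso ((Scheme.Modules.pullbackComp f g).app M)⟩

theorem isAmple_pullback_of_isAffineHom (f : X ⟶ Y) [IsAffineHom f] {M : Y.Modules} (hM : CohB1.IsAmple M) :
    CohB1.IsAmple ((Scheme.Modules.pullback f).obj M) := by
  haveI := compactSpace_of_isAmple hM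
  haveI := quasiSeparatedSpace_of_isAmple hM
  haveI : CompactSpace X := QuasiCompact.compactSpace_of_compactSpace f
  exact isAmple_pullback f hM fun x => ⟨⊤, trivial, fun W hW _ => hW.preimage f⟩

theorem isAmple_pullback_of_isOpenImmersion (f : X ⟶ Y) [IsOpenImmersion f] [CompactSpace X] {M : Y.Modules}
    (hM : CohB1.IsAmple M) : CohB1.IsAmple ((Scheme.Modules.pullback f).obj M) := by
  haveI := compactSpace_of_isAmple hM
  haveI := quasiSeparatedSpace_of_isAmple hM
  refine isAmple_pullback f hM fun x => ⟨f.opensRange, ⟨x, rfl⟩, fun W hW hle => ?_⟩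
  rw [← f.isAffineOpen_iff_of_isOpenImmersion, f.image_preimage_eq_opensRange_inf, inf_eq_right.2 hle]
  exact hW

theorem isAmple_pullback_iso_iff (e : X ≅ Y) (M : Y.Modules) :
    CohB1.IsAmple ((Scheme.Modules.pullback e.hom).obj M) ↔ CohB1.IsAmple M := by
  refine ⟨fun h => ?_, isAmple_pullback_of_isAffineHom e.hom⟩
  exact isAmple_of_iso ((Scheme.Modules.pullbackComp e.inv e.hom).app M ≪≫
    (Scheme.Modules.pullbackCongr e.inv_hom_id).app M ≪≫ (Scheme.Modules.pullbackId Y).app M)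
    (isAmple_pullback_of_isAffineHom e.inv h)

theorem isAmple_pullback_id_iff (M : X.Modules) :
    CohB1.IsAmple ((Scheme.Modules.pullback (𝟙 X)).obj M) ↔ CohB1.IsAmple M :=
  isAmple_pullback_iso_iff (Iso.refl X) M

/-! ### Ampleness over an open -/

/-- `L` is ample over the open `U`. -/
def AmpleOn (L : X.Modules) (U : X.Opens) : Prop := CohB1.IsAmple ((Scheme.Modules.pullback U.ι).obj L)

theorem isAmple_restrict_iff (L : X.Modules) (U : X.Opens) :
    CohB1.IsAmple (L.restrict U.ι) ↔ AmpleOn L U :=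
  ⟨isAmple_of_iso ((Scheme.Modules.restrictFunctorIsoPullback U.ι).app L),
    isAmple_of_iso ((Scheme.Modules.restrictFunctorIsoPullback U.ι).app L).symm⟩

theorem ampleOn_iff_of_range {L : X.Modules} (j : Z ⟶ X) [IsOpenImmersion j] {U : X.Opens}
    (hU : j.opensRange = U) : AmpleOn L U ↔ CohB1.IsAmple ((Scheme.Modules.pullback j).obj L) := by
  subst hU
  have e := isAmple_pullback_iso_iff j.isoOpensRange ((Scheme.Modules.pullback j.opensRange.ι).obj L)
  rw [← isAmple_pullback_comp_iff, j.isoOpensRange_hom_ι] at e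
  exact e.symm

theorem ampleOn_top_iff (L : X.Modules) : AmpleOn L ⊤ ↔ CohB1.IsAmple L := by
  rw [ampleOn_iff_of_range (𝟙 X) (Scheme.Hom.opensRange_of_isIso (𝟙 X)), isAmple_pullback_id_iff]

theorem AmpleOn.isCompact {L : X.Modules} {U : X.Opens} (h : AmpleOn L U) : IsCompact (U : Set X) := by
  haveI := compactSpace_of_isAmple h
  exact isCompact_iff_compactSpace.2 (inferInstanceAs (CompactSpace U.toScheme))

theorem AmpleOn.mono {L : X.Modules} {U U' : X.Opens} (h : AmpleOn L U) (hle : U' ≤ U)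
    (hc : IsCompact (U' : Set X)) : AmpleOn L U' := by
  haveI : CompactSpace U'.toScheme := isCompact_iff_compactSpace.1 hc
  have h' := isAmple_pullback_of_isOpenImmersion (X.homOfLE hle) h
  rw [← isAmple_pullback_comp_iff, X.homOfLE_ι] at h'
  exact h'

theorem ampleOn_preimage_iff (j : Z ⟶ X) [IsOpenImmersion j] {L : X.Modules} (W : Z.Opens) :
    AmpleOn ((Scheme.Modules.pullback j).obj L) W ↔ AmpleOn L (j ''ᵁ W) := by
  rw [AmpleOn, ← isAmple_pullback_comp_iff, ← ampleOn_iff_of_range (W.ι ≫ j)]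
  rw [Scheme.Hom.opensRange_comp, Scheme.Opens.opensRange_ι]

/-- Generators on a cover by open subschemes make a module invertible. -/
theorem isInvertible_of_pullback_cover {L : X.Modules}
    (h : ∀ x : X, ∃ U : X.Opens, x ∈ U ∧ PicF.IsInvertible ((Scheme.Modules.pullback U.ι).obj L)) :
    PicF.IsInvertible L := by
  refine isInvertible_of_gen fun x => ?_
  obtain ⟨U, hxU, hU⟩ := h x
  obtain ⟨W, e, hxW, he⟩ := exists_gen hU ⟨x, hxU⟩
  let V : X.Opens := U.ι ''ᵁ W
  have hVr : V ≤ U.ι.opensRange := by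
    rw [Scheme.Opens.opensRange_ι]; exact U.ι_image_le W
  have hVpre : U.ι ⁻¹ᵁ V = W := U.ι.preimage_image_eq W
  have he' := he.res hVpre.le
  obtain ⟨e', he''⟩ := (H17.PullSect.bijective_pullSect U.ι L hVr).2
    (((Scheme.Modules.pullback U.ι).obj L).presheaf.map (homOfLE hVpre.le).op e)
  refine ⟨V, e', ⟨_, hxW, rfl⟩, isGen_of_bijective fun W' hW' => ?_⟩
  have hb := H17.PullSect.bijective_pullSect U.ι L (hW'.trans hVr)
  refine (Function.Bijective.of_comp_iff' hb _).1 ?_
  refine Eq.mpr (congrArg Function.Bijective (funext fun r => ?_))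
    ((he'.bijective (U.ι.preimage_mono hW')).comp (H17.PullSect.bijective_app_of_le U.ι (hW'.trans hVr)))
  change OmegaSh.pullSect U.ι L W' (r • L.presheaf.map (homOfLE hW').op e') = U.ι.app W' r • _
  rw [OmegaSh.pullSect_smul, pullSect_res, he'']

/-- Sections over an affine or quasi-affine locus of generation: ampleness criterion. -/
theorem isAmple_of_gen_isQuasiAffine [CompactSpace X] {L : X.Modules}
    (hL : PicF.IsInvertible L)
    (h : ∀ x : X, ∃ (k : ℕ) (s : Γ(CohB1.tensorPow L k, ⊤)), 0 < k ∧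
      x ∈ gen (CohB1.tensorPow L k) s ∧ (gen (CohB1.tensorPow L k) s).toScheme.IsQuasiAffine) :
    CohB1.IsAmple L := by
  haveI : QuasiSeparatedSpace X := by
    choose k s hk hxs hq using h
    refine QuasiSeparatedSpace.of_isOpenCover (U := fun x => gen (CohB1.tensorPow L (k x)) (s x))
      (IsOpenCover.mk (eq_top_iff.2 fun x _ => Opens.mem_iSup.2 ⟨x, hxs x⟩)) (fun x => ?_) (fun x => ?_)
    · intro W hWc hWo
      haveI := isAffineHom_gen_ι (isInvertible_tensorPow hL (k x)) (s x)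
      have h1 := ((gen (CohB1.tensorPow L (k x)) (s x)).ι.isCompact_preimage (U := ⟨W, hWo⟩) hWc).image
        (gen (CohB1.tensorPow L (k x)) (s x)).ι.continuous
      convert! h1 using 1
      ext y
      constructor
      · exact fun hy => ⟨⟨y, hy.1⟩, hy.2, rfl⟩
      · rintro ⟨y', hy', rfl⟩
        exact ⟨y'.2, hy'⟩
    · haveI := hq x
      exact (isQuasiSeparated_iff_quasiSeparatedSpace _ (gen (CohB1.tensorPow L (k x)) (s x)).isOpen).2
        (inferInstanceAs (QuasiSeparatedSpace (gen (CohB1.tensorPow L (k x)) (s x)).toScheme))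
  rw [isAmple_iff]
  refine ⟨hL, inferInstance, fun x => ?_⟩
  obtain ⟨k, s, hk, hxs, hq⟩ := h x
  let G := gen (CohB1.tensorPow L k) s
  obtain ⟨_, ⟨_, ⟨r, hr, rfl⟩, rfl⟩, hxr, -⟩ := (Scheme.IsQuasiAffine.isBasis_basicOpen G.toScheme
    ).exists_subset_of_mem_open (Set.mem_univ (⟨x, hxs⟩ : G)) isOpen_univ
  have hGpre : (⊤ : G.toScheme.Opens) ≤ G.ι ⁻¹ᵁ G := fun y _ => y.2
  obtain ⟨f, rfl⟩ : ∃ f : Γ(X, G), G.toScheme.presheaf.map (homOfLE hGpre).op (G.ι.app G f) = r := by
    haveI : IsIso (homOfLE hGpre) := homOfLE_isIso_of_eq _ (le_antisymm hGpre le_top)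
    exact ((ConcreteCategory.bijective_of_isIso (G.toScheme.presheaf.map (homOfLE hGpre).op)).comp
      (H17.PullSect.bijective_app_of_le G.ι (W := G) (by rw [Scheme.Opens.opensRange_ι]))).2 r
  obtain ⟨n, S, hS⟩ := exists_gen_eq_basicOpen hL k s f
  have e : G.ι ''ᵁ G.toScheme.basicOpen (G.toScheme.presheaf.map (homOfLE hGpre).op (G.ι.app G f)) =
      X.basicOpen f := by
    rw [Scheme.basicOpen_res, ← Scheme.preimage_basicOpen, top_inf_eq, Scheme.Hom.image_preimage_eq_opensRange_inf,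
      Scheme.Opens.opensRange_ι]
    exact inf_eq_right.2 (X.basicOpen_le f)
  refine ⟨(n + 1) * k, S, Nat.mul_pos n.succ_pos hk, ?_, ?_⟩ <;> rw [hS, ← e]
  · exact ⟨_, hxr, rfl⟩
  · exact hr.image_of_isOpenImmersion G.ι

/-- Ampleness is local for covers by loci of invertibility of global functions. -/
theorem isAmple_of_basicOpen_cover [CompactSpace X] {L : X.Modules}
    (h : ∀ x : X, ∃ f : Γ(X, ⊤), x ∈ X.basicOpen f ∧ AmpleOn L (X.basicOpen f)) : CohB1.IsAmple L := by
  haveI : QuasiSeparatedSpace X := by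
    choose f hxf hf using h
    refine QuasiSeparatedSpace.of_isOpenCover (U := fun x => X.basicOpen (f x))
      (IsOpenCover.mk (eq_top_iff.2 fun x _ => Opens.mem_iSup.2 ⟨x, hxf x⟩)) (fun x => isRetrocompact_basicOpen _)
      (fun x => ?_)
    haveI := quasiSeparatedSpace_of_isAmple (hf x)
    exact isQuasiSeparated_iff_quasiSeparatedSpace (X.basicOpen (f x) : Set X) (X.basicOpen (f x)).isOpen |>.2
      (inferInstanceAs (QuasiSeparatedSpace (X.basicOpen (f x)).toScheme))
  have hL : PicF.IsInvertible L := isInvertible_of_pullback_cover fun x => by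
    obtain ⟨f, hxf, hf⟩ := h x
    exact ⟨_, hxf, isInvertible_of_isAmple hf⟩
  rw [isAmple_iff]
  refine ⟨hL, inferInstance, fun x => ?_⟩
  obtain ⟨f, hxf, hf⟩ := h x
  let D := X.basicOpen f
  obtain ⟨-, -, hA⟩ := isAmple_iff.1 hf
  obtain ⟨k, s, hk, hxs, hs⟩ := hA ⟨x, hxf⟩
  let M := CohB1.tensorPow L k
  have hM : PicF.IsInvertible M := isInvertible_tensorPow hL k
  haveI : M.IsQuasicoherent := H28Mero.isQCoh_of_isInvertible hM
  obtain ⟨φ⟩ := exists_iso_pullback_tensorPow D.ι hL k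
  have hDpre : (⊤ : D.toScheme.Opens) ≤ D.ι ⁻¹ᵁ D := fun y _ => y.2
  obtain ⟨v, hv⟩ : ∃ v : Γ((Scheme.Modules.pullback D.ι).obj M, ⊤), φ.hom.app ⊤ v = s :=
    (ConcreteCategory.bijective_of_isIso (φ.hom.app ⊤)).2 s
  obtain ⟨u, hu⟩ := (H17.PullSect.bijective_pullSect D.ι M (W := D) (by rw [Scheme.Opens.opensRange_ι])).2
    (((Scheme.Modules.pullback D.ι).obj M).presheaf.map (homOfLE le_top).op v)
  obtain ⟨p, S, hS⟩ := H10Coh.exists_pow_smul_eq_res_of_isCompact M (W := ⊤) isCompact_univ f u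
  have hunit : IsUnit (D.ι.app D (X.presheaf.map (homOfLE (le_top : D ≤ ⊤)).op (f ^ (p + 1)))) := by
    rw [map_pow]
    exact ((X.toRingedSpace.isUnit_res_basicOpen f).pow _).map (D.ι.app D).hom
  obtain ⟨c, hc⟩ : ∃ c : Γ(D.toScheme, ⊤), c = D.toScheme.presheaf.map (homOfLE hDpre).op
      (D.ι.app D (X.presheaf.map (homOfLE (le_top : D ≤ ⊤)).op (f ^ (p + 1)))) := ⟨_, rfl⟩
  have key : pullTop D.ι (L := M) (f • S) = c • v := by
    have h1 : OmegaSh.pullSect D.ι M D (M.presheaf.map (homOfLE (le_top : D ≤ ⊤)).op (f • S)) =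
        D.ι.app D (X.presheaf.map (homOfLE (le_top : D ≤ ⊤)).op (f ^ (p + 1))) •
          ((Scheme.Modules.pullback D.ι).obj M).presheaf.map (homOfLE le_top).op v := by
      rw [Scheme.Modules.map_smul, hS, smul_smul, ← map_mul, ← pow_succ', OmegaSh.pullSect_smul, hu]
    rw [← pullTop_res] at h1
    have h2 := congrArg (((Scheme.Modules.pullback D.ι).obj M).presheaf.map (homOfLE hDpre).op) h1
    rw [Scheme.Modules.map_smul, H10Coh.mres_mres, H10Coh.mres_mres, H10Coh.mres_self, H10Coh.mres_self, ← hc] at h2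
    exact h2
  have hcu : IsUnit c := hc ▸ hunit.map (D.toScheme.presheaf.map (homOfLE hDpre).op).hom
  have e : D.ι ⁻¹ᵁ gen M (f • S) = gen _ s := by
    have h1 := gen_smul_pullSect D.ι hM (f • S) (isUnit_one (M := Γ(D.toScheme, ⊤)))
    rw [one_smul, key, gen_smul_of_isUnit (isInvertible_pullback D.ι hM) hcu] at h1
    rw [← h1, ← hv, gen_iso]
  have e' : gen M (f • S) = D.ι ''ᵁ gen _ s := by
    rw [← e, Scheme.Hom.image_preimage_eq_opensRange_inf, Scheme.Opens.opensRange_ι]
    exact (inf_eq_right.2 (gen_smul_le_basicOpen hM f S)).symm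
  exact ⟨k, f • S, hk, e'.ge ⟨_, hxs, rfl⟩, by rw [e']; exact hs.image_of_isOpenImmersion D.ι⟩

end Groth.Agent.H11Ample
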