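import Groth.Agent.H11Ample.Extend

/-!
# Ample invertible modules
-/

set_option autoImplicit false
set_option linter.style.haveILetI false

noncomputable section

universe u

open CategoryTheory CategoryTheory.Limits AlgebraicGeometry Opposite TopologicalSpace
open Groth.Agent.H11Tilde

namespace Groth.Agent.H11Ample

variable {X : Scheme.{u}} {L : X.Modules}

theorem val_homOfGlobal (g : Γ(L, ⊤)) : SecTwist.val (homOfGlobal L g) ⊤ = g := by
  change (1 : Γ(X, ⊤)) • L.presheaf.map (homOfLE le_top).op g = g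
  rw [one_smul, H10Coh.mres_self]

theorem isAmple_iff : CohB1.IsAmple L ↔ PicF.IsInvertible L ∧ CompactSpace X ∧
    ∀ x : X, ∃ (k : ℕ) (s : Γ(CohB1.tensorPow L k, ⊤)), 0 < k ∧
      x ∈ gen (CohB1.tensorPow L k) s ∧ IsAffineOpen (gen (CohB1.tensorPow L k) s) := by
  constructor
  · rintro ⟨hL, hX, h⟩
    refine ⟨hL, hX, fun x => ?_⟩
    obtain ⟨n, s, hx, hs⟩ := h x
    rw [genLocus_eq_gen] at hx hs
    exact ⟨n + 1, _, n.succ_pos, hx, hs⟩
  · rintro ⟨hL, hX, h⟩
    refine ⟨hL, hX, fun x => ?_⟩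
    obtain ⟨k, s, hk, hx, hs⟩ := h x
    obtain ⟨n, rfl⟩ := Nat.exists_eq_add_of_le' (Nat.one_le_iff_ne_zero.2 hk.ne')
    exact ⟨n, homOfGlobal _ s, hx, hs⟩

/-- Transport of a section of a power along an equality of exponents. -/
theorem exists_section_of_eq {a b : ℕ} (h : a = b) (s : Γ(CohB1.tensorPow L a, ⊤)) :
    ∃ t : Γ(CohB1.tensorPow L b, ⊤), gen (CohB1.tensorPow L b) t = gen (CohB1.tensorPow L a) s := by
  subst h; exact ⟨s, rfl⟩

/-- `1`, as a section of the structure module. -/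
abbrev one (V : X.Opens) : Γ(Coh.structureModule X, V) := (1 : Γ(X, V))

theorem one_res {U V : X.Opens} (h : V ≤ U) :
    (Coh.structureModule X).presheaf.map (homOfLE h).op (one U) = one V :=
  map_one (X.presheaf.map (homOfLE h).op).hom

theorem smul_one_eq {V : X.Opens} (r : Γ(X, V)) :
    r • one V = (show Γ(Coh.structureModule X, V) from r) := mul_one r

theorem isGen_one (V : X.Opens) : IsGen (Coh.structureModule X) (one V) :=
  isGen_of_bijective fun W hW => by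
    refine Eq.mpr (congrArg Function.Bijective (funext fun r => ?_)) Function.bijective_id
    rw [one_res hW]
    exact mul_one (r : Γ(X, W))

/-- `O ⊗ L^n ≅ L^n`, with `r ⊗ e^n ↦ r e^n`. -/
theorem exists_iso_unit (hL : PicF.IsInvertible L) (n : ℕ) :
    ∃ φ : CohB1.tensorMod (Coh.structureModule X) (CohB1.tensorPow L n) ≅ CohB1.tensorPow L n,
      ∀ (W : X.Opens) (e : Γ(L, W)) (r : Γ(X, W)), φ.hom.app W
        (tm (show Γ(Coh.structureModule X, W) from r) (spow e n)) = r • spow e n := by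
  let J := {p : Σ V : X.Opens, Γ(L, V) // IsGen L p.2}
  obtain ⟨φ, hφ⟩ := exists_iso_of_gen (fun j : J => j.1.1)
    (fun x => by obtain ⟨V, e, hx, he⟩ := exists_gen hL x; exact ⟨⟨⟨V, e⟩, he⟩, hx⟩)
    (fun j => tm (one j.1.1) (spow j.1.2 n)) (fun j => isGen_tm (isGen_one _) (isGen_spow j.2 n))
    (fun j => spow j.1.2 n) (fun j => isGen_spow j.2 n) fun i j u hu => by
      obtain ⟨a, ha⟩ := transition (ei := i.1.2) j.2
      rw [tm_res, tm_res, one_res, one_res, spow_res, spow_res, ha, spow_smul, tm_smul_right] at hu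
      have := ((isGen_tm (isGen_one _) (isGen_spow (j.2.res inf_le_right) n)).bijective le_rfl).1
        (a₁ := a ^ n) (a₂ := u) (by beta_reduce; rw [H10Coh.mres_self]; exact hu)
      rw [spow_res, spow_res, ha, spow_smul, this]
  refine ⟨φ, fun W e r => ?_⟩
  have e1 : tm (show Γ(Coh.structureModule X, W) from r) (spow e n) = r • tm (one W) (spow e n) := by
    rw [← tm_smul_left, smul_one_eq]
  rw [e1, Scheme.Modules.Hom.app_smul]
  congr 1
  refine eq_of_locally _ _ fun x hx => ?_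
  obtain ⟨V, f, hxV, hf⟩ := exists_gen hL x
  obtain ⟨c, hc⟩ := exists_coeff (hf.res (inf_le_right : W ⊓ V ≤ V)) (L.presheaf.map (homOfLE inf_le_left).op e)
  refine ⟨W ⊓ V, inf_le_left, ⟨hx, hxV⟩, ?_⟩
  rw [← app_map_apply, tm_res, one_res, spow_res, hc, spow_smul, tm_smul_right, Scheme.Modules.Hom.app_smul,
    ← one_res (inf_le_right : W ⊓ V ≤ V), ← spow_res, ← tm_res, app_map_apply]
  exact congrArg (fun z => c ^ n • (CohB1.tensorPow L n).presheaf.map _ z) (hφ ⟨⟨V, f⟩, hf⟩)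

/-- A function on `X_s` times a large power of `s` extends. -/
theorem exists_extend_fun [CompactSpace X] [QuasiSeparatedSpace X] (hL : PicF.IsInvertible L) (k : ℕ)
    (s : Γ(CohB1.tensorPow L k, ⊤)) (f : Γ(X, gen (CohB1.tensorPow L k) s)) :
    ∃ N, ∀ n, N ≤ n → ∃ S : Γ(CohB1.tensorPow L (n * k), ⊤),
      ∀ (W : X.Opens) (hW : W ≤ gen (CohB1.tensorPow L k) s) (e : Γ(L, W)) (c : Γ(X, W)),
        IsGen L e → (CohB1.tensorPow L k).presheaf.map (homOfLE (le_top : W ≤ ⊤)).op s = c • spow e k →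
        (CohB1.tensorPow L (n * k)).presheaf.map (homOfLE (le_top : W ≤ ⊤)).op S =
          (c ^ n * X.presheaf.map (homOfLE hW).op f) • spow e (n * k) := by
  let G := gen (CohB1.tensorPow L k) s
  let fsec : Γ(Coh.structureModule X, G) := f
  let oneP : Γ(CohB1.tensorPow L 0, G) := (1 : Γ(X, G))
  obtain ⟨N, hN⟩ := exists_extend (F := Coh.structureModule X) hL (H29Blow.isQCoh_structureModule X) k 0 s
    (tm fsec oneP)
  refine ⟨N, fun n hn => ?_⟩
  obtain ⟨S, hS⟩ := hN n hn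
  obtain ⟨φ, hφ⟩ := exists_iso_unit hL (0 + n * k)
  obtain ⟨S', hS'⟩ : ∃ S' : Γ(CohB1.tensorPow L (0 + n * k), ⊤), ∀ (W : X.Opens) (hW : W ≤ G) (e : Γ(L, W))
      (c : Γ(X, W)), IsGen L e →
      (CohB1.tensorPow L k).presheaf.map (homOfLE (le_top : W ≤ ⊤)).op s = c • spow e k →
      (CohB1.tensorPow L (0 + n * k)).presheaf.map (homOfLE (le_top : W ≤ ⊤)).op S' =
        (c ^ n * X.presheaf.map (homOfLE hW).op f) • spow e (0 + n * k) := by
    refine ⟨φ.hom.app ⊤ S, fun W hW e c he hs => ?_⟩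
    let fW : Γ(X, W) := X.presheaf.map (homOfLE hW).op f
    rw [← app_map_apply, hS W hW e (show Γ(Coh.structureModule X, W) from fW) c he ?_ hs]
    · exact hφ W e (c ^ n * fW)
    · rw [tm_res]
      congr 1
      exact map_one (X.presheaf.map (homOfLE hW).op).hom
  revert S' hS'
  rw [zero_add]
  exact fun S' hS' => ⟨S', hS'⟩

/-- Basic opens of loci of generation are loci of generation. -/
theorem exists_gen_eq_basicOpen [CompactSpace X] [QuasiSeparatedSpace X] (hL : PicF.IsInvertible L) (k : ℕ)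
    (s : Γ(CohB1.tensorPow L k, ⊤)) (f : Γ(X, gen (CohB1.tensorPow L k) s)) :
    ∃ (n : ℕ) (S : Γ(CohB1.tensorPow L ((n + 1) * k), ⊤)),
      gen (CohB1.tensorPow L ((n + 1) * k)) S = X.basicOpen f := by
  obtain ⟨N, hN⟩ := exists_extend_fun hL k s f
  obtain ⟨S, hS⟩ := hN N le_rfl
  obtain ⟨φ, -⟩ := exists_iso_add hL (N * k) k
  obtain ⟨T, hT⟩ := exists_section_of_eq (show N * k + k = (N + 1) * k by ring) (φ.hom.app ⊤ (tm S s))
  refine ⟨N, T, ?_⟩
  rw [hT, gen_iso, gen_tm (isInvertible_tensorPow hL _) (isInvertible_tensorPow hL _)]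
  have key : ∀ y, y ∈ gen (CohB1.tensorPow L k) s → (y ∈ gen (CohB1.tensorPow L (N * k)) S ↔ y ∈ X.basicOpen f) := by
    intro y hy
    obtain ⟨V, e, hyV, he⟩ := exists_gen hL y
    let W := gen (CohB1.tensorPow L k) s ⊓ V
    have hW : W ≤ gen (CohB1.tensorPow L k) s := inf_le_left
    have heW := he.res (inf_le_right : W ≤ V)
    have hyW : y ∈ W := ⟨hy, hyV⟩
    obtain ⟨c, hc⟩ := exists_coeff (isGen_spow heW k) ((CohB1.tensorPow L k).presheaf.map (homOfLE le_top).op s)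
    have hyc := (X.mem_basicOpen c y hyW).1 ((gen_inf_eq_basicOpen (isGen_spow heW k) s c hc).le ⟨hy, hyW⟩)
    have hS' := gen_inf_eq_basicOpen (isGen_spow heW (N * k)) S _ (hS W hW _ c heW hc)
    have e1 : y ∈ gen (CohB1.tensorPow L (N * k)) S ↔ y ∈ X.basicOpen (c ^ N * X.presheaf.map (homOfLE hW).op f) :=
      ⟨fun h => hS'.le ⟨h, hyW⟩, fun h => (hS'.ge h).1⟩
    rw [e1, Scheme.basicOpen_mul, Scheme.basicOpen_res]
    exact ⟨fun h => h.2.2, fun h => ⟨(X.mem_basicOpen _ y hyW).2 (by rw [map_pow]; exact hyc.pow N), hyW, h⟩⟩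
  ext y
  exact ⟨fun h => (key y h.2).1 h.1, fun h => ⟨(key y (X.basicOpen_le f h)).2 h, X.basicOpen_le f h⟩⟩

/-- For an ample module, affine loci of generation form a basis. -/
theorem exists_affine_gen_le [CompactSpace X] [QuasiSeparatedSpace X] (hA : CohB1.IsAmple L) {U : X.Opens} {x : X}
    (hx : x ∈ U) : ∃ (k : ℕ) (s : Γ(CohB1.tensorPow L k, ⊤)), 0 < k ∧ x ∈ gen (CohB1.tensorPow L k) s ∧
      gen (CohB1.tensorPow L k) s ≤ U ∧ IsAffineOpen (gen (CohB1.tensorPow L k) s) := by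
  obtain ⟨hL, -, h⟩ := isAmple_iff.1 hA
  obtain ⟨k, s, hk, hxs, hs⟩ := h x
  obtain ⟨f, hf, hxf⟩ := hs.exists_basicOpen_le (V := U) ⟨x, hx⟩ hxs
  obtain ⟨n, S, hS⟩ := exists_gen_eq_basicOpen hL k s f
  refine ⟨(n + 1) * k, S, Nat.mul_pos n.succ_pos hk, ?_, ?_, ?_⟩ <;> rw [hS]
  · exact hxf
  · exact hf
  · exact hs.basicOpen f

theorem isAmple_tensorPow_iff (hL : PicF.IsInvertible L) (n : ℕ) (hn : 0 < n) :
    CohB1.IsAmple L ↔ CohB1.IsAmple (CohB1.tensorPow L n) := by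
  rw [isAmple_iff, isAmple_iff]
  constructor
  · rintro ⟨-, hX, h⟩
    refine ⟨isInvertible_tensorPow hL n, hX, fun x => ?_⟩
    obtain ⟨k, s, hk, hx, hs⟩ := h x
    obtain ⟨φ, -⟩ := exists_iso_mul hL k n
    obtain ⟨ψ, -⟩ := exists_iso_mul hL n k
    obtain ⟨t, ht⟩ := exists_section_of_eq (mul_comm k n) (φ.hom.app ⊤ (spow s n))
    have e : gen _ (ψ.inv.app ⊤ t) = gen _ s := by
      rw [gen_iso, ht, gen_iso, gen_spow (isInvertible_tensorPow hL k) s n hn]
    exact ⟨k, ψ.inv.app ⊤ t, hk, by rw [e]; exact hx, by rw [e]; exact hs⟩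
  · rintro ⟨-, hX, h⟩
    refine ⟨hL, hX, fun x => ?_⟩
    obtain ⟨k, s, hk, hx, hs⟩ := h x
    obtain ⟨φ, -⟩ := exists_iso_mul hL n k
    exact ⟨n * k, φ.hom.app ⊤ s, Nat.mul_pos hn hk, by rw [gen_iso]; exact hx, by rw [gen_iso]; exact hs⟩

theorem isAmple_iff_basis [CompactSpace X] [QuasiSeparatedSpace X] (hL : PicF.IsInvertible L) :
    CohB1.IsAmple L ↔
      TopologicalSpace.IsTopologicalBasis
        {U : Set X | ∃ (n : ℕ) (s : Coh.structureModule X ⟶ CohB1.tensorPow L (n + 1)),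
          U = (CohB1.genLocus (CohB1.tensorPow L (n + 1)) s : Set X)} := by
  constructor
  · intro hA
    refine TopologicalSpace.isTopologicalBasis_of_isOpen_of_nhds ?_ ?_
    · rintro _ ⟨n, s, rfl⟩; exact (CohB1.genLocus _ s).isOpen
    · intro x U hx hU
      obtain ⟨k, s, hk, hxs, hsU, -⟩ := exists_affine_gen_le hA (U := ⟨U, hU⟩) hx
      obtain ⟨n, rfl⟩ := Nat.exists_eq_add_of_le' (Nat.one_le_iff_ne_zero.2 hk.ne')
      exact ⟨_, ⟨n, homOfGlobal _ s, rfl⟩, hxs, hsU⟩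
  · intro hB
    rw [isAmple_iff]
    refine ⟨hL, inferInstance, fun x => ?_⟩
    obtain ⟨V, e, hxV, he⟩ := exists_gen hL x
    obtain ⟨U, hU, hxU, hUV⟩ := exists_isAffineOpen_mem_and_subset (U := V) hxV
    obtain ⟨_, ⟨n, s, rfl⟩, hxs, hsU⟩ := hB.exists_subset_of_mem_open (show x ∈ (U : Set X) from hxU) U.isOpen
    rw [genLocus_eq_gen] at hxs hsU
    refine ⟨n + 1, _, n.succ_pos, hxs, ?_⟩
    have hle : gen (CohB1.tensorPow L (n + 1)) (SecTwist.val s ⊤) ≤ U := hsU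
    have haff := isAffineOpen_gen_inf (L := CohB1.tensorPow L (n + 1)) (V := U) hU
      (isGen_spow (he.res (show U ≤ V from hUV)) (n + 1)) (SecTwist.val s ⊤)
    exact (inf_eq_left.2 hle) ▸ haff

/-! ### One section for finitely many points -/

theorem exists_maximal_special {Z : Finset X} {z : X} (hz : z ∈ Z) :
    ∃ w ∈ Z, z ⤳ w ∧ ∀ v ∈ Z, w ⤳ v → v ⤳ w := by
  classical
  induction' hn : (Z.filter fun v => z ⤳ v).card using Nat.strong_induction_on with n ih generalizing z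
  by_cases h : ∀ v ∈ Z, z ⤳ v → v ⤳ z
  · exact ⟨z, hz, specializes_rfl, h⟩
  push Not at h
  obtain ⟨v, hv, hzv, hvz⟩ := h
  have hlt : (Z.filter fun u => v ⤳ u).card < n := by
    rw [← hn]
    refine Finset.card_lt_card ((Finset.ssubset_iff_of_subset ?_).2
      ⟨z, Finset.mem_filter.2 ⟨hz, specializes_rfl⟩, fun h' => hvz (Finset.mem_filter.1 h').2⟩)
    intro u
    simp only [Finset.mem_filter]
    exact fun hu => ⟨hu.1, hzv.trans hu.2⟩
  obtain ⟨w, hw, hvw, hmax⟩ := ih _ hlt hv rfl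
  exact ⟨w, hw, hzv.trans hvw, hmax⟩

theorem exists_affine_gen_nhd_finite [CompactSpace X] [QuasiSeparatedSpace X] (hA : CohB1.IsAmple L) {Z : Set X}
    (hZ : Z.Finite) {U : X.Opens} (hZU : Z ⊆ U) :
    ∃ (k : ℕ) (s : Γ(CohB1.tensorPow L k, ⊤)), 0 < k ∧ Z ⊆ gen (CohB1.tensorPow L k) s ∧
      gen (CohB1.tensorPow L k) s ≤ U ∧ IsAffineOpen (gen (CohB1.tensorPow L k) s) := by
  classical
  obtain ⟨hL, -, -⟩ := isAmple_iff.1 hA
  let Z₀ := hZ.toFinset
  let T := {w : X // w ∈ Z₀ ∧ ∀ v ∈ Z₀, w ⤳ v → v ⤳ w}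
  haveI : Finite T := Finite.of_injective (fun w : T => (⟨w.1, w.2.1⟩ : Z₀))
    fun a b h => Subtype.ext (congrArg (fun q : Z₀ => q.1) h)
  haveI : Fintype T := Fintype.ofFinite T
  -- avoid the closures of the other maximal points
  let A : T → X.Opens := fun w => U ⊓ ⟨⋂ v ∈ {v : T | v.1 ≠ w.1}, (closure {v.1})ᶜ,
    Set.Finite.isOpen_biInter (Set.toFinite _) fun v _ => isClosed_closure.isOpen_compl⟩
  have hA' : ∀ w : T, w.1 ∈ A w := fun w => by
    refine ⟨hZU (hZ.mem_toFinset.1 w.2.1), Set.mem_iInter₂.2 fun v hv hmem => hv ?_⟩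
    have hvw : v.1 ⤳ w.1 := specializes_iff_mem_closure.2 hmem
    exact (hvw.antisymm (v.2.2 w.1 w.2.1 hvw)).eq
  choose k s hk hxs hsA hs using fun w : T => exists_affine_gen_le hA (hA' w)
  let K := ∏ w, k w
  have hK : 0 < K := Finset.prod_pos fun w _ => hk w
  have hdiv : ∀ w, ∃ (t : Γ(CohB1.tensorPow L K, ⊤)), gen _ t = gen _ (s w) := fun w => by
    obtain ⟨d, hd⟩ : k w ∣ K := Finset.dvd_prod_of_mem k (Finset.mem_univ w)
    obtain ⟨φ, -⟩ := exists_iso_mul hL (k w) d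
    obtain ⟨t, ht⟩ := exists_section_of_eq hd.symm (φ.hom.app ⊤ (spow (s w) d))
    refine ⟨t, ?_⟩
    rw [ht, gen_iso, gen_spow (isInvertible_tensorPow hL _) _ d (Nat.pos_of_mul_pos_left (hd ▸ hK))]
  choose t ht using hdiv
  let σ : Γ(CohB1.tensorPow L K, ⊤) := ∑ w, t w
  let LK := CohB1.tensorPow L K
  have hLK : PicF.IsInvertible LK := isInvertible_tensorPow hL K
  -- coefficients
  have coeff : ∀ (y : X) (V : X.Opens) (e : Γ(LK, V)) (hyV : y ∈ V), IsGen LK e → ∃ c : T → Γ(X, V),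
      (∀ w, IsUnit (X.presheaf.germ V y hyV (c w)) ↔ y ∈ gen LK (t w)) ∧
      (IsUnit (∑ w, X.presheaf.germ V y hyV (c w)) ↔ y ∈ gen LK σ) := by
    intro y V e hyV he
    choose c hc using fun w => exists_coeff he (LK.presheaf.map (homOfLE le_top).op (t w))
    have hsum : LK.presheaf.map (homOfLE (le_top : V ≤ ⊤)).op σ = (∑ w, c w) • e := by
      rw [Finset.sum_smul]
      exact (map_sum _ _ _).trans (Finset.sum_congr rfl fun w _ => hc w)
    refine ⟨c, fun w => ⟨fun h => ((gen_inf_eq_basicOpen he (t w) (c w) (hc w)).ge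
        ((X.mem_basicOpen _ y hyV).2 h)).1,
      fun h => (X.mem_basicOpen _ y hyV).1 ((gen_inf_eq_basicOpen he (t w) (c w) (hc w)).le ⟨h, hyV⟩)⟩, ?_⟩
    rw [← map_sum]
    exact ⟨fun h => ((gen_inf_eq_basicOpen he σ _ hsum).ge ((X.mem_basicOpen _ y hyV).2 h)).1,
      fun h => (X.mem_basicOpen _ y hyV).1 ((gen_inf_eq_basicOpen he σ _ hsum).le ⟨h, hyV⟩)⟩
  have hσU : ∀ y ∈ gen LK σ, ∃ w, y ∈ gen LK (t w) := by
    intro y hy
    obtain ⟨V, e, hyV, he⟩ := exists_gen hLK y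
    obtain ⟨c, hct, hcσ⟩ := coeff y V e hyV he
    by_contra hne
    push Not at hne
    exact (IsLocalRing.mem_maximalIdeal _).1
      (Ideal.sum_mem _ fun w _ => (IsLocalRing.mem_maximalIdeal _).2 fun hw => hne w ((hct w).1 hw)) (hcσ.2 hy)
  have hTmem : ∀ w : T, w.1 ∈ gen LK σ := by
    intro w
    obtain ⟨V, e, hyV, he⟩ := exists_gen hLK w.1
    obtain ⟨c, hct, hcσ⟩ := coeff w.1 V e hyV he
    refine hcσ.1 ?_
    rw [← Finset.add_sum_erase _ _ (Finset.mem_univ w)]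
    have h1 : IsUnit (X.presheaf.germ V w.1 hyV (c w)) := (hct w).2 (by rw [ht w]; exact hxs w)
    have h2 : ∑ v ∈ Finset.univ.erase w, X.presheaf.germ V w.1 hyV (c v) ∈
        IsLocalRing.maximalIdeal (X.presheaf.stalk w.1) := by
      refine Ideal.sum_mem _ fun v hv => (IsLocalRing.mem_maximalIdeal _).2 fun hu => ?_
      have h3 := (hct v).1 hu
      rw [ht v] at h3
      have h4 := Set.mem_iInter₂.1 (hsA v h3).2 w (fun e' => (Finset.ne_of_mem_erase hv) (Subtype.ext e').symm)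
      exact h4 (subset_closure rfl)
    by_contra hne
    refine (IsLocalRing.mem_maximalIdeal _).1 ?_ h1
    have := Ideal.sub_mem _ ((IsLocalRing.mem_maximalIdeal _).2 hne) h2
    rwa [add_sub_cancel_right] at this
  refine ⟨K, σ, hK, fun z hz => ?_, fun y hy => ?_, ?_⟩
  · obtain ⟨w, hw, hzw, hmax⟩ := exists_maximal_special (hZ.mem_toFinset.2 hz)
    exact hzw.mem_open (gen LK σ).isOpen (hTmem ⟨w, hw, hmax⟩)
  · obtain ⟨w, hw⟩ := hσU y hy
    rw [ht w] at hw
    exact (hsA w hw).1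
  · -- affineness
    let W := gen LK σ
    have hσW := isGen_gen (L := LK) σ
    choose a ha using fun w => exists_coeff hσW (LK.presheaf.map (homOfLE le_top).op (t w))
    have hD : ∀ w, gen LK (t w) ⊓ W = X.basicOpen (a w) := fun w => gen_inf_eq_basicOpen hσW (t w) (a w) (ha w)
    refine isAffineOpen_of_isAffineOpen_basicOpen W (Set.range a) ?_ ?_
    · rw [Ideal.eq_top_iff_one]
      have h1 : ∑ w, a w = 1 := (hσW.bijective le_rfl).1 (by
        beta_reduce
        rw [H10Coh.mres_self, one_smul, Finset.sum_smul]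
        exact (Finset.sum_congr rfl fun w _ => (ha w).symm).trans (map_sum _ _ _).symm)
      rw [← h1]
      exact Ideal.sum_mem _ fun w _ => Ideal.subset_span ⟨w, rfl⟩
    · rintro _ ⟨w, rfl⟩
      rw [← hD w, inf_comm]
      exact isAffineOpen_gen_inf (V := gen LK (t w)) (by rw [ht w]; exact hs w) (isGen_gen (L := LK) (t w)) σ

end Groth.Agent.H11Ample
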