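import Groth.Agent.H11Ample.RelPullback
import Groth.Agent.H11Ample.Converse
import Groth.Agent.H27Weil.Geometry
import Groth.Prelude.Def_RelProj

/-!
# H-quasi-projective morphisms are quasi-projective
-/

set_option autoImplicit false
set_option linter.style.haveILetI false

noncomputable section

universe u

open CategoryTheory CategoryTheory.Limits AlgebraicGeometry Opposite TopologicalSpace
open Groth.Agent.H11Tilde

namespace Groth.Agent.H11Ample

variable {X S : Scheme.{u}}

/-- `O(1)` on `P^n_S` is relatively ample over `S`. -/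
theorem isRelAmple_twistOver (n : ℕ) (S : Scheme.{u}) :
    RelAmple.IsRelAmple (CohB1.ProjSpaceOver.toBase n S) (Twist.twistOver n S 1) := by
  haveI := compactSpace_projSpace n (ULift.{u} ℤ)
  haveI : QuasiCompact (CohB1.ProjSpace.toSpec n (ULift.{u} ℤ)) := inferInstance
  have h : RelAmple.IsRelAmple (CohB1.ProjSpace.toSpec n (ULift.{u} ℤ)) (Twist.twistProjSpace n (ULift.{u} ℤ) 1) :=
    (isRelAmple_iff_isAmple_of_isAffine).2 (isAmple_twistProjSpace n _)
  exact isRelAmple_baseChange _ (specULiftZIsTerminal.from S) h

theorem isQuasiProjective_of_isHQuasiProjective {f : X ⟶ S} (h : RelProj.IsHQuasiProjective f) :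
    RelProj.IsQuasiProjective f := by
  obtain ⟨n, i, hi, hq, rfl⟩ := h
  haveI := hi
  haveI := hq
  haveI : IsProper (CohB1.ProjSpaceOver.toBase n S) := Groth.Agent.H27Weil.isProper_toBase n S
  refine ⟨inferInstance, inferInstance, (Scheme.Modules.pullback i).obj (Twist.twistOver n S 1),
    isRelAmple_pullback_of_isQuasiAffine (isQuasiAffineHom_of_isEmbedding i i.isEmbedding)
      (isRelAmple_twistOver n S)⟩

theorem isHQuasiProjective_of_isHProjective {f : X ⟶ S} (h : RelProj.IsHProjective f) :
    RelProj.IsHQuasiProjective f := by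
  obtain ⟨n, i, hi, e⟩ := h
  exact ⟨n, i, inferInstance, inferInstance, e⟩

end Groth.Agent.H11Ample
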