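import Groth.Agent.H11Ample.VeryAmple
import Groth.Agent.H11Ample.RelPullback

/-!
# Immersions into projective space over an arbitrary base
-/

set_option autoImplicit false
set_option linter.style.haveILetI false

noncomputable section

universe u

open CategoryTheory CategoryTheory.Limits AlgebraicGeometry Opposite TopologicalSpace CohB1
open Groth.Agent.H11Tilde

namespace Groth.Agent.H11Ample

variable {X Y : Scheme.{u}} {L : X.Modules}

/-- Sections whose loci of generation are affine and generate their rings of functions give an immersion into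
projective space. -/
theorem exists_immersion_of_sections (q : X ⟶ Y) (hL : PicF.IsInvertible L) {n : ℕ}
    (v : Fin (n + 1) → Γ(L, ⊤)) (J : Set (Fin (n + 1))) (hJ : ∀ x, ∃ j ∈ J, x ∈ gen L (v j))
    (B : Fin (n + 1) → Y.Opens) (hB : ∀ j ∈ J, IsAffineOpen (B j)) (hle : ∀ j ∈ J, gen L (v j) ≤ q ⁻¹ᵁ B j)
    (haff : ∀ j ∈ J, IsAffineOpen (gen L (v j)))
    (hgen : ∀ (j) (hj : j ∈ J), Subring.closure (Set.range (q.appLE (B j) (gen L (v j)) (hle j hj)) ∪
      {c | ∃ l, L.presheaf.map (homOfLE (le_top : gen L (v j) ≤ ⊤)).op (v l) =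
        c • L.presheaf.map (homOfLE (le_top : gen L (v j) ≤ ⊤)).op (v j)}) = ⊤) :
    ∃ (n : ℕ) (i : X ⟶ ProjSpaceOver n Y), IsImmersion i ∧ i ≫ ProjSpaceOver.toBase n Y = q := by
  obtain ⟨r, -, ⟨τ⟩, hpre, hratio⟩ := exists_toPn (R := ULift.{u} ℤ) (specULiftZIsTerminal.from X) hL v
    fun x => (hJ x).imp fun _ h => h.2
  let t := specULiftZIsTerminal.from Y
  let p₁ := pullback.fst (ProjSpace.toSpec n (ULift.{u} ℤ)) t
  let p₂ := pullback.snd (ProjSpace.toSpec n (ULift.{u} ℤ)) t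
  let i : X ⟶ ProjSpaceOver n Y := pullback.lift r q (specULiftZIsTerminal.hom_ext _ _)
  have h₁ : i ≫ p₁ = r := pullback.lift_fst _ _ _
  have h₂ : i ≫ p₂ = q := pullback.lift_snd _ _ _
  let W : J → (ProjSpaceOver n Y).Opens := fun j =>
    p₁ ⁻¹ᵁ Proj.basicOpen (polyGrading n (ULift.{u} ℤ)) (MvPolynomial.X j.1) ⊓ p₂ ⁻¹ᵁ B j.1
  have hWpre : ∀ j, i ⁻¹ᵁ W j = gen L (v j.1) := fun j => by
    have e : i ⁻¹ᵁ W j = r ⁻¹ᵁ Proj.basicOpen (polyGrading n (ULift.{u} ℤ)) (MvPolynomial.X j.1) ⊓ q ⁻¹ᵁ B j.1 := by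
      rw [← h₁, ← h₂]
      rfl
    rw [e, hpre j.1, inf_eq_left.2 (hle j.1 j.2)]
  have hWaff : ∀ j, IsAffineOpen (W j) := fun j =>
    isAffineOpen_fst_inf_snd _ _ (isAffineOpen_top _)
      (Proj.isAffineOpen_basicOpen (polyGrading n (ULift.{u} ℤ)) _ (X_mem j.1) one_pos) le_top (hB j.1 j.2) le_top
  have hclosed : ∀ j, IsClosedImmersion (i ∣_ W j) := fun j => by
    refine isClosedImmersion_morphismRestrict (hWaff j) ((hWpre j).symm ▸ haff j.1 j.2) ?_
    let G := gen L (v j.1)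
    suffices h : Function.Surjective (i.appLE (W j) G (hWpre j).ge) by
      intro b
      obtain ⟨a, ha⟩ := h (X.presheaf.map (homOfLE (hWpre j).ge).op b)
      haveI : IsIso (homOfLE (hWpre j).ge) := homOfLE_isIso_of_eq _ (hWpre j).symm
      exact ⟨a, (ConcreteCategory.bijective_of_isIso (X.presheaf.map (homOfLE (hWpre j).ge).op)).1 ha⟩
    intro b
    have hb : b ∈ (i.appLE (W j) G (hWpre j).ge).hom.range := by
      refine (Subring.closure_le.2 ?_) ((hgen j.1 j.2).ge (Subring.mem_top b))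
      rintro c (⟨a, rfl⟩ | ⟨l, hl⟩)
      · refine ⟨p₂.appLE (B j.1) (W j) inf_le_right a, ?_⟩
        have e := Scheme.Hom.appLE_comp_appLE i p₂ (B j.1) (W j) G inf_le_right (hWpre j).ge
        simp only [h₂] at e
        exact congr($e a)
      · let D := Proj.basicOpen (polyGrading n (ULift.{u} ℤ)) (MvPolynomial.X j.1)
        obtain ⟨ρ, hρ⟩ := hratio j.1 l
        refine ⟨p₁.appLE D (W j) inf_le_left ρ, ?_⟩
        have hle : G ≤ r ⁻¹ᵁ D := (hpre j.1).ge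
        have h3 := congrArg (L.presheaf.map (homOfLE hle).op) hρ
        rw [H10Coh.mres_mres, Scheme.Modules.map_smul, H10Coh.mres_mres, hl] at h3
        have h4 := ((isGen_gen (v j.1)).bijective le_rfl).1
          (a₁ := c) (a₂ := X.presheaf.map (homOfLE hle).op (r.app D ρ))
          (by beta_reduce; rw [H10Coh.mres_self]; exact h3)
        rw [h4]
        have e := Scheme.Hom.appLE_comp_appLE i p₁ D (W j) G inf_le_left (hWpre j).ge
        simp only [h₁] at e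
        refine Eq.trans (congr($e ρ)) ?_
        rfl
    obtain ⟨a, ha⟩ := hb
    exact ⟨a, ha⟩
  refine ⟨n, i, ?_, h₂⟩
  haveI : MorphismProperty.RespectsRight (C := Scheme.{u}) @IsImmersion @IsOpenImmersion :=
    ⟨fun i hi f hf => by
      haveI : IsOpenImmersion i := hi
      haveI : IsImmersion f := hf
      exact inferInstanceAs (IsImmersion (f ≫ i))⟩
  refine IsZariskiLocalAtTarget.of_range_subset_iSup (P := @IsImmersion) W ?_ fun j => ?_
  · rintro _ ⟨x, rfl⟩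
    obtain ⟨j, hj, hx⟩ := hJ x
    exact Opens.mem_iSup.2 ⟨⟨j, hj⟩, (hWpre ⟨j, hj⟩).ge hx⟩
  · haveI := hclosed j
    infer_instance

theorem exists_immersion_projSpaceOver (q : X ⟶ Y) [LocallyOfFiniteType q] [CompactSpace X]
    [QuasiSeparatedSpace X] (hA : CohB1.IsAmple L) :
    ∃ (n : ℕ) (i : X ⟶ CohB1.ProjSpaceOver n Y), IsImmersion i ∧ i ≫ CohB1.ProjSpaceOver.toBase n Y = q := by
  classical
  obtain ⟨hL, -, -⟩ := isAmple_iff.1 hA
  have loc : ∀ x : X, ∃ (k : ℕ) (s : Γ(CohB1.tensorPow L k, ⊤)) (e : Γ(L, gen (CohB1.tensorPow L k) s)),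
      0 < k ∧ x ∈ gen (CohB1.tensorPow L k) s ∧ IsAffineOpen (gen (CohB1.tensorPow L k) s) ∧ IsGen L e ∧
        ∃ B : Y.Opens, IsAffineOpen B ∧ gen (CohB1.tensorPow L k) s ≤ q ⁻¹ᵁ B := fun x => by
    obtain ⟨V, e, hxV, he⟩ := exists_gen hL x
    obtain ⟨B, hB, hxB⟩ := exists_isAffineOpen_mem (q x)
    obtain ⟨k, s, hk, hxs, hsV, hs⟩ := exists_affine_gen_le hA (U := V ⊓ q ⁻¹ᵁ B) ⟨hxV, hxB⟩
    exact ⟨k, s, _, hk, hxs, hs, he.res (hsV.trans inf_le_left), B, hB, hsV.trans inf_le_right⟩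
  choose k s e hk hxs hs he B hB hsB using loc
  choose c hc using fun x => exists_coeff (isGen_spow (he x) (k x))
    ((CohB1.tensorPow L (k x)).presheaf.map (homOfLE (le_top : gen (CohB1.tensorPow L (k x)) (s x) ≤ ⊤)).op (s x))
  obtain ⟨T, hT⟩ := CompactSpace.elim_nhds_subcover (fun x => (gen (CohB1.tensorPow L (k x)) (s x) : Set X))
    (fun x => (gen _ (s x)).isOpen.mem_nhds (hxs x))
  have hfg : ∀ x : X, ∃ A : Finset Γ(X, gen (CohB1.tensorPow L (k x)) (s x)), Subring.closure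
      (Set.range (q.appLE (B x) (gen (CohB1.tensorPow L (k x)) (s x)) (hsB x)) ∪ (A : Set _)) = ⊤ := fun x => by
    let f := (q.appLE (B x) (gen (CohB1.tensorPow L (k x)) (s x)) (hsB x)).hom
    have hf : f.FiniteType := q.finiteType_appLE (hB x) (hs x) (hsB x)
    letI := f.toAlgebra
    obtain ⟨A, hA'⟩ := (@Algebra.FiniteType.out Γ(Y, B x) Γ(X, gen (CohB1.tensorPow L (k x)) (s x)) _ _ f.toAlgebra hf)
    refine ⟨A, ?_⟩
    have := congrArg Subalgebra.toSubring hA'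
    rwa [Algebra.adjoin_eq_ring_closure] at this
  choose A hA' using hfg
  let I : Type u := Σ x : {x // x ∈ T}, Option {a // a ∈ A x.1}
  haveI : Fintype I := Fintype.ofFinite I
  obtain ⟨fn, fn_def⟩ : ∃ fn : ∀ i : I, Γ(X, gen (CohB1.tensorPow L (k i.1.1)) (s i.1.1)),
      (∀ x, fn ⟨x, none⟩ = 1) ∧ ∀ x a, fn ⟨x, some a⟩ = a.1 :=
    ⟨fun i => (i.2.map Subtype.val).getD 1, fun _ => rfl, fun _ _ => rfl⟩
  choose N hN using fun i : I => exists_extend_deg hL (hk i.1.1) (s i.1.1) (he i.1.1) (hc i.1.1) (fn i)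
  let m := Finset.univ.sup N
  have hm : Finset.univ.sup N ≤ m := le_rfl
  clear_value m
  choose t htle ht using fun i : I => hN i m ((Finset.le_sup (Finset.mem_univ i)).trans hm)
  obtain ⟨n, σ⟩ : ∃ n : ℕ, Nonempty (Option I ≃ Fin (n + 1)) :=
    ⟨Fintype.card I, ⟨Fintype.equivFinOfCardEq Fintype.card_option⟩⟩
  obtain ⟨σ⟩ := σ
  obtain ⟨v, hv⟩ : ∃ v : Fin (n + 1) → Γ(CohB1.tensorPow L m, ⊤), ∀ i, v (σ (some i)) = t i :=
    ⟨fun l => ((σ.symm l).map t).getD 0, fun i => by simp⟩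
  have hG : ∀ x : {x // x ∈ T}, gen (CohB1.tensorPow L m) (t ⟨x, none⟩) = gen (CohB1.tensorPow L (k x.1)) (s x.1) := by
    intro x
    refine le_antisymm (htle _) fun y hy => ?_
    refine ((gen_inf_eq_basicOpen (isGen_spow (he x.1) m) _ _ (ht ⟨x, none⟩)).ge ?_).1
    rw [Scheme.basicOpen_of_isUnit X (by rw [fn_def.1, mul_one]; exact (isUnit_coeff_gen _ (he x.1) (hc x.1)).pow _)]
    exact hy
  obtain ⟨B', hB'⟩ : ∃ B' : Fin (n + 1) → Y.Opens, ∀ i, B' (σ (some i)) = B i.1.1 :=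
    ⟨fun l => ((σ.symm l).map fun i => B i.1.1).getD ⊤, fun i => by simp⟩
  refine exists_immersion_of_sections q (isInvertible_tensorPow hL m) v
    {l | ∃ x : {x // x ∈ T}, l = σ (some ⟨x, none⟩)} (fun y => ?_) B' ?_ ?_ ?_ ?_
  · obtain ⟨x, hx, hyx⟩ := Set.mem_iUnion₂.1 (hT.ge (Set.mem_univ y))
    exact ⟨_, ⟨⟨x, hx⟩, rfl⟩, by rw [hv, hG]; exact hyx⟩
  · rintro l ⟨x, rfl⟩
    rw [hB']
    exact hB x.1
  · rintro l ⟨x, rfl⟩
    rw [hv, hG, hB']
    exact hsB x.1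
  · rintro l ⟨x, rfl⟩
    rw [hv, hG]
    exact hs x.1
  · rintro l ⟨x, rfl⟩
    obtain ⟨u, hu⟩ : ∃ u, v (σ (some ⟨x, none⟩)) = u := ⟨_, rfl⟩
    have hu' : gen (CohB1.tensorPow L m) u = gen (CohB1.tensorPow L (k x.1)) (s x.1) := by rw [← hu, hv, hG]
    have hu'' : (CohB1.tensorPow L m).presheaf.map
        (homOfLE (le_top : gen (CohB1.tensorPow L (k x.1)) (s x.1) ≤ ⊤)).op u =
          c x.1 ^ (m / k x.1) • spow (e x.1) m := by
      rw [← hu, hv]
      exact (ht ⟨x, none⟩).trans (by rw [fn_def.1, mul_one])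
    suffices h : ∀ (G : X.Opens) (B₀ : Y.Opens) (hG₀ : G ≤ q ⁻¹ᵁ B₀),
        G = gen (CohB1.tensorPow L (k x.1)) (s x.1) → B₀ = B x.1 →
        Subring.closure (Set.range (q.appLE B₀ G hG₀) ∪
          {d | ∃ l, (CohB1.tensorPow L m).presheaf.map (homOfLE (le_top : G ≤ ⊤)).op (v l) =
            d • (CohB1.tensorPow L m).presheaf.map (homOfLE (le_top : G ≤ ⊤)).op u}) = ⊤ by
      subst hu
      exact h _ _ _ hu' (hB' _)
    rintro G B₀ hG₀ rfl rfl
    rw [eq_top_iff, ← hA' x.1]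
    refine Subring.closure_mono (Set.union_subset_union_right _ fun a ha => ?_)
    refine ⟨σ (some ⟨x, some ⟨a, ha⟩⟩), ?_⟩
    rw [hv, hu'', smul_smul, mul_comm]
    exact (ht ⟨x, some ⟨a, ha⟩⟩).trans (by rw [fn_def.2])

end Groth.Agent.H11Ample
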