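import Groth.Agent.H11Ample.Basic
import Groth.Agent.H10Coh.Local
import Groth.Agent.H28Mero.Gen

/-!
# Sections over `X_s` extend after multiplication by powers of `s`
-/

set_option autoImplicit false
set_option linter.style.haveILetI false

noncomputable section

universe u

open CategoryTheory CategoryTheory.Limits AlgebraicGeometry Opposite TopologicalSpace
open Groth.Agent.H11Tilde
open scoped TensorProduct

namespace Groth.Agent.H11Ample

variable {X : Scheme.{u}} {L F : X.Modules}

theorem bijective_tm_stalk {V : X.Opens} {e : Γ(L, V)} (he : IsGen L e) {y : X} (hy : y ∈ V) :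
    Function.Bijective fun a : F.presheaf.stalk y =>
      H16Derived.KFlat.Stalk.pair F L y a (L.presheaf.germ V y hy e) := by
  let O := X.presheaf.stalk y
  let eL : O ≃ₗ[O] L.presheaf.stalk y := LinearEquiv.ofBijective (LinearMap.toSpanSingleton O _ _) (he y hy)
  let η : F.presheaf.stalk y ≃ₗ[O] F.presheaf.stalk y ⊗[O] L.presheaf.stalk y :=
    (TensorProduct.rid O (F.presheaf.stalk y)).symm ≪≫ₗ TensorProduct.congr (LinearEquiv.refl O _) eL
  refine Eq.mpr (congrArg Function.Bijective (funext fun a => ?_))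
    ((H16Derived.KFlat.Stalk.stalkEquiv F L y).bijective.comp η.bijective)
  change _ = H16Derived.KFlat.Stalk.toStalk F L y (a ⊗ₜ[O] ((1 : O) • L.presheaf.germ V y hy e))
  rw [one_smul, H16Derived.KFlat.Stalk.toStalk_tmul]

/-- Tensoring with a generator is bijective on sections. -/
theorem bijective_tm {V : X.Opens} {e : Γ(L, V)} (he : IsGen L e) {W : X.Opens} (hW : W ≤ V) :
    Function.Bijective fun m : Γ(F, W) => tm m (L.presheaf.map (homOfLE hW).op e) := by
  have he' := he.res hW
  generalize L.presheaf.map (homOfLE hW).op e = g at he'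
  have hgerm : ∀ {T : X.Opens} (hT : T ≤ W) (m : Γ(F, T)) (y : X) (hy : y ∈ T),
      (CohB1.tensorMod F L).presheaf.germ T y hy (tm m (L.presheaf.map (homOfLE hT).op g)) =
        H16Derived.KFlat.Stalk.pair F L y (F.presheaf.germ T y hy m) (L.presheaf.germ W y (hT hy) g) := by
    intro T hT m y hy
    rw [← TopCat.Presheaf.germ_res_apply L.presheaf (homOfLE hT) y hy g, H16Derived.KFlat.Stalk.pair_germ]
    rfl
  have hinj : ∀ {T : X.Opens} (hT : T ≤ W) (m m' : Γ(F, T)),
      tm m (L.presheaf.map (homOfLE hT).op g) = tm m' (L.presheaf.map (homOfLE hT).op g) → m = m' := by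
    intro T hT m m' hmm
    refine TopCat.Presheaf.section_ext ⟨F.presheaf, F.isSheaf⟩ T m m' fun y hy => ?_
    refine (bijective_tm_stalk (F := F) he' (hT hy)).1 ?_
    beta_reduce
    have := congrArg ((CohB1.tensorMod F L).presheaf.germ T y hy) hmm
    rwa [hgerm hT m y hy, hgerm hT m' y hy] at this
  refine ⟨fun m m' h => hinj le_rfl m m' (by beta_reduce at h; rwa [H10Coh.mres_self]), fun t => ?_⟩
  have loc : ∀ y : W, ∃ (T : X.Opens) (hT : T ≤ W) (m : Γ(F, T)), y.1 ∈ T ∧
      tm m (L.presheaf.map (homOfLE hT).op g) = (CohB1.tensorMod F L).presheaf.map (homOfLE hT).op t := fun y => by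
    obtain ⟨a, ha⟩ := (bijective_tm_stalk (F := F) he' y.2).2 ((CohB1.tensorMod F L).presheaf.germ W y.1 y.2 t)
    obtain ⟨T₀, hyT₀, m, rfl⟩ := F.presheaf.exists_germ_eq a
    have hc' : (CohB1.tensorMod F L).presheaf.germ (T₀ ⊓ W) y.1 ⟨hyT₀, y.2⟩
        (tm (F.presheaf.map (homOfLE (inf_le_left : T₀ ⊓ W ≤ T₀)).op m)
          (L.presheaf.map (homOfLE (inf_le_right : T₀ ⊓ W ≤ W)).op g)) =
        (CohB1.tensorMod F L).presheaf.germ (T₀ ⊓ W) y.1 ⟨hyT₀, y.2⟩
          ((CohB1.tensorMod F L).presheaf.map (homOfLE (inf_le_right : T₀ ⊓ W ≤ W)).op t) := by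
      rw [hgerm inf_le_right, TopCat.Presheaf.germ_res_apply, TopCat.Presheaf.germ_res_apply]
      exact ha
    obtain ⟨T, hyT, i, j, hT⟩ := (CohB1.tensorMod F L).presheaf.germ_eq y.1 _ _ _ _ hc'
    refine ⟨T, i.le.trans inf_le_right, F.presheaf.map (homOfLE (i.le.trans inf_le_left)).op m, hyT, ?_⟩
    rw [Subsingleton.elim j i] at hT
    rw [show i = homOfLE i.le from rfl, tm_res, H10Coh.mres_mres, H10Coh.mres_mres, H10Coh.mres_mres] at hT
    exact hT
  choose T hT m hyT hm using loc
  have hcompat : TopCat.Presheaf.IsCompatible F.presheaf T m := by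
    intro a b
    refine hinj (T := T a ⊓ T b) (inf_le_left.trans (hT a)) _ _ ?_
    have ha := congrArg ((CohB1.tensorMod F L).presheaf.map (homOfLE (inf_le_left : T a ⊓ T b ≤ T a)).op) (hm a)
    have hb := congrArg ((CohB1.tensorMod F L).presheaf.map (homOfLE (inf_le_right : T a ⊓ T b ≤ T b)).op) (hm b)
    rw [tm_res, H10Coh.mres_mres, H10Coh.mres_mres] at ha hb
    exact ha.trans hb.symm
  obtain ⟨s, hs, -⟩ := TopCat.Sheaf.existsUnique_gluing' ⟨F.presheaf, F.isSheaf⟩ T W
    (fun y => homOfLE (hT y)) (fun y hy => Opens.mem_iSup.2 ⟨⟨y, hy⟩, hyT ⟨y, hy⟩⟩) m hcompat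
  refine ⟨s, eq_of_locally _ _ fun y hy => ⟨T ⟨y, hy⟩, hT _, hyT _, ?_⟩⟩
  beta_reduce
  rw [tm_res, show F.presheaf.map (homOfLE (hT ⟨y, hy⟩)).op s = m ⟨y, hy⟩ from hs _]
  exact hm _

/-- A finite affine cover trivialising an invertible module. -/
theorem exists_finite_gen_cover [CompactSpace X] (hL : PicF.IsInvertible L) :
    ∃ (J : Type u) (_ : Finite J) (V : J → X.Opens) (e : ∀ j, Γ(L, V j)),
      (∀ j, IsAffineOpen (V j)) ∧ (∀ j, IsGen L (e j)) ∧ ∀ x, ∃ j, x ∈ V j := by
  have h : ∀ x : X, ∃ (V : X.Opens) (e : Γ(L, V)), x ∈ V ∧ IsAffineOpen V ∧ IsGen L e := fun x => by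
    obtain ⟨V, e, hx, he⟩ := exists_gen hL x
    obtain ⟨U, hU, hxU, hUV⟩ := exists_isAffineOpen_mem_and_subset (U := V) hx
    exact ⟨U, _, hxU, hU, he.res (show U ≤ V from hUV)⟩
  choose V e hx hV he using h
  obtain ⟨S, hS⟩ := CompactSpace.elim_nhds_subcover (fun x => (V x : Set X))
    (fun x => (V x).isOpen.mem_nhds (hx x))
  refine ⟨{x // x ∈ S}, inferInstance, fun j => V j.1, fun j => e j.1, fun j => hV j.1, fun j => he j.1,
    fun x => ?_⟩
  obtain ⟨y, hy, hxy⟩ := Set.mem_iUnion₂.1 (hS.ge (Set.mem_univ x))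
  exact ⟨⟨y, hy⟩, hxy⟩

/-- Sections of `F ⊗ L^r` over `X_s`, `s` a section of `L^k`, extend after multiplication by large powers of `s`:
in terms of a local generator `e` of `L`, `w ⊗ e^r` becomes `c^n w ⊗ e^(r + n k)` where `s = c e^k`. -/
theorem exists_extend [CompactSpace X] [QuasiSeparatedSpace X] (hL : PicF.IsInvertible L) (hF : Coh.IsQCoh F)
    (k r : ℕ) (s : Γ(CohB1.tensorPow L k, ⊤))
    (t : Γ(CohB1.tensorMod F (CohB1.tensorPow L r), gen (CohB1.tensorPow L k) s)) :
    ∃ N, ∀ n, N ≤ n → ∃ S : Γ(CohB1.tensorMod F (CohB1.tensorPow L (r + n * k)), ⊤),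
      ∀ (W : X.Opens) (hW : W ≤ gen (CohB1.tensorPow L k) s) (e : Γ(L, W)) (w : Γ(F, W)) (c : Γ(X, W)),
        IsGen L e →
        (CohB1.tensorMod F (CohB1.tensorPow L r)).presheaf.map (homOfLE hW).op t = tm w (spow e r) →
        (CohB1.tensorPow L k).presheaf.map (homOfLE (le_top : W ≤ ⊤)).op s = c • spow e k →
        (CohB1.tensorMod F (CohB1.tensorPow L (r + n * k))).presheaf.map (homOfLE (le_top : W ≤ ⊤)).op S =
          tm (c ^ n • w) (spow e (r + n * k)) := by
  classical
  haveI : F.IsQuasicoherent := hF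
  obtain ⟨J, hJ, V, e, hV, he, hcov⟩ := exists_finite_gen_cover hL
  haveI := Fintype.ofFinite J
  let G := gen (CohB1.tensorPow L k) s
  choose c hc using fun j => exists_coeff (isGen_spow (he j) k)
    ((CohB1.tensorPow L k).presheaf.map (homOfLE (le_top : V j ≤ ⊤)).op s)
  have hD : ∀ j, G ⊓ V j = X.basicOpen (c j) := fun j => gen_inf_eq_basicOpen (isGen_spow (he j) k) s (c j) (hc j)
  have hDG : ∀ j, X.basicOpen (c j) ≤ G := fun j => (hD j).ge.trans inf_le_left
  choose w hw using fun j => (bijective_tm (F := F) (isGen_spow (he j) r) (X.basicOpen_le (c j))).2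
    ((CohB1.tensorMod F (CohB1.tensorPow L r)).presheaf.map (homOfLE (hDG j)).op t)
  beta_reduce at hw
  choose p u₀ hu₀ using fun j =>
    H10Coh.exists_pow_smul_eq_res F (hV j) (c j) (w j)
  let N₁ := Finset.univ.sup p
  obtain ⟨u, u_def⟩ : ∃ u : ∀ j : J, ℕ → Γ(F, V j), ∀ j n, u j n = (c j ^ (n - p j)) • u₀ j :=
    ⟨fun j n => (c j ^ (n - p j)) • u₀ j, fun _ _ => rfl⟩
  have hu : ∀ j n, N₁ ≤ n → F.presheaf.map (homOfLE (X.basicOpen_le (c j))).op (u j n) =
      X.presheaf.map (homOfLE (X.basicOpen_le (c j))).op (c j ^ n) • w j := fun j n hn => by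
    rw [u_def, Scheme.Modules.map_smul, hu₀ j, smul_smul, ← map_mul, ← pow_add,
      Nat.sub_add_cancel ((Finset.le_sup (Finset.mem_univ j)).trans hn)]
  -- killing the differences
  have hdiff : ∀ p : J × J, ∃ m, ∀ n, N₁ + m ≤ n → ∀ a : Γ(X, V p.1 ⊓ V p.2),
      L.presheaf.map (homOfLE inf_le_left).op (e p.1) = a • L.presheaf.map (homOfLE inf_le_right).op (e p.2) →
      a ^ (r + n * k) • F.presheaf.map (homOfLE inf_le_left).op (u p.1 n) =
        F.presheaf.map (homOfLE inf_le_right).op (u p.2 n) := by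
    rintro ⟨i, j⟩
    obtain ⟨a, ha⟩ := transition (ei := e i) (he j) (Vj := V j)
    let W := V i ⊓ V j
    have hWc : IsCompact (W : Set X) := QuasiSeparatedSpace.inter_isCompact (V i).1 (V j).1 (V i).2
      (hV i).isCompact (V j).2 (hV j).isCompact
    let ci : Γ(X, W) := X.presheaf.map (homOfLE inf_le_left).op (c i)
    let cj : Γ(X, W) := X.presheaf.map (homOfLE inf_le_right).op (c j)
    have hcij : cj = ci * a ^ k := by
      refine ((isGen_spow ((he j).res (inf_le_right : W ≤ V j)) k).bijective le_rfl).1 ?_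
      beta_reduce
      rw [H10Coh.mres_self]
      have h1 := congrArg ((CohB1.tensorPow L k).presheaf.map (homOfLE (inf_le_left : W ≤ V i)).op) (hc i)
      have h2 := congrArg ((CohB1.tensorPow L k).presheaf.map (homOfLE (inf_le_right : W ≤ V j)).op) (hc j)
      rw [Scheme.Modules.map_smul, H10Coh.mres_mres, spow_res] at h1 h2
      rw [← h2, h1, ha, spow_smul, smul_smul]
    let z : Γ(F, W) := a ^ (r + N₁ * k) • F.presheaf.map (homOfLE inf_le_left).op (u i N₁) -
      F.presheaf.map (homOfLE inf_le_right).op (u j N₁)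
    have hz : F.presheaf.map (homOfLE (X.basicOpen_le cj)).op z = 0 := by
      let B := X.basicOpen cj
      have hBW : B ≤ W := X.basicOpen_le cj
      have hBj : B ≤ X.basicOpen (c j) := (Scheme.basicOpen_res _ _ _).trans_le inf_le_right
      have hBi : B ≤ X.basicOpen (c i) := by
        refine le_trans ?_ ((hD i).le)
        exact le_inf (hBj.trans (hDG j)) (hBW.trans inf_le_left)
      let aB := X.presheaf.map (homOfLE hBW).op a
      have hw' : aB ^ r • F.presheaf.map (homOfLE hBi).op (w i) = F.presheaf.map (homOfLE hBj).op (w j) := by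
        refine (bijective_tm (F := F) (isGen_spow ((he j).res (inf_le_right : W ≤ V j)) r) hBW).1 ?_
        beta_reduce
        have h1 := congrArg ((CohB1.tensorMod F (CohB1.tensorPow L r)).presheaf.map (homOfLE hBi).op) (hw i)
        have h2 := congrArg ((CohB1.tensorMod F (CohB1.tensorPow L r)).presheaf.map (homOfLE hBj).op) (hw j)
        rw [tm_res, H10Coh.mres_mres, H10Coh.mres_mres, spow_res] at h1 h2
        have ha' := congrArg (L.presheaf.map (homOfLE hBW).op) ha
        rw [Scheme.Modules.map_smul, H10Coh.mres_mres, H10Coh.mres_mres] at ha'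
        rw [spow_res, H10Coh.mres_mres, tm_smul_left, ← tm_smul_right, ← spow_smul, ← ha', h1, h2]
      rw [map_sub, sub_eq_zero, Scheme.Modules.map_smul, H10Coh.mres_mres, H10Coh.mres_mres]
      have h1 := congrArg (F.presheaf.map (homOfLE hBi).op) (hu i N₁ le_rfl)
      have h2 := congrArg (F.presheaf.map (homOfLE hBj).op) (hu j N₁ le_rfl)
      rw [Scheme.Modules.map_smul, H10Coh.mres_mres, H10Coh.rres_rres] at h1 h2
      have hcB : X.presheaf.map (homOfLE (hBj.trans (X.basicOpen_le (c j)))).op (c j) =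
          X.presheaf.map (homOfLE (hBi.trans (X.basicOpen_le (c i)))).op (c i) * aB ^ k := by
        have := congrArg (X.presheaf.map (homOfLE hBW).op) hcij
        rw [map_mul, map_pow, H10Coh.rres_rres, H10Coh.rres_rres] at this
        exact this
      rw [h1, h2, ← hw', map_pow, map_pow, map_pow, hcB, smul_smul, smul_smul, mul_pow, pow_add, ← pow_mul]
      congr 1
      ring
    obtain ⟨m, hm⟩ := H10Coh.exists_pow_smul_eq_zero_of_isCompact F hWc cj z hz
    refine ⟨m, fun n hn a' ha' => ?_⟩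
    obtain rfl : a' = a := ((he j).bijective inf_le_right).1 (ha'.symm.trans ha)
    obtain ⟨l, rfl⟩ := Nat.exists_eq_add_of_le hn
    have hsplit : ∀ q, u q (N₁ + m + l) = c q ^ (m + l) • u q N₁ := fun q => by
      rw [u_def, u_def, smul_smul, ← pow_add]
      have := Finset.le_sup (f := p) (Finset.mem_univ q)
      congr 2
      omega
    rw [hsplit i, hsplit j, Scheme.Modules.map_smul, Scheme.Modules.map_smul, map_pow, map_pow]
    change a' ^ _ • ci ^ (m + l) • _ = cj ^ (m + l) • _
    have hz' : cj ^ (m + l) • z = 0 := by rw [add_comm m l, pow_add, mul_smul, hm, smul_zero]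
    rw [smul_sub, sub_eq_zero] at hz'
    refine Eq.trans ?_ hz'
    rw [hcij, smul_smul, smul_smul, mul_pow, ← pow_mul]
    congr 1
    ring
  choose m hm using hdiff
  refine ⟨N₁ + Finset.univ.sup m, fun n hn => ?_⟩
  let R := r + n * k
  let FR := CohB1.tensorMod F (CohB1.tensorPow L R)
  have hcompat : TopCat.Presheaf.IsCompatible FR.presheaf V fun j => tm (u j n) (spow (e j) R) := by
    intro i j
    obtain ⟨a, ha⟩ := transition (ei := e i) (he j) (Vj := V j)
    change FR.presheaf.map (homOfLE inf_le_left).op _ = FR.presheaf.map (homOfLE inf_le_right).op _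
    rw [tm_res, tm_res, spow_res, spow_res, ha, spow_smul, tm_smul_right, ← tm_smul_left,
      hm (i, j) n (le_trans (Nat.add_le_add_left (Finset.le_sup (f := m) (Finset.mem_univ (i, j))) N₁) hn) a ha]
  obtain ⟨S, hS, -⟩ := TopCat.Sheaf.existsUnique_gluing' ⟨FR.presheaf, FR.isSheaf⟩ V ⊤
    (fun j => homOfLE le_top) (fun x _ => Opens.mem_iSup.2 (hcov x)) _ hcompat
  refine ⟨S, fun W hW e' w' c' he' ht hs => eq_of_locally _ _ fun x hx => ?_⟩
  obtain ⟨j, hxj⟩ := hcov x
  let B := W ⊓ V j
  have hBW : B ≤ W := inf_le_left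
  have hBV : B ≤ V j := inf_le_right
  have hBD : B ≤ X.basicOpen (c j) := (le_inf (hBW.trans hW) hBV).trans (hD j).le
  refine ⟨B, hBW, ⟨hx, hxj⟩, ?_⟩
  obtain ⟨b, hb⟩ := exists_coeff ((he j).res hBV) (L.presheaf.map (homOfLE hBW).op e')
  have hc' : X.presheaf.map (homOfLE hBV).op (c j) = X.presheaf.map (homOfLE hBW).op c' * b ^ k := by
    refine ((isGen_spow ((he j).res hBV) k).bijective le_rfl).1 ?_
    beta_reduce
    rw [H10Coh.mres_self]
    have h1 := congrArg ((CohB1.tensorPow L k).presheaf.map (homOfLE hBV).op) (hc j)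
    have h2 := congrArg ((CohB1.tensorPow L k).presheaf.map (homOfLE hBW).op) hs
    rw [Scheme.Modules.map_smul, H10Coh.mres_mres, spow_res] at h1 h2
    rw [← h1, h2, hb, spow_smul, smul_smul]
  have hw' : b ^ r • F.presheaf.map (homOfLE hBW).op w' = F.presheaf.map (homOfLE hBD).op (w j) := by
    refine (bijective_tm (F := F) (isGen_spow ((he j).res hBV) r) le_rfl).1 ?_
    beta_reduce
    have h1 := congrArg ((CohB1.tensorMod F (CohB1.tensorPow L r)).presheaf.map (homOfLE hBD).op) (hw j)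
    have h2 := congrArg ((CohB1.tensorMod F (CohB1.tensorPow L r)).presheaf.map (homOfLE hBW).op) ht
    rw [tm_res, H10Coh.mres_mres, H10Coh.mres_mres, spow_res] at h1
    rw [tm_res, H10Coh.mres_mres, spow_res] at h2
    rw [H10Coh.mres_self, tm_smul_left, ← tm_smul_right, ← spow_smul, ← hb, h1, h2]
  have hS' := congrArg (FR.presheaf.map (homOfLE hBV).op) (hS j)
  change FR.presheaf.map _ (FR.presheaf.map (homOfLE (le_top : V j ≤ ⊤)).op S) = _ at hS'
  rw [H10Coh.mres_mres, tm_res, spow_res] at hS'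
  rw [H10Coh.mres_mres, hS', tm_res, spow_res, hb, spow_smul, tm_smul_right, ← tm_smul_left]
  congr 1
  have h3 := congrArg (F.presheaf.map (homOfLE hBD).op) (hu j n (le_trans le_self_add hn))
  rw [H10Coh.mres_mres, Scheme.Modules.map_smul, H10Coh.rres_rres, map_pow, hc', ← hw'] at h3
  rw [h3, Scheme.Modules.map_smul, map_pow, smul_smul, smul_smul, mul_pow, ← pow_mul]
  congr 1
  ring

end Groth.Agent.H11Ample
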