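import Groth.Agent.H11Ample.Counit
import Groth.Agent.H11Ample.Restrict
import Groth.Agent.H10Coh.OpenSpec
import Groth.Agent.H7Lim.IdealExtension
import Groth.Agent.H29Blow.IdealMod
import Groth.Agent.H17.OmegaLocal

/-!
# Relative ampleness by the counit
-/

set_option autoImplicit false
set_option linter.style.haveILetI false

noncomputable section

universe u

open CategoryTheory CategoryTheory.Limits AlgebraicGeometry Opposite TopologicalSpace
open Groth.Agent.H11Tilde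

namespace Groth.Agent.H11Ample

variable {X Y : Scheme.{u}} {f : X ⟶ Y} {L L' F : X.Modules}

theorem isQuasiSeparated_of_ampleOn {U : X.Opens} (h : AmpleOn L U) : IsQuasiSeparated (U : Set X) := by
  haveI := quasiSeparatedSpace_of_isAmple h
  exact (isQuasiSeparated_iff_quasiSeparatedSpace _ U.isOpen).2 (inferInstanceAs (QuasiSeparatedSpace U.toScheme))

theorem eventually_span_of_ampleOn {U : X.Opens} (hA : AmpleOn L U) (hL : PicF.IsInvertible L) (hF : Coh.IsCoh F) :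
    ∃ n₀ : ℕ, ∀ n, n₀ ≤ n → ∀ (W : X.Opens) (t : Γ(CohB1.tensorMod F (CohB1.tensorPow L n), W)), ∀ x ∈ W, x ∈ U →
      ∃ (B : X.Opens) (hB : B ≤ W) (hBU : B ≤ U), x ∈ B ∧
        (CohB1.tensorMod F (CohB1.tensorPow L n)).presheaf.map (homOfLE hB).op t ∈ Submodule.span Γ(X, B)
          (Set.range fun s : Γ(CohB1.tensorMod F (CohB1.tensorPow L n), U) =>
            (CohB1.tensorMod F (CohB1.tensorPow L n)).presheaf.map (homOfLE hBU).op s) := by
  have hA' := (isAmple_restrict_iff L U).2 hA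
  haveI := compactSpace_of_isAmple hA'
  haveI := quasiSeparatedSpace_of_isAmple hA'
  obtain ⟨n₀, hn₀⟩ := eventually_spanning hA' (H10Coh.isCoh_restrict U.ι F hF)
  refine ⟨n₀, fun n hn W t x hxW hxU => ?_⟩
  obtain ⟨ι, _, g, hg⟩ := hn₀ n hn
  obtain ⟨Φ, hΦ⟩ := exists_hom_twist_restrict U F L n
  obtain ⟨B₀, e, hxB₀, he⟩ := exists_gen hL x
  let P := CohB1.tensorMod F (CohB1.tensorPow L n)
  let W' : U.toScheme.Opens := U.ι ⁻¹ᵁ (W ⊓ B₀)
  have hW'B : U.ι ''ᵁ W' ≤ B₀ := (Scheme.Hom.image_preimage_le _ _).trans inf_le_right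
  have hW'W : U.ι ''ᵁ W' ≤ W := (Scheme.Hom.image_preimage_le _ _).trans inf_le_left
  obtain ⟨a, ha⟩ := (bijective_tm (F := F) (isGen_spow he n) hW'B).2 (P.presheaf.map (homOfLE hW'W).op t)
  beta_reduce at ha
  rw [spow_res] at ha
  let e' : Γ(L.restrict U.ι, W') := ofImg U L (L.presheaf.map (homOfLE hW'B).op e)
  have hmap : toImg U P (Φ.app W' (tm (ofImg U F a) (spow e' n))) = P.presheaf.map (homOfLE hW'W).op t := by
    rw [hΦ]
    exact ha
  obtain ⟨V, hV, hxV, hspan⟩ := hg W' (tm (ofImg U F a) (spow e' n)) ⟨x, hxU⟩ ⟨hxW, hxB₀⟩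
  let B := U.ι ''ᵁ V
  refine ⟨B, (Scheme.Hom.image_mono U.ι hV).trans hW'W, U.ι_image_le V, ⟨_, hxV, rfl⟩, ?_⟩
  have hgen : P.presheaf.map (homOfLE ((Scheme.Hom.image_mono U.ι hV).trans hW'W)).op t =
      toImg U P (Φ.app V ((CohB1.tensorMod (F.restrict U.ι) (CohB1.tensorPow (L.restrict U.ι) n)).presheaf.map
        (homOfLE hV).op (tm (ofImg U F a) (spow e' n)))) := by
    rw [app_map_apply, toImg_res, hmap, H10Coh.mres_mres]
  rw [hgen]
  generalize (CohB1.tensorMod (F.restrict U.ι) (CohB1.tensorPow (L.restrict U.ι) n)).presheaf.map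
    (homOfLE hV).op (tm (ofImg U F a) (spow e' n)) = z at hspan
  induction hspan using Submodule.span_induction with
  | mem y hy =>
    obtain ⟨i, rfl⟩ := hy
    refine Submodule.subset_span ⟨P.presheaf.map (homOfLE (le_of_eq U.ι_image_top.symm)).op
      (toImg U P (Φ.app ⊤ (g i))), ?_⟩
    beta_reduce
    rw [app_map_apply, toImg_res, H10Coh.mres_mres]
  | zero =>
    rw [map_zero]
    exact Submodule.zero_mem _
  | add y y' _ _ hy hy' =>
    rw [map_add]
    exact Submodule.add_mem _ hy hy'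
  | smul r y _ hy =>
    rw [Scheme.Modules.Hom.app_smul]
    exact Submodule.smul_mem _ ((U.ι.appIso V).inv r) hy

theorem eventually_epi_counit [CompactSpace X] (hL : RelAmple.IsRelAmple f L) (hF : Coh.IsCoh F) :
    ∃ n₀ : ℕ, 0 < n₀ ∧ ∀ n, n₀ ≤ n →
      Epi ((Scheme.Modules.pullbackPushforwardAdjunction f).counit.app (CohB1.tensorMod F (CohB1.tensorPow L n))) := by
  choose V hV hxV using fun x : X => exists_isAffineOpen_mem (f x)
  obtain ⟨T, hT⟩ := CompactSpace.elim_nhds_subcover (fun x => ((f ⁻¹ᵁ V x : X.Opens) : Set X))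
    (fun x => (f ⁻¹ᵁ V x).isOpen.mem_nhds (hxV x))
  choose n₀ hn₀ using fun x => eventually_span_of_ampleOn ((isRelAmple_iff.1 hL).2 (V x) (hV x))
    (isInvertible_of_isRelAmple hL) hF
  refine ⟨T.sup n₀ + 1, Nat.succ_pos _, fun n hn => epi_counit_of_span f _ fun W t x hx => ?_⟩
  obtain ⟨z, hz, hxz⟩ := Set.mem_iUnion₂.1 (hT.ge (Set.mem_univ x))
  obtain ⟨B, hB, hBU, hxB, hmem⟩ :=
    hn₀ z n ((Finset.le_sup hz).trans (Nat.le_of_succ_le hn)) W t x hx hxz
  exact ⟨B, hB, V z, hBU, hxB, hmem⟩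

theorem exists_mem_gen_pullback {M : X.Modules} (hM : PicF.IsInvertible M) {U : X.Opens} (t : Γ(M, U)) {x : X}
    (hx : x ∈ U) (ht : M.presheaf.germ U x hx t ∉
      IsLocalRing.maximalIdeal (X.presheaf.stalk x) • (⊤ : Submodule (X.presheaf.stalk x) (M.presheaf.stalk x))) :
    ∃ v : Γ((Scheme.Modules.pullback U.ι).obj M, ⊤), (⟨x, hx⟩ : U) ∈ gen _ v := by
  have hUpre : (⊤ : U.toScheme.Opens) ≤ U.ι ⁻¹ᵁ U := fun y _ => y.2
  refine ⟨((Scheme.Modules.pullback U.ι).obj M).presheaf.map (homOfLE hUpre).op (OmegaSh.pullSect U.ι M U t), ?_⟩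
  obtain ⟨B₀, e₀, hxB₀, he₀⟩ := exists_gen hM x
  let B := U ⊓ B₀
  have he := he₀.res (inf_le_right : B ≤ B₀)
  obtain ⟨a, ha⟩ := exists_coeff he (M.presheaf.map (homOfLE (inf_le_left : B ≤ U)).op t)
  have hau : x ∈ X.basicOpen a := by
    by_contra hc
    have h1 := congrArg (M.presheaf.germ B x ⟨hx, hxB₀⟩) ha
    rw [TopCat.Presheaf.germ_res_apply, H06Mod.germ_smul] at h1
    exact ht (h1 ▸ Submodule.smul_mem_smul ((IsLocalRing.mem_maximalIdeal _).2
      fun hu => hc ((X.mem_basicOpen a x ⟨hx, hxB₀⟩).2 hu)) Submodule.mem_top)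
  have hres := congrArg (OmegaSh.pullSect U.ι M B) ha
  rw [pullSect_res, OmegaSh.pullSect_smul] at hres
  refine (mem_gen_iff_mem_basicOpen (IsGen.pullSect U.ι he) (a := U.ι.app B a) ?_
    (show (⟨x, hx⟩ : U) ∈ U.ι ⁻¹ᵁ B from ⟨hx, hxB₀⟩)).2 ?_
  · rw [H10Coh.mres_mres]
    exact hres
  · rw [← Scheme.preimage_basicOpen]
    exact hau

theorem isRelAmple_tensor_of_counit_epi (hL : RelAmple.IsRelAmple f L) (hL' : PicF.IsInvertible L') {n : ℕ}
    (hn : 0 < n) (hepi : Epi ((Scheme.Modules.pullbackPushforwardAdjunction f).counit.app (CohB1.tensorPow L' n))) :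
    RelAmple.IsRelAmple f (CohB1.tensorMod L L') := by
  refine isRelAmple_iff.2 ⟨hL.1, fun V hV => ?_⟩
  have hA := (isRelAmple_iff.1 hL).2 V hV
  let U := f ⁻¹ᵁ V
  have hP := isInvertible_tensorPow hL' n
  haveI : (CohB1.tensorPow L' n).IsQuasicoherent := H28Mero.isQCoh_of_isInvertible hP
  obtain ⟨ψ⟩ := exists_iso_pullback_tensor U.ι (isInvertible_of_isRelAmple hL) hL'
  refine isAmple_of_iso ψ.symm (isAmple_tensor_of_gen hA (isInvertible_pullback _ hL') fun z => ?_)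
  obtain ⟨B, e, hzB, he⟩ := exists_gen hP (U.ι z)
  obtain ⟨t, ht⟩ := exists_germ_notMem_of_counit_epi f _ hepi hV hA.isCompact (isQuasiSeparated_of_ampleOn hA)
    (x := U.ι z) z.2 (germ_notMem_smul_top_of_isGen he hzB)
  obtain ⟨v, hv⟩ := exists_mem_gen_pullback hP t z.2 ht
  obtain ⟨φ⟩ := exists_iso_pullback_tensorPow U.ι hL' n
  exact ⟨n, φ.hom.app ⊤ v, hn, by rw [gen_iso]; exact hv⟩

theorem idealSect_germ_isUnit_notMem {I : X.IdealSheafData} {M : X.Modules} (hM : PicF.IsInvertible M)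
    {n : ℕ} {U : X.Opens} {e : Γ(M, U)} (he : IsGen M e) (m : Γ(ClSub.idealMod I, U)) {x : X} (hx : x ∈ U)
    (hu : x ∈ X.basicOpen (OmegaSh.idealSect I U m))
    (θ : CohB1.tensorMod (ClSub.idealMod I) (CohB1.tensorPow M n) ⟶ CohB1.tensorPow M n)
    (hθ : ∀ (W : X.Opens) (e : Γ(M, W)) (m : Γ(ClSub.idealMod I, W)),
      θ.app W (tm m (spow e n)) = OmegaSh.idealSect I W m • spow e n) :
    (CohB1.tensorMod (ClSub.idealMod I) (CohB1.tensorPow M n)).presheaf.germ U x hx (tm m (spow e n)) ∉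
      IsLocalRing.maximalIdeal (X.presheaf.stalk x) •
        (⊤ : Submodule (X.presheaf.stalk x)
          ((CohB1.tensorMod (ClSub.idealMod I) (CohB1.tensorPow M n)).presheaf.stalk x)) := by
  intro h
  let P := CohB1.tensorMod (ClSub.idealMod I) (CohB1.tensorPow M n)
  let S := H06Mod.sky x ((CohB1.tensorPow M n).presheaf.stalk x ⧸
    IsLocalRing.maximalIdeal (X.presheaf.stalk x) •
      (⊤ : Submodule (X.presheaf.stalk x) ((CohB1.tensorPow M n).presheaf.stalk x)))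
  let σ : P ⟶ S := θ ≫ H06Mod.homOfStalk (Submodule.mkQ _)
  have hσ : ∀ a, a ∈ IsLocalRing.maximalIdeal (X.presheaf.stalk x) •
      (⊤ : Submodule (X.presheaf.stalk x) (P.presheaf.stalk x)) → H06Mod.stalkOfHom σ a = 0 := by
    intro a ha
    refine Submodule.smul_induction_on ha (fun r hr b _ => ?_) (fun b c hb hc => by rw [map_add, hb, hc, add_zero])
    rw [H06Mod.stalkOfHom_smul]
    obtain ⟨b', hb'⟩ := Submodule.Quotient.mk_surjective _ (H06Mod.stalkOfHom σ b)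
    rw [← hb', ← Submodule.Quotient.mk_smul, Submodule.Quotient.mk_eq_zero]
    exact Submodule.smul_mem_smul hr Submodule.mem_top
  have h1 := hσ _ h
  rw [H06Mod.stalkOfHom_germ] at h1
  have h2 : (CohB1.tensorPow M n).presheaf.germ U x hx (θ.app U (tm m (spow e n))) ∈
      IsLocalRing.maximalIdeal (X.presheaf.stalk x) •
        (⊤ : Submodule (X.presheaf.stalk x) ((CohB1.tensorPow M n).presheaf.stalk x)) :=
    (Submodule.Quotient.mk_eq_zero _).1
      ((H06Mod.skyEval_homOfStalk (Submodule.mkQ (IsLocalRing.maximalIdeal (X.presheaf.stalk x) •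
        (⊤ : Submodule (X.presheaf.stalk x) ((CohB1.tensorPow M n).presheaf.stalk x)))) U hx
        (θ.app U (tm m (spow e n)))).symm.trans h1)
  rw [hθ, H06Mod.germ_smul] at h2
  obtain ⟨d, hd⟩ := ((X.mem_basicOpen _ x hx).1 hu).exists_left_inv
  refine germ_notMem_smul_top_of_isGen (isGen_spow he n) hx ?_
  rw [← one_smul (X.presheaf.stalk x) ((CohB1.tensorPow M n).presheaf.germ U x hx (spow e n)), ← hd, mul_smul]
  exact Submodule.smul_mem _ d h2

theorem isRelAmple_of_counit_ideal [CompactSpace X] [QuasiSeparatedSpace X] [QuasiCompact f]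
    (hL : PicF.IsInvertible L)
    (h : ∀ (J : X.Modules) (i : J ⟶ Coh.structureModule X), Mono i → Coh.IsQCoh J → CohB1.IsFT J →
      ∃ n : ℕ, 0 < n ∧
        Epi ((Scheme.Modules.pullbackPushforwardAdjunction f).counit.app (CohB1.tensorMod J (CohB1.tensorPow L n)))) :
    RelAmple.IsRelAmple f L := by
  classical
  refine isRelAmple_iff.2 ⟨inferInstance, fun V hV => ?_⟩
  let G := f ⁻¹ᵁ V
  have hGc : IsCompact (G : Set X) := f.isCompact_preimage (U := V) hV.isCompact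
  have hGqs : IsQuasiSeparated (G : Set X) :=
    fun A B _ hA hAc _ hB hBc => QuasiSeparatedSpace.inter_isCompact A B hA hAc hB hBc
  haveI : CompactSpace G.toScheme := isCompact_iff_compactSpace.1 hGc
  refine isAmple_iff.2 ⟨isInvertible_pullback G.ι hL, inferInstance, fun z => ?_⟩
  obtain ⟨x, hxG, hxz⟩ : ∃ x ∈ G, x = G.ι z := ⟨_, z.2, rfl⟩
  obtain ⟨B₀, e₀, hxB₀, he₀⟩ := exists_gen hL x
  obtain ⟨U, hU, hxU, hUV⟩ := exists_isAffineOpen_mem_and_subset (U := G ⊓ B₀) (show x ∈ G ⊓ B₀ from ⟨hxG, hxB₀⟩)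
  have hUG : U ≤ G := fun y hy => (hUV hy).1
  obtain ⟨e, he⟩ : ∃ e : Γ(L, U), IsGen L e := ⟨_, he₀.res (show U ≤ B₀ from fun y hy => (hUV hy).2)⟩
  let J := Scheme.IdealSheafData.vanishingIdeal ⟨(U : Set X)ᶜ, U.isOpen.isClosed_compl⟩
  have hJ : ∀ y : X, y ∈ J.support ↔ y ∉ U := fun y => by
    change y ∈ (J.support : Set X) ↔ _
    rw [Scheme.IdealSheafData.coe_support_vanishingIdeal]
    rfl
  obtain ⟨a, ha, hxa⟩ : ∃ a ∈ J.ideal ⟨U, hU⟩, x ∈ X.basicOpen a := by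
    by_contra hc
    refine (hJ x).1 ?_ hxU
    have : x ∈ X.zeroLocus (U := U) (J.ideal ⟨U, hU⟩ : Set Γ(X, U)) ∩ (U : Set X) :=
      ⟨by rw [Scheme.mem_zeroLocus_iff]; exact fun f hf hxf => hc ⟨f, hf, hxf⟩, hxU⟩
    rw [← J.coe_support_inter ⟨U, hU⟩] at this
    exact this.1
  obtain ⟨I, hIJ, hfg, haI⟩ := H7Lim.exists_finiteType_le J ⟨U, hU⟩ {a} (by simpa using ha)
  obtain ⟨m, hm⟩ := (H29Blow.mem_ideal_iff_exists_idealSect I hU a).1 (haI (by simp))
  have hIq : Coh.IsQCoh (ClSub.idealMod I) := H17.OmegaLocal.isQuasicoherent_idealMod I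
  have hIc : Coh.IsCoh (ClSub.idealMod I) := (H10Coh.isCoh_iff_finite_sections _).2 ⟨hIq, fun W hW => by
    let ε : Γ(ClSub.idealMod I, W) →ₗ[Γ(X, W)] Γ(X, W) :=
      { toFun := OmegaSh.idealSect I W
        map_add' := fun a b => map_add _ a b
        map_smul' := fun r a => H29Blow.idealSect_smul I W r a }
    have hrange : LinearMap.range ε = I.ideal ⟨W, hW⟩ := by
      ext c
      exact (H29Blow.mem_ideal_iff_exists_idealSect I hW c).symm
    refine ⟨Submodule.fg_of_fg_map_injective ε (H29Blow.idealSect_injective I W) ?_⟩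
    rw [Submodule.map_top, hrange]
    exact hfg ⟨W, hW⟩⟩
  obtain ⟨n, hn, hepi⟩ := h (ClSub.idealMod I) (ClSub.idealModι I)
    (inferInstanceAs (Mono (kernel.ι (ClSub.toSubscheme I)))) hIq hIc.2
  obtain ⟨φ, hφ⟩ := exists_iso_unit hL n
  let P := CohB1.tensorMod (ClSub.idealMod I) (CohB1.tensorPow L n)
  haveI : P.IsQuasicoherent := isQCoh_tensor hIq (isInvertible_tensorPow hL n)
  obtain ⟨θ, hθ⟩ : ∃ θ : P ⟶ CohB1.tensorPow L n, ∀ (W : X.Opens) (e : Γ(L, W))
      (m : Γ(ClSub.idealMod I, W)), θ.app W (tm m (spow e n)) = OmegaSh.idealSect I W m • spow e n := by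
    refine ⟨KoszTw.tensorMap (ClSub.idealModι I) (𝟙 _) ≫ φ.hom, fun W e m => ?_⟩
    change φ.hom.app W ((KoszTw.tensorMap _ _).app W (SecTwist.tmul _ _ W m (spow e n))) = _
    rw [KoszTw.tensorMap_tmul]
    exact hφ W e (OmegaSh.idealSect I W m)
  obtain ⟨t, ht⟩ := exists_germ_notMem_of_counit_epi f P hepi hV hGc hGqs (x := x) hxG
    (idealSect_germ_isUnit_notMem hL he m hxU (hm.symm ▸ hxa) θ hθ)
  -- the image in `L^n`
  obtain ⟨m₁, hm₁⟩ := (bijective_tm (F := ClSub.idealMod I) (isGen_spow he n) le_rfl).2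
    (P.presheaf.map (homOfLE hUG).op t)
  beta_reduce at hm₁
  rw [H10Coh.mres_self] at hm₁
  have hux : x ∈ X.basicOpen (OmegaSh.idealSect I U m₁) := by
    by_contra hc
    refine ht ?_
    rw [← TopCat.Presheaf.germ_res_apply P.presheaf (homOfLE hUG) x hxU t, ← hm₁]
    have hau : IsUnit (X.presheaf.germ U x hxU a) := (X.mem_basicOpen a x hxU).1 hxa
    obtain ⟨d, hd⟩ := hau.exists_left_inv
    have e1 : a • m₁ = OmegaSh.idealSect I U m₁ • m := by
      refine H29Blow.idealSect_injective I U ?_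
      rw [H29Blow.idealSect_smul, H29Blow.idealSect_smul, hm, mul_comm]
    have e2 : P.presheaf.germ U x hxU (tm m₁ (spow e n)) =
        (d * X.presheaf.germ U x hxU (OmegaSh.idealSect I U m₁)) • P.presheaf.germ U x hxU (tm m (spow e n)) := by
      rw [mul_smul, ← H06Mod.germ_smul, ← tm_smul_left, ← e1, tm_smul_left, H06Mod.germ_smul, smul_smul, hd, one_smul]
    rw [e2]
    exact Submodule.smul_mem_smul (Ideal.mul_mem_left _ d ((IsLocalRing.mem_maximalIdeal _).2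
      fun hu => hc ((X.mem_basicOpen _ x hxU).2 hu))) Submodule.mem_top
  obtain ⟨χ⟩ := exists_iso_pullback_tensorPow G.ι hL n
  let M := CohB1.tensorPow L n
  have hM : PicF.IsInvertible M := isInvertible_tensorPow hL n
  have hGpre : (⊤ : G.toScheme.Opens) ≤ G.ι ⁻¹ᵁ G := fun y _ => y.2
  let v : Γ((Scheme.Modules.pullback G.ι).obj M, ⊤) :=
    ((Scheme.Modules.pullback G.ι).obj M).presheaf.map (homOfLE hGpre).op (OmegaSh.pullSect G.ι M G (θ.app G t))
  have hgen : ∀ (B : X.Opens) (hB : B ≤ G) (l : Γ(M, B)) (c : Γ(X, B)), IsGen M l →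
      M.presheaf.map (homOfLE hB).op (θ.app G t) = c • l → ∀ y : G, G.ι y ∈ B →
        (y ∈ gen _ v ↔ G.ι y ∈ X.basicOpen c) := by
    intro B hB l c hl hc y hy
    have hres := congrArg (OmegaSh.pullSect G.ι M B) hc
    rw [pullSect_res, OmegaSh.pullSect_smul] at hres
    refine (mem_gen_iff_mem_basicOpen (IsGen.pullSect G.ι hl) (a := G.ι.app B c) ?_
      (show y ∈ G.ι ⁻¹ᵁ B from hy)).trans ?_
    · rw [H10Coh.mres_mres]
      exact hres
    · rw [← Scheme.preimage_basicOpen]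
      rfl
  have hc₁ : M.presheaf.map (homOfLE hUG).op (θ.app G t) = OmegaSh.idealSect I U m₁ • spow e n := by
    rw [← app_map_apply, ← hm₁, hθ]
  have hvU : gen _ v ≤ G.ι ⁻¹ᵁ U := by
    intro y hy
    by_contra hyU
    obtain ⟨B', e', hyB', he'⟩ := exists_gen hL (G.ι y)
    obtain ⟨A, hA, hyA, hAV⟩ := exists_isAffineOpen_mem_and_subset (U := G ⊓ B')
      (show G.ι y ∈ G ⊓ B' from ⟨y.2, hyB'⟩)
    have hAG : A ≤ G := fun z hz => (hAV hz).1
    obtain ⟨l, hl⟩ : ∃ l : Γ(L, A), IsGen L l := ⟨_, he'.res (show A ≤ B' from fun z hz => (hAV hz).2)⟩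
    obtain ⟨m', hm'⟩ := (bijective_tm (F := ClSub.idealMod I) (isGen_spow hl n) le_rfl).2
      (P.presheaf.map (homOfLE hAG).op t)
    beta_reduce at hm'
    rw [H10Coh.mres_self] at hm'
    have hres : M.presheaf.map (homOfLE hAG).op (θ.app G t) = OmegaSh.idealSect I A m' • spow l n := by
      rw [← app_map_apply, ← hm', hθ]
    have h1 := (hgen A hAG _ _ (isGen_spow hl n) hres y hyA).1 hy
    have h2 : G.ι y ∈ X.zeroLocus (U := A) (J.ideal ⟨A, hA⟩ : Set Γ(X, A)) ∩ (A : Set X) := by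
      rw [← J.coe_support_inter ⟨A, hA⟩]
      exact ⟨(hJ _).2 hyU, hyA⟩
    exact (X.mem_zeroLocus_iff _ _).1 h2.1 _
      (hIJ ⟨A, hA⟩ ((H29Blow.mem_ideal_iff_exists_idealSect I hA _).2 ⟨m', rfl⟩)) h1
  have heq : gen _ v = G.ι ⁻¹ᵁ X.basicOpen (OmegaSh.idealSect I U m₁) := by
    ext y
    constructor
    · intro hy
      exact (hgen U hUG _ _ (isGen_spow he n) hc₁ y (hvU hy)).1 hy
    · intro hy
      exact (hgen U hUG _ _ (isGen_spow he n) hc₁ y (X.basicOpen_le _ hy)).2 hy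
  refine ⟨n, χ.hom.app ⊤ v, hn, ?_, ?_⟩ <;> rw [gen_iso, heq]
  · change G.ι z ∈ X.basicOpen (OmegaSh.idealSect I U m₁)
    rw [← hxz]
    exact hux
  · rw [← G.ι.isAffineOpen_iff_of_isOpenImmersion, Scheme.Hom.image_preimage_eq_opensRange_inf,
      Scheme.Opens.opensRange_ι, inf_eq_right.2 ((X.basicOpen_le _).trans hUG)]
    exact hU.basicOpen _

theorem isRelAmple_iff_eventually_epi_counit [CompactSpace X] [QuasiSeparatedSpace X] [QuasiCompact f]
    (hL : PicF.IsInvertible L) :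
    RelAmple.IsRelAmple f L ↔ ∀ F : X.Modules, Coh.IsQCoh F → CohB1.IsFT F →
      ∃ n₀ : ℕ, 0 < n₀ ∧ ∀ n : ℕ, n₀ ≤ n →
        Epi ((Scheme.Modules.pullbackPushforwardAdjunction f).counit.app (CohB1.tensorMod F (CohB1.tensorPow L n))) :=
  ⟨fun h F hq hft => eventually_epi_counit h ⟨hq, hft⟩, fun h => isRelAmple_of_counit_ideal hL fun J _ _ hq hft => by
    obtain ⟨n₀, h0, hn⟩ := h J hq hft
    exact ⟨n₀, h0, hn n₀ le_rfl⟩⟩

end Groth.Agent.H11Ample
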