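import Groth.Agent.H11Ample.Immersion
import Groth.Agent.H11Ample.Global
import Groth.Agent.H10Coh.Local

/-!
# Invertible modules on affine schemes of finite type are very ample
-/

set_option autoImplicit false
set_option linter.style.haveILetI false

noncomputable section

universe u

open CategoryTheory CategoryTheory.Limits AlgebraicGeometry Opposite TopologicalSpace
open Groth.Agent.H11Tilde

namespace Groth.Agent.H11Ample

variable {X Y : Scheme.{u}} {L : X.Modules}

theorem gen_eq_of_res (hL : PicF.IsInvertible L) (f : Γ(X, ⊤)) (t : Γ(L, ⊤)) {p : ℕ}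
    {e : Γ(L, X.basicOpen f)} (he : IsGen L e)
    (ht : L.presheaf.map (homOfLE (le_top : X.basicOpen f ≤ ⊤)).op t =
      X.presheaf.map (homOfLE (le_top : X.basicOpen f ≤ ⊤)).op (f ^ p) • e) :
    gen L (f • t) = X.basicOpen f := by
  refine le_antisymm (fun y hy => ?_) fun y hy => ?_
  · obtain ⟨W, e', hyW, he'⟩ := exists_gen hL y
    obtain ⟨c, hc⟩ := exists_coeff he' (L.presheaf.map (homOfLE (le_top : W ≤ ⊤)).op t)
    have h2 : L.presheaf.map (homOfLE (le_top : W ≤ ⊤)).op (f • t) =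
        (X.presheaf.map (homOfLE (le_top : W ≤ ⊤)).op f * c) • e' := by
      rw [Scheme.Modules.map_smul, hc, mul_smul]
    have h3 := (gen_inf_eq_basicOpen he' (f • t) _ h2).le ⟨hy, hyW⟩
    rw [Scheme.basicOpen_mul, Scheme.basicOpen_res] at h3
    exact h3.1.2
  · have h2 : L.presheaf.map (homOfLE (le_top : X.basicOpen f ≤ ⊤)).op (f • t) =
        (X.presheaf.map (homOfLE (le_top : X.basicOpen f ≤ ⊤)).op f *
          X.presheaf.map (homOfLE (le_top : X.basicOpen f ≤ ⊤)).op (f ^ p)) • e := by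
      rw [Scheme.Modules.map_smul, ht, mul_smul]
    have hu : IsUnit (X.presheaf.map (homOfLE (le_top : X.basicOpen f ≤ ⊤)).op f) :=
      X.toRingedSpace.isUnit_res_basicOpen f
    refine ((gen_inf_eq_basicOpen he (f • t) _ h2).ge ?_).1
    rw [Scheme.basicOpen_of_isUnit X (hu.mul (by rw [map_pow]; exact hu.pow p))]
    exact hy

theorem isRelVeryAmplePn_of_isAffine [IsAffine X] [IsAffine Y] (q : X ⟶ Y) [LocallyOfFiniteType q]
    (hL : PicF.IsInvertible L) : RelAmple.IsRelVeryAmplePn q L := by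
  classical
  haveI : L.IsQuasicoherent := H28Mero.isQCoh_of_isInvertible hL
  have loc : ∀ x : X, ∃ (f : Γ(X, ⊤)) (p : ℕ) (t : Γ(L, ⊤)) (e : Γ(L, X.basicOpen f)), x ∈ X.basicOpen f ∧
      IsGen L e ∧ L.presheaf.map (homOfLE (le_top : X.basicOpen f ≤ ⊤)).op t =
        X.presheaf.map (homOfLE (le_top : X.basicOpen f ≤ ⊤)).op (f ^ p) • e := fun x => by
    obtain ⟨V, e, hxV, he⟩ := exists_gen hL x
    obtain ⟨f, hfV, hxf⟩ := (isAffineOpen_top X).exists_basicOpen_le (V := V) ⟨x, hxV⟩ trivial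
    obtain ⟨p, t, ht⟩ := H10Coh.exists_pow_smul_eq_res L (isAffineOpen_top X) f
      (L.presheaf.map (homOfLE hfV).op e)
    exact ⟨f, p, t, _, hxf, he.res hfV, ht⟩
  choose f p t e hxf he ht using loc
  obtain ⟨T, hT⟩ := CompactSpace.elim_nhds_subcover (fun x => (X.basicOpen (f x) : Set X))
    (fun x => (X.basicOpen (f x)).isOpen.mem_nhds (hxf x))
  obtain ⟨A, hA⟩ : ∃ A : Finset Γ(X, ⊤), Subring.closure
      (Set.range (q.appLE ⊤ ⊤ le_top) ∪ (A : Set _)) = ⊤ := by
    let g := (q.appLE ⊤ (⊤ : X.Opens) le_top).hom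
    have hg : g.FiniteType := q.finiteType_appLE (isAffineOpen_top Y) (isAffineOpen_top X) le_top
    letI := g.toAlgebra
    obtain ⟨A, hA'⟩ := @Algebra.FiniteType.out Γ(Y, ⊤) Γ(X, ⊤) _ _ g.toAlgebra hg
    refine ⟨A, ?_⟩
    have := congrArg Subalgebra.toSubring hA'
    rwa [Algebra.adjoin_eq_ring_closure] at this
  let I : Type u := Σ x : {x // x ∈ T}, Option (Option {a // a ∈ A})
  haveI : Fintype I := Fintype.ofFinite I
  let sec : I → Γ(L, ⊤) := fun i =>
    match i.2 with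
    | none => f i.1.1 • t i.1.1
    | some none => t i.1.1
    | some (some a) => a.1 • (f i.1.1 • t i.1.1)
  obtain ⟨σ⟩ : Nonempty (Option I ≃ Fin (Fintype.card I + 1)) :=
    ⟨Fintype.equivFinOfCardEq Fintype.card_option⟩
  obtain ⟨v, hv⟩ : ∃ v : Fin (Fintype.card I + 1) → Γ(L, ⊤), ∀ i, v (σ (some i)) = sec i :=
    ⟨fun l => ((σ.symm l).map sec).getD 0, fun i => by simp⟩
  have hG : ∀ x : {x // x ∈ T}, gen L (f x.1 • t x.1) = X.basicOpen (f x.1) := fun x =>
    gen_eq_of_res hL (f x.1) (t x.1) (he x.1) (ht x.1)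
  refine isRelVeryAmplePn_of_sections q hL v {l | ∃ x : {x // x ∈ T}, l = σ (some ⟨x, none⟩)} (fun y => ?_) ?_ ?_
  · obtain ⟨x, hx, hyx⟩ := Set.mem_iUnion₂.1 (hT.ge (Set.mem_univ y))
    exact ⟨_, ⟨⟨x, hx⟩, rfl⟩, by rw [hv]; exact (hG ⟨x, hx⟩).ge hyx⟩
  · rintro l ⟨x, rfl⟩
    rw [hv]
    exact (hG x).symm ▸ (isAffineOpen_top X).basicOpen _
  · rintro l ⟨x, rfl⟩
    obtain ⟨w, hw⟩ : ∃ w, v (σ (some ⟨x, none⟩)) = w := ⟨_, rfl⟩
    have hw' : w = f x.1 • t x.1 := by rw [← hw, hv]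
    rw [hw]
    suffices h : ∀ (G : X.Opens), G = X.basicOpen (f x.1) →
        Subring.closure (Set.range (q.appLE ⊤ G le_top) ∪
          {d | ∃ l, L.presheaf.map (homOfLE (le_top : G ≤ ⊤)).op (v l) =
            d • L.presheaf.map (homOfLE (le_top : G ≤ ⊤)).op w}) = ⊤ from h _ (by rw [hw', hG])
    rintro G rfl
    let D := X.basicOpen (f x.1)
    let res : Γ(X, ⊤) →+* Γ(X, D) := (X.presheaf.map (homOfLE (le_top : D ≤ ⊤)).op).hom
    set S := Subring.closure (Set.range (q.appLE ⊤ D le_top) ∪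
          {d | ∃ l, L.presheaf.map (homOfLE (le_top : D ≤ ⊤)).op (v l) =
            d • L.presheaf.map (homOfLE (le_top : D ≤ ⊤)).op w})
    have hres : ∀ a, res a ∈ S := fun a => by
      have hle : Subring.closure (Set.range (q.appLE ⊤ ⊤ le_top) ∪ (A : Set Γ(X, ⊤))) ≤ S.comap res := by
        refine Subring.closure_le.2 ?_
        rintro _ (⟨b, rfl⟩ | ha)
        · refine Subring.subset_closure (Or.inl ⟨b, ?_⟩)
          exact congr($((q.appLE_map (U := ⊤) (V := ⊤) le_top (homOfLE (le_top : D ≤ ⊤)).op).symm) b)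
        · rename_i a'
          refine Subring.subset_closure (Or.inr ⟨σ (some ⟨x, some (some ⟨a', ha⟩)⟩), ?_⟩)
          rw [hv, hw']
          exact Scheme.Modules.map_smul _ _ _ _
      exact hle (hA.ge (Subring.mem_top a))
    have hunit : IsUnit (res (f x.1)) := X.toRingedSpace.isUnit_res_basicOpen (f x.1)
    obtain ⟨d, hd⟩ := hunit.exists_left_inv
    have hdS : d ∈ S := by
      refine Subring.subset_closure (Or.inr ⟨σ (some ⟨x, some none⟩), ?_⟩)
      rw [hv, hw', Scheme.Modules.map_smul, smul_smul]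
      exact (one_smul _ _).symm.trans (congrArg (· • _) hd.symm)
    refine eq_top_iff.2 fun z _ => ?_
    haveI := (isAffineOpen_top X).isLocalization_basicOpen (f x.1)
    obtain ⟨⟨a, _, j, rfl⟩, ha⟩ := IsLocalization.surj (Submonoid.powers (f x.1)) z
    have : z = res a * d ^ j := by
      have ha' : z * res (f x.1) ^ j = res a := by rw [← map_pow]; exact ha
      rw [← ha', mul_assoc, ← mul_pow, mul_comm (res (f x.1)) d, hd, one_pow, mul_one]
    rw [this]
    exact mul_mem (hres a) (pow_mem hdS j)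

end Groth.Agent.H11Ample
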