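import Groth.Agent.H11Ample.Counit
import Groth.Agent.H8Props.FunDescent.Stalk
import Groth.Agent.H8Props.QCohExtend
import Groth.Agent.H10Coh.QcqsPush
import Groth.Agent.H17.Ample.OpenInProjective

/-!
# A finite type module generated by a direct image is a quotient of an inverse image of finite type
-/

set_option autoImplicit false
set_option linter.style.haveILetI false
set_option linter.unusedSectionVars false

universe u

open CategoryTheory CategoryTheory.Limits AlgebraicGeometry TopologicalSpace Opposite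

noncomputable section

namespace Groth.Agent.H11Ample.CounitFT

open H06Mod

variable {X Y : Scheme.{u}} (f : X ⟶ Y) (M : X.Modules)

/-- The span of the germs of sections over preimages of affine opens is everything if the counit is epi. -/
theorem span_germs_eq_top (hepi : Epi ((Scheme.Modules.pullbackPushforwardAdjunction f).counit.app M)) (x : X) :
    Submodule.span (X.presheaf.stalk x) {m : M.presheaf.stalk x | ∃ (V : Y.Opens) (_ : IsAffineOpen V)
      (hx : f x ∈ V) (t : Γ(M, f ⁻¹ᵁ V)), M.presheaf.germ (f ⁻¹ᵁ V) x hx t = m} = ⊤ := by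
  set P := Submodule.span (X.presheaf.stalk x) {m : M.presheaf.stalk x | ∃ (V : Y.Opens) (_ : IsAffineOpen V)
      (hx : f x ∈ V) (t : Γ(M, f ⁻¹ᵁ V)), M.presheaf.germ (f ⁻¹ᵁ V) x hx t = m} with hPdef
  let Q := M.presheaf.stalk x ⧸ P
  let ψ : M ⟶ H06Mod.sky x Q := H06Mod.homOfStalk P.mkQ
  have hpush : (Scheme.Modules.pushforward f).map ψ = 0 := by
    refine Scheme.Modules.hom_ext _ _ fun W => ?_
    ext t
    refine H06Mod.skyEval_ext (x := x) (N := Q) fun hxW => ?_
    change H06Mod.skyEval x Q (f ⁻¹ᵁ W) hxW (ψ.app (f ⁻¹ᵁ W) t) = H06Mod.skyEval x Q (f ⁻¹ᵁ W) hxW 0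
    rw [map_zero, H06Mod.skyEval_homOfStalk]
    refine (Submodule.Quotient.mk_eq_zero P).2 ?_
    obtain ⟨V, hV, hxV, hVW⟩ := exists_isAffineOpen_mem_and_subset (U := W) (x := f x) hxW
    rw [← TopCat.Presheaf.germ_res_apply M.presheaf (homOfLE (f.preimage_mono hVW)) x hxV t]
    exact Submodule.subset_span ⟨V, hV, hxV, _, rfl⟩
  have hψ : ψ = 0 := by
    have h1 := (Scheme.Modules.pullbackPushforwardAdjunction f).counit.naturality ψ
    rw [← cancel_epi ((Scheme.Modules.pullbackPushforwardAdjunction f).counit.app M), comp_zero]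
    refine h1.symm.trans ?_
    rw [Functor.comp_map, hpush, Functor.map_zero, zero_comp]
  refine eq_top_iff.2 fun m _ => ?_
  obtain ⟨W, hxW, t, rfl⟩ := M.presheaf.exists_germ_eq m
  exact (Submodule.Quotient.mk_eq_zero P).1 ((H06Mod.skyEval_homOfStalk P.mkQ W hxW t).symm.trans
    (congrArg (H06Mod.skyEval x Q W hxW) (congr($(congrArg (fun k => Scheme.Modules.Hom.app k W) hψ) t))))

/-- A candidate: a finite type module with a map to the direct image. -/
structure Cand where
  G : Y.Modules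
  qcoh : Coh.IsQCoh G
  ft : CohB1.IsFT G
  τ : G ⟶ (Scheme.Modules.pushforward f).obj M

variable {f M}

/-- The transpose of the map of a candidate. -/
def Cand.tr (c : Cand f M) : (Scheme.Modules.pullback f).obj c.G ⟶ M :=
  ((Scheme.Modules.pullbackPushforwardAdjunction f).homEquiv _ _).symm c.τ

/-- The sum of two candidates. -/
def Cand.sum (c d : Cand f M) : Cand f M :=
  haveI : c.G.IsQuasicoherent := c.qcoh
  haveI : d.G.IsQuasicoherent := d.qcoh
  { G := c.G ⊞ d.G
    qcoh := H8Props.QCohExtend.isQuasicoherent_biprod c.G d.G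
    ft := H17.OpenInProj.isFT_biprod c.ft d.ft
    τ := biprod.desc c.τ d.τ }

theorem Cand.range_le_sum_left (c d : Cand f M) (x : X) :
    LinearMap.range (stalkLin c.tr x) ≤ LinearMap.range (stalkLin (c.sum d).tr x) := by
  rintro _ ⟨a, rfl⟩
  have e : c.tr = (Scheme.Modules.pullback f).map (biprod.inl : c.G ⟶ (c.sum d).G) ≫ (c.sum d).tr := by
    refine Eq.trans ?_ (Adjunction.homEquiv_naturality_left_symm _ _ _)
    exact congrArg _ (biprod.inl_desc c.τ d.τ).symm
  obtain ⟨U, hU, a, rfl⟩ := TopCat.Presheaf.exists_germ_eq _ a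
  rw [stalkLin_germ, e]
  exact ⟨_, stalkLin_germ _ x U hU _⟩

theorem Cand.range_le_sum_right (c d : Cand f M) (x : X) :
    LinearMap.range (stalkLin d.tr x) ≤ LinearMap.range (stalkLin (c.sum d).tr x) := by
  rintro _ ⟨a, rfl⟩
  have e : d.tr = (Scheme.Modules.pullback f).map (biprod.inr : d.G ⟶ (c.sum d).G) ≫ (c.sum d).tr := by
    refine Eq.trans ?_ (Adjunction.homEquiv_naturality_left_symm _ _ _)
    exact congrArg _ (biprod.inr_desc c.τ d.τ).symm
  obtain ⟨U, hU, a, rfl⟩ := TopCat.Presheaf.exists_germ_eq _ a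
  rw [stalkLin_germ, e]
  exact ⟨_, stalkLin_germ _ x U hU _⟩

variable [CompactSpace Y] [QuasiSeparatedSpace Y] [QuasiCompact f] [QuasiSeparated f]

theorem exists_cand_germ (hM : Coh.IsQCoh M) {V : Y.Opens} (hV : IsAffineOpen V) (t : Γ(M, f ⁻¹ᵁ V)) :
    ∃ c : Cand f M, ∀ (x : X) (hx : f x ∈ V), M.presheaf.germ (f ⁻¹ᵁ V) x hx t ∈ LinearMap.range (stalkLin c.tr x) := by
  haveI : M.IsQuasicoherent := hM
  haveI : Coh.IsQCoh ((Scheme.Modules.pushforward f).obj M) := H10Coh.isQuasicoherent_pushforward f M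
  obtain ⟨G, i, -, hq, hft, g, hg⟩ :=
    H8Props.QCohExtend.exists_subsheaf_mem ((Scheme.Modules.pushforward f).obj M) ⟨V, hV⟩
      (show ((Scheme.Modules.pushforward f).obj M).val.obj (op V) from t)
  refine ⟨⟨G, hq, hft, i⟩, fun x hx => ?_⟩
  refine ⟨((Scheme.Modules.pullback f).obj G).presheaf.germ (f ⁻¹ᵁ V) x hx (OmegaSh.pullSect f G V g), ?_⟩
  rw [stalkLin_germ]
  refine congrArg (M.presheaf.germ (f ⁻¹ᵁ V) x hx) ?_
  refine (H06Mod.homEquiv_app f G _ V g).symm.trans ?_
  rw [Cand.tr, Equiv.apply_symm_apply]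
  exact hg

theorem exists_cand_surjective_at (hM : Coh.IsQCoh M) (hft : CohB1.IsFT M) [Nonempty (Cand f M)]
    (hepi : Epi ((Scheme.Modules.pullbackPushforwardAdjunction f).counit.app M)) (x : X) :
    ∃ c : Cand f M, Function.Surjective (stalkLin c.tr x) := by
  classical
  haveI := H06Mod.finite_stalk M hft x
  have hsp := span_germs_eq_top f M hepi x
  obtain ⟨T, hTs, hT⟩ := (Submodule.fg_span_iff_fg_span_finset_subset _).1 (hsp.symm ▸ Module.Finite.fg_top)
  have key : ∀ T' : Finset (M.presheaf.stalk x), (↑T' : Set _) ⊆ {m : M.presheaf.stalk x |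
      ∃ (V : Y.Opens) (_ : IsAffineOpen V) (hx : f x ∈ V) (t : Γ(M, f ⁻¹ᵁ V)),
        M.presheaf.germ (f ⁻¹ᵁ V) x hx t = m} →
      ∃ c : Cand f M, ∀ m ∈ T', m ∈ LinearMap.range (stalkLin c.tr x) := by
    intro T'
    induction T' using Finset.induction_on with
    | empty => exact fun _ => ⟨Classical.arbitrary _, fun m hm => absurd hm (Finset.notMem_empty m)⟩
    | insert m T' _ ih =>
      intro h
      obtain ⟨c, hc⟩ := ih fun z hz => h (Finset.mem_insert_of_mem hz)
      obtain ⟨V, hV, hxV, t, rfl⟩ := h (Finset.mem_insert_self m T')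
      obtain ⟨d, hd⟩ := exists_cand_germ hM hV t
      refine ⟨c.sum d, fun z hz => ?_⟩
      rcases Finset.mem_insert.1 hz with rfl | hz
      · exact c.range_le_sum_right d x (hd x hxV)
      · exact c.range_le_sum_left d x (hc z hz)
  obtain ⟨c, hc⟩ := key T hTs
  refine ⟨c, LinearMap.range_eq_top.1 (eq_top_iff.2 ?_)⟩
  rw [← hsp, hT]
  exact Submodule.span_le.2 hc

theorem exists_nhd_surjective (hft : CohB1.IsFT M) (c : Cand f M) {x : X}
    (hx : Function.Surjective (stalkLin c.tr x)) :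
    ∃ U : X.Opens, x ∈ U ∧ ∀ y ∈ U, Function.Surjective (stalkLin c.tr y) := by
  have hC : CohB1.IsFT (cokernel c.tr) := H16Derived.KFlat.Stalk.isFT_of_epi (cokernel.π c.tr) hft
  obtain ⟨U, hxU, hU⟩ := H10Coh.exists_nhd_isZero (cokernel c.tr) hC x (H10Coh.subsingleton_stalk_cokernel c.tr x hx)
  refine ⟨U, hxU, fun y hy => ?_⟩
  haveI := H10Coh.epi_restrict_of_isZero_cokernel c.tr U hU
  intro m
  obtain ⟨W, hyW, t, rfl⟩ := TopCat.Presheaf.exists_germ_eq _ m
  obtain ⟨B, hB, hyB, s, hs⟩ := H10Coh.exists_nhds_lift_of_epi ((Scheme.Modules.restrictFunctor U.ι).map c.tr)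
    (U.ι ⁻¹ᵁ W) (M.presheaf.map (homOfLE (Scheme.Hom.image_preimage_le U.ι W)).op t) ⟨y, hy⟩ hyW
  have hyB' : y ∈ U.ι ''ᵁ B := ⟨⟨y, hy⟩, hyB, rfl⟩
  refine ⟨((Scheme.Modules.pullback f).obj c.G).presheaf.germ (U.ι ''ᵁ B) y hyB' s, ?_⟩
  rw [stalkLin_germ]
  have hs' : c.tr.app (U.ι ''ᵁ B) s =
      M.presheaf.map (homOfLE (U.ι.image_mono hB)).op (M.presheaf.map (homOfLE (Scheme.Hom.image_preimage_le U.ι W)).op t) := hs
  rw [hs']
  simp only [TopCat.Presheaf.germ_res_apply]

/-- A finite type module with surjective counit is a quotient of the inverse image of a finite type module. -/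
theorem exists_epi_pullback [CompactSpace X] (hM : Coh.IsQCoh M) (hft : CohB1.IsFT M)
    (hepi : Epi ((Scheme.Modules.pullbackPushforwardAdjunction f).counit.app M)) :
    ∃ (G : Y.Modules) (π : (Scheme.Modules.pullback f).obj G ⟶ M), Coh.IsQCoh G ∧ CohB1.IsFT G ∧ Epi π := by
  classical
  haveI : Nonempty (Cand f M) := by
    by_cases hY : Nonempty Y
    · obtain ⟨y⟩ := hY
      obtain ⟨V, hV, -, -⟩ := exists_isAffineOpen_mem_and_subset (U := (⊤ : Y.Opens)) (x := y) trivial
      exact ⟨(exists_cand_germ (f := f) hM hV 0).choose⟩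
    · haveI : IsEmpty Y := not_nonempty_iff.1 hY
      obtain ⟨c, -⟩ := exists_cand_germ (f := f) hM (V := ⊥) (isAffineOpen_bot Y) 0
      exact ⟨c⟩
  choose c hc using exists_cand_surjective_at hM hft hepi
  choose U hxU hU using fun x => exists_nhd_surjective hft (c x) (hc x)
  obtain ⟨T, hT⟩ := CompactSpace.elim_nhds_subcover (fun x => (U x : Set X))
    (fun x => (U x).isOpen.mem_nhds (hxU x))
  have key : ∀ T' : Finset X, ∃ d : Cand f M, ∀ z ∈ T', ∀ y ∈ U z, Function.Surjective (stalkLin d.tr y) := by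
    intro T'
    induction T' using Finset.induction_on with
    | empty => exact ⟨Classical.arbitrary _, fun z hz => absurd hz (Finset.notMem_empty z)⟩
    | insert m T' _ ih =>
      obtain ⟨d, hd⟩ := ih
      refine ⟨d.sum (c m), fun z hz y hy => LinearMap.range_eq_top.1 (eq_top_iff.2 ?_)⟩
      rcases Finset.mem_insert.1 hz with rfl | hz
      · exact (LinearMap.range_eq_top.2 (hU z y hy)).ge.trans (d.range_le_sum_right (c z) y)
      · exact (LinearMap.range_eq_top.2 (hd z hz y hy)).ge.trans (d.range_le_sum_left (c m) y)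
  obtain ⟨d, hd⟩ := key T
  refine ⟨d.G, d.tr, d.qcoh, d.ft, (H8Props.FunDescent.epi_iff d.tr).2 fun y => ?_⟩
  obtain ⟨z, hz, hy⟩ := Set.mem_iUnion₂.1 (hT.ge (Set.mem_univ y))
  exact hd z hz y hy

end Groth.Agent.H11Ample.CounitFT
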